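import Cfsg.Agent.Lib.Invol.AbelTwo.Trichotomy
import Cfsg.Agent.Lib.Fus.OrderEight
import Cfsg.Agent.Lib.Invol.BrauerSuzuki
import Cfsg.Agent.Lib.Invol.GW.Consumers.CentAlt
import Cfsg.Agent.Lib.Invol.GW.Dihedral.ThreeDoneFinal

/-!
# Simple groups with Sylow 2-subgroups of order eight
-/

set_option autoImplicit false
set_option linter.unusedSectionVars false
set_option linter.style.haveILetI false

namespace Cfsg.Agent.Invol.AbelTwo

open Subgroup

universe u

variable {G : Type u} [Group G] [Finite G]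

/-- `L2(q)` of odd `q` with Sylow 2-subgroups of order eight. -/
theorem mod_sixteen {F : Type} [Field F] [Fintype F] (hodd : Odd (Fintype.card F)) [IsSimpleGroup G]
    (e : G ≃* Matrix.ProjectiveSpecialLinearGroup (Fin 2) F) (T : Sylow 2 G)
    (hT : Nat.card ↥(T : Subgroup G) = 8) : Fintype.card F % 16 = 7 ∨ Fintype.card F % 16 = 9 := by
  haveI : Fact (Nat.Prime 2) := ⟨Nat.prime_two⟩
  have h := Invol.GW.card_PSLTwo (F := F) hodd
  rw [← Nat.card_congr e.toEquiv] at h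
  obtain ⟨c, hc⟩ : 8 ∣ Nat.card G := hT ▸ card_subgroup_dvd_card _
  have hodd' : ¬ 2 ∣ c := by
    rintro ⟨d, hd⟩
    have h1 : 2 ^ 4 ∣ Nat.card ↥(T : Subgroup G) := T.pow_dvd_card_of_pow_dvd_card ⟨d, by rw [hc, hd]; ring⟩
    rw [hT] at h1
    norm_num at h1
  obtain ⟨k, hk⟩ := hodd
  rw [hk] at h
  rw [hk]
  rw [hc, show 2 * k + 1 - 1 = 2 * k by omega] at h
  -- `4 c` has the parity of `k (k + 1) / 4`
  have h1 : 4 * c = (2 * k + 1) * (k * (k + 1)) := by linarith [h, show (2 * k + 1) * (2 * k * (2 * k + 1 + 1)) = 4 * ((2 * k + 1) * (k * (k + 1))) by ring]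
  have hcases : k % 8 = 0 ∨ k % 8 = 1 ∨ k % 8 = 2 ∨ k % 8 = 5 ∨ k % 8 = 6 ∨ k % 8 = 7 ∨ k % 8 = 3 ∨ k % 8 = 4 := by omega
  have hmod : ((2 * k + 1) * (k * (k + 1))) % 8 = 4 := by
    rw [← h1]
    omega
  rw [Nat.mul_mod, Nat.mul_mod k (k + 1), Nat.add_mod, Nat.mul_mod 2 k, Nat.add_mod k 1] at hmod
  rcases hcases with e | e | e | e | e | e | e | e <;> rw [e] at hmod <;> norm_num at hmod <;> omega

/-- The cases of a simple group with Sylow 2-subgroups of order eight. -/
theorem eight_cases [IsSimpleGroup G] (hG : ¬ IsMulCommutative G) (T : Sylow 2 G)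
    (hT : Nat.card ↥(T : Subgroup G) = 8) :
    (∃ (F : Type) (_ : Field F) (_ : Fintype F), Fintype.card F = 8 ∧
      Nonempty (G ≃* Matrix.ProjectiveSpecialLinearGroup (Fin 2) F)) ∨
    (∃ (F : Type) (_ : Field F) (_ : Fintype F), (Fintype.card F % 16 = 7 ∨ Fintype.card F % 16 = 9) ∧
      Nonempty (G ≃* Matrix.ProjectiveSpecialLinearGroup (Fin 2) F)) ∨
    Nonempty (G ≃* alternatingGroup (Fin 7)) ∨
    ((∀ x ∈ (T : Subgroup G), x * x = 1) ∧ ∀ t ∈ (T : Subgroup G), t ≠ 1 → JRShape t) := by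
  classical
  haveI : Fact (Nat.Prime 2) := ⟨Nat.prime_two⟩
  have h2 : 2 ∣ Nat.card G := (show 2 ∣ 8 by norm_num).trans (hT ▸ card_subgroup_dvd_card _)
  by_cases hc : IsMulCommutative ↥(T : Subgroup G)
  · rcases trichotomy hG h2 T hc with ⟨F, i, j, n, hn, hF, ⟨e⟩⟩ | ⟨F, i, j, hodd, -, h8, ⟨e⟩⟩ | ⟨-, h⟩
    · refine Or.inl ⟨F, i, j, ?_, ⟨e⟩⟩
      haveI : CharP F 2 := by
        obtain ⟨p, hp⟩ := CharP.exists F
        haveI : Fact p.Prime := ⟨CharP.char_is_prime F p⟩
        obtain rfl : p = 2 := Dickson.p_eq_two p (by rw [hF]; exact Nat.even_pow.2 ⟨even_two, by omega⟩)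
        exact hp
      have hcard : Nat.card G = 2 ^ n * ((2 ^ n - 1) * (2 ^ n + 1)) := by
        rw [Nat.card_congr (e.trans (Invol.GW.SLTwoEquivPSL (F := F)).symm).toEquiv, Fus.PSLTwo.natCard_SL_two, hF]
      have hle : n ≤ 3 := by
        have h1 : 2 ^ n ∣ Nat.card ↥(T : Subgroup G) := T.pow_dvd_card_of_pow_dvd_card (hcard ▸ dvd_mul_right _ _)
        rw [hT] at h1
        exact (Nat.pow_dvd_pow_iff_le_right (le_refl 2)).1 (show 2 ^ n ∣ 2 ^ 3 from h1)
      have hge : n ≠ 2 := by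
        rintro rfl
        norm_num at hcard
        have h1 := hT ▸ card_subgroup_dvd_card (T : Subgroup G)
        rw [hcard] at h1
        omega
      rw [hF, show n = 3 by omega]
      norm_num
    · have := mod_sixteen hodd e T hT
      omega
    · exact Or.inr (Or.inr (Or.inr h))
  rcases Fus.dihedral_or_quaternion_of_card_eight hT (fun h => hc ⟨⟨h⟩⟩) with he | he'
  · haveI : Group.IsPerfect G := ⟨((inferInstance : (commutator G).Normal).eq_bot_or_eq_top).resolve_left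
      fun h => hG ⟨⟨fun a b => commutatorElement_eq_one_iff_mul_comm.1
        (mem_bot.1 (h ▸ commutator_mem_commutator (mem_top a) (mem_top b)))⟩⟩⟩
    have hO : Cfsg.oddCore G = ⊥ := by
      refine (Grp.pPrimeCore_isNormal (p := 2) (G := G)).eq_bot_or_eq_top.resolve_right fun h => ?_
      have hco : (Nat.card ↥(Cfsg.pPrimeCore 2 G)).Coprime 2 := Grp.pPrimeCore_coprime
      rw [h, Subgroup.card_top] at hco
      exact Nat.not_even_iff_odd.2 (Nat.coprime_two_right.1 hco) (even_iff_two_dvd.2 h2)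
    have strip : ∀ {Q : Type} [Group Q], Nonempty (G ⧸ Cfsg.oddCore G ≃* Q) → Nonempty (G ≃* Q) :=
      fun {Q} _ ⟨f⟩ =>
        ⟨((QuotientGroup.quotientMulEquivOfEq hO).trans QuotientGroup.quotientBot).symm.trans f⟩
    rcases GW.Dihedral.gwStatement_holds (X := G) T 4 (by norm_num) he with ⟨F, i, j, hodd, -, hf⟩ | hf
    · obtain ⟨f⟩ := strip hf
      exact Or.inr (Or.inl ⟨F, i, j, mod_sixteen hodd f T hT, ⟨f⟩⟩)
    · exact Or.inr (Or.inr (Or.inl (strip hf)))
  · exfalso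
    obtain ⟨e⟩ := he'
    have hone : BS.TwoRankOne G := BS.twoRankOne_of_sylow T fun u hu v hv hu2 hv2 => by
      have key : ∀ w (hw : w ∈ (T : Subgroup G)), orderOf w = 2 →
          e ⟨w, hw⟩ = QuaternionGroup.a ((2 : ℕ) : ZMod (2 * 2)) := fun w hw hw2 => by
        refine ((BS.quaternion_sq_one (x := e ⟨w, hw⟩) ?_).resolve_left fun h => ?_)
        · rw [← map_pow, show (⟨w, hw⟩ : ↥(T : Subgroup G)) ^ 2 = 1 from
            Subtype.ext ((orderOf_dvd_iff_pow_eq_one).1 (dvd_of_eq hw2)), map_one]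
        · rw [e.map_eq_one_iff] at h
          rw [show w = 1 from congrArg Subtype.val h, orderOf_one] at hw2
          omega
      exact congrArg Subtype.val (e.injective ((key u hu hu2).trans (key v hv hv2).symm))
    obtain ⟨z, hz⟩ := exists_prime_orderOf_dvd_card' (G := G) 2 h2
    obtain ⟨N, hN, hNodd, hc'⟩ := BS.exists_odd_normal hone hz
    have hN0 : N = ⊥ := hN.eq_bot_or_eq_top.resolve_right fun h => by
      rw [h, card_top] at hNodd
      exact Nat.not_even_iff_odd.2 hNodd (even_iff_two_dvd.2 h2)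
    have hzc : z ∈ center G := mem_center_iff.2 fun g => by
      have h1 := hc' g
      rw [hN0, mem_bot, mul_inv_eq_one, mul_inv_eq_iff_eq_mul] at h1
      exact h1.symm
    rw [Transfer.CentralFour.center_eq_bot hG, mem_bot] at hzc
    rw [hzc, orderOf_one] at hz
    omega

end Cfsg.Agent.Invol.AbelTwo
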