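import Cfsg.Agent.Lib.Invol.AbelTwo.Trichotomy
import Cfsg.Agent.Lib.Fus.Goldschmidt.Main

/-!
# Groups in which no 2-element is conjugate to another of its powers

Two involutions of a Sylow 2-subgroup commute, so they form a strongly closed elementary abelian subgroup.
-/

set_option autoImplicit false
set_option linter.unusedSectionVars false
set_option linter.style.haveILetI false

namespace Cfsg.Agent.Invol.AbelTwo

open Subgroup Fus.Gold

universe u

/-- The unitary groups in characteristic two have a real element of order four. -/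
theorem psu_real_four {F : Type} [Field F] [Fintype F] {q n : ℕ} (hF : Fintype.card F = q ^ 2) (hq : q = 2 ^ n)
    (hn : 1 ≤ n) (P : Sylow 2 (Cfsg.PSU 3 F q)) :
    ∃ x ∈ (P : Subgroup (Cfsg.PSU 3 F q)), ∃ g, g * x * g⁻¹ = x⁻¹ ∧ x * x ≠ 1 := by
  haveI : Fact (Fintype.card F = q ^ 2) := ⟨hF⟩
  haveI : CharP F 2 := Recog.SU3Two.charP_two (m := n * 2) (by rw [hF, hq, ← pow_mul])
  obtain ⟨e⟩ := Recog.SU3Two.sylow_psu hq hn P
  obtain ⟨x, hx⟩ := Recog.SU3Two.exists_trq_one (F := F) (q := q)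
  have hsol : ∀ a : F, ∃ u : Recog.SU3Two.UT F q, u.a = a := fun a => by
    refine ⟨⟨a, x * (a * a ^ q), ?_⟩, rfl⟩
    have h1 : (a * a ^ q) ^ q = a * a ^ q := by rw [mul_pow, Recog.SU3Two.pq_pq, mul_comm]
    rw [mul_pow, h1, ← add_mul, hx, one_mul]
  obtain ⟨u, hu⟩ := hsol 1
  obtain ⟨v, hv⟩ := hsol x
  have hrel : u * v * u = v := by
    refine Recog.SU3Two.UT.ext ?_ ?_
    · rw [Recog.SU3Two.UT.mul_a, Recog.SU3Two.UT.mul_a, hu, hv]
      linear_combination (CharTwo.two_eq_zero (R := F))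
    · rw [Recog.SU3Two.UT.mul_b, Recog.SU3Two.UT.mul_b, Recog.SU3Two.UT.mul_a, hu, hv, one_pow, Recog.SU3Two.pq_add,
        one_pow]
      linear_combination hx + (u.b + 1) * (CharTwo.two_eq_zero (R := F))
  have hu2 : u * u ≠ 1 := fun h => by
    have h1 := Recog.SU3Two.UT.sq_b u
    rw [pow_two, h, Recog.SU3Two.UT.one_b, hu, one_pow, mul_one] at h1
    exact zero_ne_one h1
  refine ⟨e u, (e u).2, ((e v)⁻¹ : ↥(P : Subgroup (Cfsg.PSU 3 F q))), ?_, fun h => hu2 (e.injective ?_)⟩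
  · have h1 : v⁻¹ * u * v = u⁻¹ := by
      rw [eq_inv_iff_mul_eq_one, show v⁻¹ * u * v * u = v⁻¹ * (u * v * u) by group, hrel, inv_mul_cancel]
    have h2 := congrArg (fun y : ↥(P : Subgroup (Cfsg.PSU 3 F q)) => (y : Cfsg.PSU 3 F q)) (congrArg e h1)
    simp only [map_mul, map_inv, Subgroup.coe_mul, Subgroup.coe_inv] at h2
    simpa using h2
  · rw [map_mul, map_one]
    exact Subtype.ext h

variable {G : Type u} [Group G] [Finite G]

/-- The cases. -/
theorem irrational_cases [IsSimpleGroup G] (hna : ¬ IsMulCommutative G)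
    (hirr : ∀ x : G, (∀ r : ℕ, r.Prime → r ∣ orderOf x → r = 2) →
      normalizer ((zpowers x : Subgroup G) : Set G) ≤ centralizer {x}) :
    (∃ (F : Type) (_ : Field F) (_ : Fintype F), 4 ≤ Fintype.card F ∧
        (Fintype.card F % 8 = 0 ∨ Fintype.card F % 8 = 3 ∨ Fintype.card F % 8 = 5) ∧
        Nonempty (G ≃* Matrix.ProjectiveSpecialLinearGroup (Fin 2) F)) ∨
    Cfsg.IsSuzuki G ∨
    ∃ S : Sylow 2 G, Nat.card ↥(S : Subgroup G) = 8 ∧ (∀ x ∈ (S : Subgroup G), x * x = 1) ∧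
      ∀ t ∈ (S : Subgroup G), t ≠ 1 → JRShape t := by
  classical
  haveI : Fact (Nat.Prime 2) := ⟨Nat.prime_two⟩
  have h2 : 2 ∣ Nat.card G := by
    by_contra h
    exact hna ⟨⟨IsSimpleGroup.comm_iff_isSolvable.2
      (S0205.result (Nat.not_even_iff_odd.1 fun he => h (even_iff_two_dvd.1 he)))⟩⟩
  -- a 2-element inverted by anything is an involution
  have hreal : ∀ (P : Sylow 2 G) (x : G), x ∈ (P : Subgroup G) → ∀ g : G, g * x * g⁻¹ = x⁻¹ → x * x = 1 := by
    intro P x hx g hg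
    have h1 : ∀ r : ℕ, r.Prime → r ∣ orderOf x → r = 2 := fun r hr hd => by
      obtain ⟨k, hk⟩ := IsPGroup.iff_orderOf.1 P.isPGroup' ⟨x, hx⟩
      rw [Subgroup.orderOf_mk] at hk
      exact (Nat.prime_dvd_prime_iff_eq hr Nat.prime_two).1 (hr.dvd_of_dvd_pow (hk ▸ hd))
    have hgn : g ∈ normalizer ((zpowers x : Subgroup G) : Set G) := mem_normalizer_fintype fun y hy => by
      obtain ⟨i, rfl⟩ := mem_zpowers_iff.1 hy
      exact mem_zpowers_iff.2 ⟨-i, by rw [← conj_zpow, hg, zpow_neg, inv_zpow]⟩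
    have h3 := mem_centralizer_singleton_iff.1 (hirr x h1 hgn)
    rw [h3, mul_inv_cancel_right] at hg
    exact mul_eq_one_iff_eq_inv.2 hg
  obtain ⟨S⟩ : Nonempty (Sylow 2 G) := inferInstance
  have hcomm : ∀ u ∈ (S : Subgroup G), u * u = 1 → ∀ v ∈ (S : Subgroup G), v * v = 1 → Commute u v := by
    intro u hu huu v hv hvv
    have h1 := hreal S (u * v) (mul_mem hu hv) u (by
      rw [_root_.mul_inv_rev, inv_eq_of_mul_eq_one_right huu, inv_eq_of_mul_eq_one_right hvv,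
        show u * (u * v) * u = u * u * (v * u) by group, huu, one_mul])
    show u * v = v * u
    rw [← inv_eq_of_mul_eq_one_right h1, _root_.mul_inv_rev, inv_eq_of_mul_eq_one_right huu,
      inv_eq_of_mul_eq_one_right hvv]
  let A : Subgroup G :=
    { carrier := {x | x ∈ (S : Subgroup G) ∧ x * x = 1}
      one_mem' := ⟨one_mem _, one_mul 1⟩
      mul_mem' := fun {x y} hx hy => ⟨mul_mem hx.1 hy.1, by
        rw [(hcomm y hy.1 hy.2 x hx.1 hx.2).mul_mul_mul_comm, hx.2, hy.2, one_mul]⟩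
      inv_mem' := fun {x} hx => ⟨inv_mem hx.1, by rw [← _root_.mul_inv_rev, hx.2, inv_one]⟩ }
  have hAS : A ≤ (S : Subgroup G) := fun x hx => hx.1
  have hA : Cfsg.IsElementaryAbelian 2 A :=
    ⟨⟨⟨fun a b => Subtype.ext (hcomm a a.2.1 a.2.2 b b.2.1 b.2.2).eq⟩⟩, fun x hx => (pow_two x).trans hx.2⟩
  have hne : A ≠ ⊥ := by
    obtain ⟨x, hx⟩ := exists_prime_orderOf_dvd_card' (G := ↥(S : Subgroup G)) 2 (S.dvd_card_of_dvd_card h2)
    intro e
    have h1 : (x : G) ∈ A := ⟨x.2, by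
      rw [← pow_two, ← Subgroup.coe_pow, orderOf_dvd_iff_pow_eq_one.1 (dvd_of_eq hx), Subgroup.coe_one]⟩
    rw [e, mem_bot] at h1
    rw [show x = 1 from Subtype.ext h1, orderOf_one] at hx
    omega
  have hsc : Cfsg.IsStronglyClosed A (S : Subgroup G) := ⟨hAS, fun x hx g hg => ⟨hg, by
    rw [show g * x * g⁻¹ * (g * x * g⁻¹) = g * (x * x) * g⁻¹ by group, hx.2]; group⟩⟩
  obtain ⟨hSA | ⟨H, hH⟩, -⟩ := conclusion_all G inferInstance hna S A hne hA hsc
  · haveI hSc : IsMulCommutative ↥(S : Subgroup G) := hSA ▸ hA.1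
    rcases trichotomy hna h2 S hSc with ⟨F, i, j, n, hn, hF, he⟩ | ⟨F, i, j, -, h5, h8, he⟩ | h
    · by_cases hn3 : 3 ≤ n
      · refine Or.inl ⟨F, i, j, ?_, Or.inl ?_, he⟩
        · rw [hF]; exact Nat.pow_le_pow_right two_pos hn
        · obtain ⟨l, rfl⟩ := Nat.exists_eq_add_of_le hn3
          rw [hF, pow_add]; simp
      · obtain rfl : n = 2 := by omega
        haveI : CharP F 2 := by
          obtain ⟨p, hp⟩ := CharP.exists F
          haveI : Fact p.Prime := ⟨CharP.char_is_prime F p⟩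
          obtain rfl : p = 2 := Dickson.p_eq_two p (by rw [hF]; decide)
          exact hp
        obtain ⟨e⟩ := he
        exact Or.inl ⟨ZMod 5, @ZMod.instField 5 ⟨by norm_num⟩, inferInstance, by rw [ZMod.card]; norm_num,
          Or.inr (Or.inr (by rw [ZMod.card])),
          psl_five_of_four hF (e.trans (Invol.GW.SLTwoEquivPSL (F := F)).symm)⟩
    · exact Or.inl ⟨F, i, j, by omega, Or.inr h8, he⟩
    · exact Or.inr (Or.inr ⟨S, h⟩)
  · rcases (bender_of_se hna hH).1 with ⟨F, i, j, hc, h4, ⟨e⟩⟩ | ⟨F, i, j, q, hq, h4, hF, ⟨e⟩⟩ |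
      ⟨F, i, j, m, hm, hF, ⟨e⟩⟩
    · haveI := hc
      obtain ⟨k, hk⟩ := FiniteField.card F 2
      by_cases hk3 : 3 ≤ (k : ℕ)
      · refine Or.inl ⟨F, i, j, h4, Or.inl ?_, ⟨e.trans Invol.GW.SLTwoEquivPSL⟩⟩
        obtain ⟨l, hl⟩ := Nat.exists_eq_add_of_le hk3
        rw [hk.2, hl, pow_add]; simp
      · have hF4 : Fintype.card F = 4 := by
          have : 2 ^ (k : ℕ) ≤ 2 ^ 2 := Nat.pow_le_pow_right two_pos (by omega)
          omega
        exact Or.inl ⟨ZMod 5, @ZMod.instField 5 ⟨by norm_num⟩, inferInstance, by rw [ZMod.card]; norm_num,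
          Or.inr (Or.inr (by rw [ZMod.card])), psl_five_of_four hF4 e⟩
    · exfalso
      obtain ⟨p, hc⟩ := CharP.exists F
      haveI : Fact p.Prime := ⟨CharP.char_is_prime F p⟩
      obtain rfl : p = 2 := Dickson.p_eq_two p (by rw [hF]; exact hq.pow_of_ne_zero two_ne_zero)
      obtain ⟨k, hk⟩ := FiniteField.card F 2
      obtain ⟨n, -, hn⟩ := (Nat.dvd_prime_pow Nat.prime_two).1
        (show q ∣ 2 ^ (k : ℕ) from hk.2 ▸ hF ▸ dvd_pow_self q two_ne_zero)
      haveI : Finite (Cfsg.PSU 3 F q) := Finite.of_equiv G e.toEquiv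
      have hn1 : 1 ≤ n := Nat.one_le_iff_ne_zero.2 (by rintro rfl; simp [hn] at h4)
      let P := S.mapSurjective (f := e.toMonoidHom) e.surjective
      obtain ⟨x, hx, g, hg, hxx⟩ := psu_real_four hF hn hn1 P
      rw [show (P : Subgroup (Cfsg.PSU 3 F q)) = (S : Subgroup G).map e.toMonoidHom from Sylow.coe_mapSurjective _ _] at hx
      obtain ⟨y, hy, rfl⟩ := hx
      obtain ⟨g', rfl⟩ := e.surjective g
      refine hxx ?_
      show e y * e y = 1
      rw [← map_mul, hreal S y hy g' (e.injective (by rw [map_mul, map_mul, map_inv, map_inv]; exact hg)), map_one]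
    · refine Or.inr (Or.inl ⟨inferInstance, m, hm, ?_⟩)
      rw [Nat.card_congr e.toEquiv, Recog.SuzMax.card_lie ⟨hm, hF⟩, Recog.SuzMax.szOrd]
      ring

end Cfsg.Agent.Invol.AbelTwo
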