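import Cfsg.Agent.Lib.Invol.AbelTwo.Hub
import Cfsg.Agent.Lib.Invol.AbelTwo.Irrational
import Cfsg.Agent.Lib.Invol.AbelTwo.EightSylow

/-!
# Classification statements that follow from `WardHub`
-/

set_option autoImplicit false
set_option linter.unusedSectionVars false
set_option linter.style.haveILetI false

namespace Cfsg.Agent.Invol.AbelTwo

open Subgroup

universe u

variable {G : Type u} [Group G] [Finite G]

/-- Abelian Sylow 2-subgroups. -/
theorem simple_abelian_two (hub : JankoWard.WardHub.{u}) [IsSimpleGroup G] (hG : ¬ IsMulCommutative G)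
    (S : Sylow 2 G) (hS : IsMulCommutative ↥(S : Subgroup G)) :
    (∃ a : ℕ, 2 ≤ a ∧ ∃ (F : Type) (_ : Field F) (_ : Fintype F), Fintype.card F = 2 ^ a ∧
      Nonempty (G ≃* Matrix.ProjectiveSpecialLinearGroup (Fin 2) F)) ∨
    (∃ (F : Type) (_ : Field F) (_ : Fintype F), (Fintype.card F % 8 = 3 ∨ Fintype.card F % 8 = 5) ∧
      Nonempty (G ≃* Matrix.ProjectiveSpecialLinearGroup (Fin 2) F)) ∨
    Cfsg.IsRee G ∨ Cfsg.IsJ1 G := by
  have h2 : 2 ∣ Nat.card G := ThreeFree.two_dvd_card hG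
  rcases trichotomy hG h2 S hS with ⟨F, i, j, n, hn, hF, he⟩ | ⟨F, i, j, -, -, h8, he⟩ | ⟨h8, hE, h⟩
  · exact Or.inl ⟨n, hn, F, i, j, hF, he⟩
  · exact Or.inr (Or.inl ⟨F, i, j, h8, he⟩)
  · rcases ree_or_j1 hub hG S h8 hE h with ⟨-, h'⟩ | ⟨-, h'⟩
    · exact Or.inr (Or.inr (Or.inl h'))
    · exact Or.inr (Or.inr (Or.inr h'))

/-- Sylow 2-subgroups of order eight. -/
theorem simple_eight (hub : JankoWard.WardHub.{u}) [IsSimpleGroup G] (hG : ¬ IsMulCommutative G) (T : Sylow 2 G)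
    (hT : Nat.card ↥(T : Subgroup G) = 8) :
    (∃ (F : Type) (_ : Field F) (_ : Fintype F), Fintype.card F = 8 ∧
      Nonempty (G ≃* Matrix.ProjectiveSpecialLinearGroup (Fin 2) F)) ∨
    (∃ (F : Type) (_ : Field F) (_ : Fintype F), (Fintype.card F % 16 = 7 ∨ Fintype.card F % 16 = 9) ∧
      Nonempty (G ≃* Matrix.ProjectiveSpecialLinearGroup (Fin 2) F)) ∨
    Nonempty (G ≃* alternatingGroup (Fin 7)) ∨ Cfsg.IsJ1 G ∨ Cfsg.IsRee G := by
  rcases eight_cases hG T hT with h | h | h | ⟨hE, h⟩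
  · exact Or.inl h
  · exact Or.inr (Or.inl h)
  · exact Or.inr (Or.inr (Or.inl h))
  · rcases ree_or_j1 hub hG T hT hE h with ⟨-, h'⟩ | ⟨-, h'⟩
    · exact Or.inr (Or.inr (Or.inr (Or.inr h')))
    · exact Or.inr (Or.inr (Or.inr (Or.inl h')))

/-- Groups in which no 2-element is conjugate to another power of itself. -/
theorem simple_irrational (hub : JankoWard.WardHub.{u}) [IsSimpleGroup G] (hna : ¬ IsMulCommutative G)
    (hirr : ∀ x : G, (∀ r : ℕ, r.Prime → r ∣ orderOf x → r = 2) →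
      normalizer ((zpowers x : Subgroup G) : Set G) ≤ centralizer {x}) :
    (∃ (F : Type) (_ : Field F) (_ : Fintype F), 4 ≤ Fintype.card F ∧
        (Fintype.card F % 8 = 0 ∨ Fintype.card F % 8 = 3 ∨ Fintype.card F % 8 = 5) ∧
        Nonempty (G ≃* Matrix.ProjectiveSpecialLinearGroup (Fin 2) F)) ∨
    Cfsg.IsSuzuki G ∨ Cfsg.IsRee G ∨ Cfsg.IsJ1 G := by
  rcases irrational_cases hna hirr with h | h | ⟨S, h8, hE, h⟩
  · exact Or.inl h
  · exact Or.inr (Or.inl h)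
  · rcases ree_or_j1 hub hna S h8 hE h with ⟨-, h'⟩ | ⟨-, h'⟩
    · exact Or.inr (Or.inr (Or.inl h'))
    · exact Or.inr (Or.inr (Or.inr h'))

end Cfsg.Agent.Invol.AbelTwo
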