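import Cfsg.Agent.Lib.Invol.AbelTwo.Trichotomy
import Cfsg.Agent.Lib.Fus.Goldschmidt.Main
import Cfsg.Agent.Lib.Invol.ThreeFree.Main
import Cfsg.Agent.S2755
import Cfsg.Agent.S2759

/-!
# Simple groups without sections `S₄` are Goldschmidt groups, up to the `JR` kind

The recognition of the `JR` kind is taken as a hypothesis `JRRec`.
-/

set_option autoImplicit false
set_option linter.unusedSectionVars false
set_option linter.style.haveILetI false

open scoped Classical

namespace Cfsg.Agent.Invol.AbelTwo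

open Subgroup Fus.Gold

universe u

/-- Simple groups of `JR` kind are of Ree type or the first Janko group. -/
def JRRec : Prop :=
  ∀ (G : Type u) [Group G] [Finite G] [IsSimpleGroup G], ¬ IsMulCommutative G →
    ∀ S : Sylow 2 G, Nat.card ↥(S : Subgroup G) = 8 → (∀ x ∈ (S : Subgroup G), x * x = 1) →
      (∀ t ∈ (S : Subgroup G), t ≠ 1 → JRShape t) → Cfsg.IsReeType G ∨ Cfsg.Spor.IsoJ1 G

theorem charP_two' {F : Type} [Field F] [Fintype F] {n : ℕ} (hn : n ≠ 0) (hF : Fintype.card F = 2 ^ n) :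
    CharP F 2 :=
  ThreeFree.charP_two (by rw [hF]; exact Nat.even_pow.2 ⟨even_two, hn⟩)

/-- `L2(2ⁿ)`, `n ≥ 2`, is a Goldschmidt group. -/
theorem gold_psl_two {G : Type u} [Group G] [IsSimpleGroup G] {F : Type} [Field F] [Fintype F] {n : ℕ}
    (hn : 2 ≤ n) (hF : Fintype.card F = 2 ^ n)
    (e : G ≃* Matrix.ProjectiveSpecialLinearGroup (Fin 2) F) : Cfsg.IsGoldschmidtGroup G := by
  by_cases h : 3 ≤ n
  · exact Or.inr (Or.inl ⟨F, inferInstance, inferInstance, n, h, hF, ⟨e⟩⟩)
  · obtain rfl : n = 2 := by omega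
    haveI := charP_two' (two_ne_zero) hF
    haveI : Finite G := Finite.of_equiv _ e.toEquiv.symm
    obtain ⟨e'⟩ := psl_five_of_four hF (e.trans (Invol.GW.SLTwoEquivPSL (F := F)).symm)
    haveI : Fact (Nat.Prime 5) := ⟨by norm_num⟩
    exact Or.inr (Or.inr (Or.inr (Or.inr (Or.inl
      ⟨ZMod 5, inferInstance, inferInstance, 5, ZMod.card 5, le_rfl, Or.inr (by norm_num), ⟨e'⟩⟩))))

/-- Bender's groups are Goldschmidt groups. -/
theorem gold_bender {G : Type u} [Group G] [IsSimpleGroup G] (h : CentInt.IsBenderGrp G) :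
    Cfsg.IsGoldschmidtGroup G := by
  rcases h with ⟨F, i, j, hc, h4, ⟨e⟩⟩ | ⟨F, i, j, q, hq, h4, hF, ⟨e⟩⟩ | h
  · haveI := hc
    obtain ⟨k, hk⟩ := FiniteField.card F 2
    refine gold_psl_two (n := k) ?_ hk.2 (e.trans (Invol.GW.SLTwoEquivPSL (F := F)))
    exact (Nat.pow_le_pow_iff_right (le_refl 2)).1 (show 2 ^ 2 ≤ 2 ^ (k : ℕ) by rw [← hk.2]; exact h4)
  · haveI := ThreeFree.charP_two (F := F) (by rw [hF]; exact hq.pow_of_ne_zero two_ne_zero)
    obtain ⟨k, hk⟩ := FiniteField.card F 2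
    obtain ⟨n, -, rfl⟩ := (Nat.dvd_prime_pow Nat.prime_two).1
      (show q ∣ 2 ^ (k : ℕ) from hk.2 ▸ hF ▸ dvd_pow_self q two_ne_zero)
    refine Or.inr (Or.inr (Or.inr (Or.inl ⟨F, i, j, n, ?_, ?_, ⟨e⟩⟩)))
    · exact (Nat.pow_le_pow_iff_right (le_refl 2)).1 h4
    · rw [hF, ← pow_mul, mul_comm, pow_mul]; norm_num
  · exact Or.inr (Or.inr (Or.inl h))

/-- A non-abelian composition factor of a constrained `S₄`-free group has no section `S₃`. -/
theorem noThree_factor {X : Type u} [Group X] [Finite X] {Y : Type u} [Group Y] (hY : IsSectionOf Y X)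
    (hchar : centralizer (Cfsg.pCore 2 X : Set X) ≤ Cfsg.pCore 2 X)
    (hfree : ¬ Cfsg.Involves (Equiv.Perm (Fin 4)) X) : ¬ Cfsg.Involves (Equiv.Perm (Fin 3)) Y := fun h =>
  Block.SFour.noThree_of_sfourFree hchar hfree
    (Spor.Gold.Fam.hasInvertedThree_of_involves ((isSectionOf_of_involves h).trans hY).involves)

/-- The induction. -/
theorem gold_of_sfour_free (hub : JRRec.{u}) : ∀ (n : ℕ) (G : Type u) [Group G] [Finite G], Nat.card G = n →
    IsSimpleGroup G → ¬ IsMulCommutative G → ¬ Cfsg.Involves (Equiv.Perm (Fin 4)) G →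
    Cfsg.IsGoldschmidtGroup G := by
  intro n
  induction n using Nat.strong_induction_on with
  | _ n ih =>
  intro G _ _ hn hs hna hfree
  haveI : Fact (Nat.Prime 2) := ⟨Nat.prime_two⟩
  subst hn
  have hsec : ∀ (K R : Subgroup G) [hR : (R.subgroupOf K).Normal],
      centralizer (Cfsg.pCore 2 (↥K ⧸ R.subgroupOf K) : Set (↥K ⧸ R.subgroupOf K)) ≤
        Cfsg.pCore 2 (↥K ⧸ R.subgroupOf K) →
      Cfsg.IsCompositionKGroupWith Cfsg.IsSuzukiOrPSL2OddPowerThree (↥K ⧸ R.subgroupOf K) := by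
    intro K R hR hcon H _ N hN hX hXna
    have hX' : IsSectionOf (↥K ⧸ R.subgroupOf K) G :=
      ⟨K, QuotientGroup.mk' _, QuotientGroup.mk'_surjective _⟩
    have hY : IsSectionOf (↥H ⧸ N) (↥K ⧸ R.subgroupOf K) :=
      ⟨H, QuotientGroup.mk' _, QuotientGroup.mk'_surjective _⟩
    have hfX : ¬ Cfsg.Involves (Equiv.Perm (Fin 4)) (↥K ⧸ R.subgroupOf K) := fun h =>
      hfree ((isSectionOf_of_involves h).trans hX').involves
    have hfY : ¬ Cfsg.Involves (Equiv.Perm (Fin 4)) (↥H ⧸ N) := fun h =>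
      hfX ((isSectionOf_of_involves h).trans hY).involves
    have hd : Nat.card (↥H ⧸ N) ∣ Nat.card G :=
      ((Subgroup.card_quotient_dvd_card N).trans (Subgroup.card_subgroup_dvd_card H)).trans
        ((Subgroup.card_quotient_dvd_card _).trans (Subgroup.card_subgroup_dvd_card K))
    have hlt : Nat.card (↥H ⧸ N) < Nat.card G := by
      refine lt_of_le_of_ne (Nat.le_of_dvd Nat.card_pos hd) fun e => ?_
      have h1 : Nat.card (↥H ⧸ N) ≤ Nat.card ↥H :=
        Nat.card_le_card_of_surjective _ (QuotientGroup.mk'_surjective N)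
      have h2 : Nat.card ↥H ≤ Nat.card (↥K ⧸ R.subgroupOf K) := Subgroup.card_le_card_group H
      have h3' : Nat.card (↥K ⧸ R.subgroupOf K) ≤ Nat.card G :=
        (Nat.card_le_card_of_surjective _ (QuotientGroup.mk'_surjective _)).trans
          (Subgroup.card_le_card_group K)
      have hHtop : H = ⊤ := Subgroup.eq_top_of_card_eq H (by omega)
      have hbij : Function.Bijective (QuotientGroup.mk' N) :=
        (Nat.bijective_iff_surjective_and_card _).2 ⟨QuotientGroup.mk'_surjective N, by omega⟩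
      let e' : (↥K ⧸ R.subgroupOf K) ≃* (↥H ⧸ N) :=
        (Subgroup.topEquiv.symm.trans (MulEquiv.subgroupCongr hHtop.symm)).trans (MulEquiv.ofBijective _ hbij)
      haveI : IsSimpleGroup (↥H ⧸ N) := hX
      haveI : Nontrivial (↥K ⧸ R.subgroupOf K) := e'.toEquiv.nontrivial
      haveI : IsSimpleGroup (↥K ⧸ R.subgroupOf K) :=
        IsSimpleGroup.isSimpleGroup_of_surjective e'.symm.toMonoidHom e'.symm.surjective
      refine ThreeFree.not_constrained (fun hc => hXna ⟨⟨fun a b => e'.symm.injective ?_⟩⟩) hcon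
      rw [map_mul, map_mul]
      exact hc.is_comm.comm _ _
    exact (S2755.result (ih _ hlt _ rfl hX hXna hfY)).2.1 (noThree_factor hY hcon hfX)
  have h2 : 2 ∣ Nat.card G := ThreeFree.two_dvd_card hna
  obtain ⟨S⟩ : Nonempty (Sylow 2 G) := inferInstance
  obtain ⟨hAS, hA, hsc, -⟩ := S2796.result hfree (fun K R _ hc => hsec K R hc) S _ rfl _ rfl
  set A := (Subgroup.normalClosure
    (((Cfsg.omegaOne 2 ((S : Subgroup G) ⊓ centralizer ((S : Subgroup G) : Set G))).subgroupOf _ :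
      Subgroup ↥(normalizer (Cfsg.thompsonSubgroupOf 2 (S : Subgroup G) : Set G))) : Set _)).map
        (normalizer (Cfsg.thompsonSubgroupOf 2 (S : Subgroup G) : Set G)).subtype with hAdef
  have hne : A ≠ ⊥ := by
    intro e
    have hS1 : (S : Subgroup G) ≠ ⊥ := S.ne_bot_of_dvd_card h2
    haveI : Nontrivial ↥(S : Subgroup G) := (Subgroup.nontrivial_iff_ne_bot _).2 hS1
    haveI := S.isPGroup'.center_nontrivial
    obtain ⟨⟨z, hz⟩, hz2⟩ := exists_prime_orderOf_dvd_card' (G := center ↥(S : Subgroup G)) 2 (by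
      obtain ⟨k, hk⟩ := IsPGroup.iff_card.1 (S.isPGroup'.to_subgroup (center ↥(S : Subgroup G)))
      rw [hk]
      refine dvd_pow_self 2 fun e0 => ?_
      have := Finite.one_lt_card (α := center ↥(S : Subgroup G))
      rw [hk, e0, pow_zero] at this
      exact lt_irrefl _ this)
    rw [Subgroup.orderOf_mk] at hz2
    have hz2' : ((z : G)) ^ 2 = 1 := by
      have := pow_orderOf_eq_one z
      rw [hz2] at this
      simpa using congrArg Subtype.val this
    have hzc : ∀ x ∈ (S : Subgroup G), x * (z : G) = z * x := fun x hx =>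
      congrArg Subtype.val (mem_center_iff.1 hz ⟨x, hx⟩)
    have hzN : (z : G) ∈ normalizer (Cfsg.thompsonSubgroupOf 2 (S : Subgroup G) : Set G) :=
      Subgroup.centralizer_le_normalizer _ (mem_centralizer_iff.2 fun x hx => hzc x (Subgroup.map_subtype_le _ hx))
    have hmem : (z : G) ∈ A :=
      ⟨⟨z, hzN⟩, Subgroup.subset_normalClosure
        (show (z : G) ∈ Cfsg.omegaOne 2 ((S : Subgroup G) ⊓ centralizer ((S : Subgroup G) : Set G)) from
          Subgroup.subset_closure ⟨⟨z.2, mem_centralizer_iff.2 hzc⟩, hz2'⟩), rfl⟩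
    rw [e, mem_bot] at hmem
    have : z = 1 := Subtype.ext hmem
    rw [this, orderOf_one] at hz2
    omega
  haveI := hs
  obtain ⟨hSA | ⟨H, hH⟩, -⟩ := conclusion_all G inferInstance hna S A hne hA hsc
  · haveI hSc : IsMulCommutative ↥(S : Subgroup G) := hSA ▸ hA.1
    rcases trichotomy hna h2 S hSc with ⟨F, i, j, n, hn, hF, ⟨e⟩⟩ | ⟨F, i, j, -, h5, h8, he⟩ | ⟨h8, hE, h⟩
    · exact gold_psl_two hn hF e
    · exact Or.inr (Or.inr (Or.inr (Or.inr (Or.inl ⟨F, i, j, _, rfl, h5, h8, he⟩))))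
    · rcases hub G hna S h8 hE h with h' | h'
      · exact Or.inl h'
      · exact Or.inr (Or.inr (Or.inr (Or.inr (Or.inr h'))))
  · exact gold_bender (bender_of_se hna hH).1

/-- Simple groups without sections `S₃`. -/
theorem threeFree_simple (hub : JRRec.{u}) {G : Type u} [Group G] [Finite G] [IsSimpleGroup G]
    (hna : ¬ IsMulCommutative G) (h3 : ¬ Cfsg.Involves (Equiv.Perm (Fin 3)) G) :
    Cfsg.IsSuzukiOrPSL2OddPowerThree G := by
  have h4 : ¬ Cfsg.Involves (Equiv.Perm (Fin 4)) G := fun h => h3 (by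
    obtain ⟨T, hT, hinv⟩ := S2759.result.1 h
    exact ((isSectionOf_of_involves hinv).trans
      ⟨normalizer (T : Set G), QuotientGroup.mk' _, QuotientGroup.mk'_surjective _⟩).involves)
  exact (S2755.result (gold_of_sfour_free hub _ G rfl inferInstance hna h4)).2.1 h3

end Cfsg.Agent.Invol.AbelTwo
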