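import Cfsg.Agent.Lib.Invol.AbelTwo.ReeRec
import Cfsg.Agent.Lib.Invol.AbelTwo.SFourFree
import Cfsg.Agent.Lib.Invol.JankoWard.Defs

/-!
# From `WardHub` to the recognition used by the consumers
-/

set_option autoImplicit false
set_option linter.unusedSectionVars false
set_option linter.style.haveILetI false

namespace Cfsg.Agent.Invol.AbelTwo

open Subgroup
open scoped Classical

universe u

/-- An involution centraliser `⟨t⟩ × L2(5)` gives `J1`. -/
theorem j1_of_five {G : Type u} [Group G] [Finite G] [IsSimpleGroup G] (S : Sylow 2 G)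
    (hS : IsMulCommutative ↥(S : Subgroup G)) (h8 : Nat.card ↥(S : Subgroup G) = 8) {t : G} (ht : orderOf t = 2)
    {L : Subgroup G} (hL : Cfsg.IsInternalDirectProduct (zpowers t) L (centralizer ({t} : Set G)))
    {F : Type} [Field F] [Fintype F] (h5 : Fintype.card F = 5)
    (e : ↥L ≃* Matrix.ProjectiveSpecialLinearGroup (Fin 2) F) : Cfsg.Spor.IsoJ1 G ∧ Cfsg.IsJ1 G := by
  have hsimp := Classical.PSL_isSimple (F := F) (n := 2) le_rfl fun _ => by omega
  haveI := hsimp
  haveI : IsSimpleGroup ↥L :=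
    haveI : Nontrivial ↥L := e.toEquiv.nontrivial
    IsSimpleGroup.isSimpleGroup_of_surjective e.symm.toMonoidHom e.symm.surjective
  have hnc : ¬ IsMulCommutative ↥L := by
    intro hc
    have h60 := Invol.GW.card_PSLTwo (F := F) (by rw [h5]; decide)
    rw [h5, ← Nat.card_congr e.toEquiv] at h60
    letI : CommGroup ↥L := { (inferInstance : Group ↥L) with mul_comm := hc.is_comm.comm }
    have hp : (Nat.card ↥L).Prime := IsSimpleGroup.prime_card
    have : Nat.card ↥L = 60 := by omega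
    rw [this] at hp
    exact absurd hp (by norm_num)
  have hcen : centralizer ((⊤ : Subgroup ↥L) : Set ↥L) = ⊥ := by
    rw [coe_top, centralizer_univ, Transfer.CentralFour.center_eq_bot hnc]
  haveI : (⊤ : Subgroup ↥L).Normal := inferInstance
  have hJ := isoJ1_of_five S hS h8 ht hL h5 ⊤ ⟨Subgroup.topEquiv.trans e⟩ hcen
  exact ⟨hJ, isJ1_of_iso hJ⟩

/-- The two outcomes, with both the centraliser and the order forms. -/
theorem ree_or_j1 (hub : JankoWard.WardHub.{u}) {G : Type u} [Group G] [Finite G] [IsSimpleGroup G]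
    (hG : ¬ IsMulCommutative G) (S : Sylow 2 G) (h8 : Nat.card ↥(S : Subgroup G) = 8)
    (hE : ∀ x ∈ (S : Subgroup G), x * x = 1) (h : ∀ t ∈ (S : Subgroup G), t ≠ 1 → JRShape t) :
    (Cfsg.IsReeType G ∧ Cfsg.IsRee G) ∨ (Cfsg.Spor.IsoJ1 G ∧ Cfsg.IsJ1 G) := by
  haveI : Fact (Nat.Prime 2) := ⟨Nat.prime_two⟩
  have hS : IsMulCommutative ↥(S : Subgroup G) := ⟨⟨fun a b => Subtype.ext (by
    have hab := hE _ (mul_mem a.2 b.2)
    show (a : G) * b = b * a
    rw [← inv_eq_of_mul_eq_one_right hab, _root_.mul_inv_rev, inv_eq_of_mul_eq_one_right (hE _ a.2),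
      inv_eq_of_mul_eq_one_right (hE _ b.2)])⟩⟩
  obtain ⟨⟨t, htS⟩, ht⟩ := exists_prime_orderOf_dvd_card' (G := ↥(S : Subgroup G)) 2 (by rw [h8]; norm_num)
  rw [Subgroup.orderOf_mk] at ht
  obtain ⟨-, L, hL, F, i, j, ⟨e⟩, h5 | ⟨m, hm, hF, hord⟩⟩ := hub G inferInstance hG S h8 hE h t ht
  · exact Or.inr (j1_of_five S hS h8 ht hL h5 e)
  · exact Or.inl ⟨reeType_of hG S hS htS ht hL hm hF e, inferInstance, m, hm, hord⟩

/-- The recognition from the hub. -/
theorem jrRec_of_hub (hub : JankoWard.WardHub.{u}) : JRRec.{u} :=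
  fun _ _ _ _ hG S h8 hE h => (ree_or_j1 hub hG S h8 hE h).imp (fun x => x.1) fun x => x.1

/-- S4-free simple groups and Goldschmidt groups. -/
theorem sfour_free_iff (hub : JRRec.{u}) {G : Type u} [Group G] [Finite G] [IsSimpleGroup G]
    (hna : ¬ IsMulCommutative G) :
    ¬ Cfsg.Involves (Equiv.Perm (Fin 4)) G ↔ Cfsg.IsGoldschmidtGroup G :=
  ⟨gold_of_sfour_free hub _ G rfl inferInstance hna, fun h => (S2755.result h).1⟩

end Cfsg.Agent.Invol.AbelTwo
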