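import Cfsg.Agent.Lib.Invol.AbelTwo.Walter
import Cfsg.Agent.Lib.Invol.CentInt.CoverDerived
import Cfsg.Agent.Lib.Invol.GW.Consumers.Dihedral
import Cfsg.Agent.Lib.Invol.MinNonCA.Backward

/-!
# The three kinds of simple groups with abelian Sylow 2-subgroups
-/

set_option autoImplicit false
set_option linter.unusedSectionVars false
set_option linter.style.haveILetI false

namespace Cfsg.Agent.Invol.AbelTwo

open Subgroup Fus.Gold

universe u

variable {G : Type u} [Group G] [Finite G]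

/-- A simple group with a strongly embedded subgroup and abelian Sylow 2-subgroups is `SL₂(2ⁿ)`. -/
theorem bender_abelian [IsSimpleGroup G] (hG : ¬ IsMulCommutative G) {H : Subgroup G}
    (hH : Cfsg.IsStronglyEmbedded H) (S : Sylow 2 G) (hS : IsMulCommutative ↥(S : Subgroup G)) :
    ∃ (F : Type) (_ : Field F) (_ : Fintype F) (n : ℕ), 2 ≤ n ∧ Fintype.card F = 2 ^ n ∧
      Nonempty (G ≃* Matrix.SpecialLinearGroup (Fin 2) F) := by
  haveI : Fact (Nat.Prime 2) := ⟨Nat.prime_two⟩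
  -- commutativity passes to isomorphic images
  have hmap : ∀ (B : Type) [Group B] [Finite B] (e : G ≃* B),
      IsMulCommutative ↥((S.mapSurjective (f := e.toMonoidHom) e.surjective : Sylow 2 B) : Subgroup B) := by
    intro B _ _ e
    haveI := hS
    refine ⟨⟨fun a b => Subtype.ext ?_⟩⟩
    obtain ⟨a', ha, ea⟩ := a.2
    obtain ⟨b', hb, eb⟩ := b.2
    show (a : B) * b = b * a
    rw [← ea, ← eb, ← map_mul, ← map_mul]
    exact congrArg e.toMonoidHom (congrArg Subtype.val (hS.is_comm.comm ⟨a', ha⟩ ⟨b', hb⟩))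
  rcases (bender_of_se hG hH).1 with ⟨F, i, j, hc, h4, ⟨e⟩⟩ | ⟨F, i, j, q, hq, h4, hF, ⟨e⟩⟩ |
    ⟨F, i, j, m, hm, hF, ⟨e⟩⟩
  · haveI := hc
    obtain ⟨k, hk⟩ := FiniteField.card F 2
    refine ⟨F, i, j, k, ?_, hk.2, ⟨e⟩⟩
    exact (Nat.pow_le_pow_iff_right (le_refl 2)).1 (show 2 ^ 2 ≤ 2 ^ (k : ℕ) by rw [← hk.2]; exact h4)
  · exfalso
    obtain ⟨p, hc⟩ := CharP.exists F
    haveI : Fact p.Prime := ⟨CharP.char_is_prime F p⟩
    obtain rfl : p = 2 := Dickson.p_eq_two p (by rw [hF]; exact hq.pow_of_ne_zero two_ne_zero)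
    obtain ⟨k, hk⟩ := FiniteField.card F 2
    obtain ⟨n, -, hn⟩ := (Nat.dvd_prime_pow Nat.prime_two).1
      (show q ∣ 2 ^ (k : ℕ) from hk.2 ▸ hF ▸ dvd_pow_self q two_ne_zero)
    haveI : Finite (Cfsg.PSU 3 F q) := Finite.of_equiv G e.toEquiv
    refine CentInt.psu_sylow_nonabelian hF hn (Nat.one_le_iff_ne_zero.2 ?_) _ (hmap _ e)
    rintro rfl
    simp [hn] at h4
  · exfalso
    exact CentInt.suzuki_sylow_nonabelian hm hF _ (hmap _ e)

/-- `L2(4) ≅ L2(5)`. -/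
theorem psl_five_of_four {F : Type} [Field F] [Fintype F] (hF : Fintype.card F = 4) [IsSimpleGroup G]
    (e : G ≃* Matrix.SpecialLinearGroup (Fin 2) F) :
    Nonempty (G ≃* Matrix.ProjectiveSpecialLinearGroup (Fin 2) (ZMod 5)) := by
  haveI : Fact (Nat.Prime 5) := ⟨by norm_num⟩
  obtain ⟨e1⟩ := Fus.alternating_five_of_card (G := G)
    (by rw [Nat.card_congr e.toEquiv, Fus.PSLTwo.natCard_SL_two, hF])
  haveI := Classical.PSL_isSimple (F := ZMod 5) (n := 2) le_rfl fun _ => by simp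
  have hc5 := Invol.GW.card_PSLTwo (F := ZMod 5) (by simp; decide)
  obtain ⟨e2⟩ := Fus.alternating_five_of_card (G := Matrix.ProjectiveSpecialLinearGroup (Fin 2) (ZMod 5))
    (by rw [ZMod.card] at hc5; norm_num at hc5 ⊢; omega)
  exact ⟨e1.trans e2.symm⟩

/-- Simple groups with abelian Sylow 2-subgroups: `L2(2ⁿ)`, `L2(q)` with `q ≡ 3, 5` mod 8, or of `JR` kind. -/
theorem trichotomy [IsSimpleGroup G] (hG : ¬ IsMulCommutative G) (h2 : 2 ∣ Nat.card G) (S : Sylow 2 G)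
    (hS : IsMulCommutative ↥(S : Subgroup G)) :
    (∃ (F : Type) (_ : Field F) (_ : Fintype F) (n : ℕ), 2 ≤ n ∧ Fintype.card F = 2 ^ n ∧
      Nonempty (G ≃* Matrix.ProjectiveSpecialLinearGroup (Fin 2) F)) ∨
    (∃ (F : Type) (_ : Field F) (_ : Fintype F), Odd (Fintype.card F) ∧ 5 ≤ Fintype.card F ∧
      (Fintype.card F % 8 = 3 ∨ Fintype.card F % 8 = 5) ∧
      Nonempty (G ≃* Matrix.ProjectiveSpecialLinearGroup (Fin 2) F)) ∨
    (Nat.card ↥(S : Subgroup G) = 8 ∧ (∀ x ∈ (S : Subgroup G), x * x = 1) ∧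
      ∀ t ∈ (S : Subgroup G), t ≠ 1 → JRShape t) := by
  classical
  rcases walter G hG h2 S hS with ⟨H, hH⟩ | h | h
  · obtain ⟨F, i, j, n, hn, hF, ⟨e⟩⟩ := bender_abelian hG hH S hS
    haveI : CharP F 2 := by
      obtain ⟨p, hp⟩ := CharP.exists F
      haveI : Fact p.Prime := ⟨CharP.char_is_prime F p⟩
      obtain rfl : p = 2 := Dickson.p_eq_two p (by rw [hF]; exact Nat.even_pow.2 ⟨even_two, by omega⟩)
      exact hp
    exact Or.inl ⟨F, i, j, n, hn, hF, ⟨e.trans (Invol.GW.SLTwoEquivPSL (F := F))⟩⟩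
  · exact Or.inr (Or.inl h)
  · exact Or.inr (Or.inr h)

end Cfsg.Agent.Invol.AbelTwo
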