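import Cfsg.Agent.Lib.Invol.AbelTwo.PslFacts
import Cfsg.Agent.Lib.Invol.GW.Klein.ThreeClassData
import Cfsg.Agent.Lib.Fus.Goldschmidt.Main

/-!
# Elementary abelian Sylow 2-subgroups of order eight without a strongly embedded subgroup

The setting of the proof that the centralisers of involutions have trivial core: `S` elementary of order eight,
all involutions conjugate in `N(S)`, and for each involution `t` an element `g` of `C(t) ∩ N(S)` permuting
three involutions `a`, `b`, `ab` cyclically, `S = ⟨t⟩ × {1, a, b, ab}`.  Modulo its core `C(t)` has a normal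
simple component with the four-group as Sylow subgroup and centraliser of order two.
-/

set_option autoImplicit false
set_option linter.unusedSectionVars false
set_option linter.style.haveILetI false

namespace Cfsg.Agent.Invol.AbelTwo

open Subgroup Fus.Gold GW.Klein GW.ThreeClass
open scoped Pointwise

universe u

/-- What the induction gives on a simple group with abelian Sylow 2-subgroups of order eight: no nontrivial
subgroup of odd order is normalised by the centraliser of an involution. -/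
def Tame (L : Type u) [Group L] : Prop :=
  ∀ v : L, orderOf v = 2 → ∀ R : Subgroup L, Odd (Nat.card R) →
    centralizer ({v} : Set L) ≤ normalizer (R : Set L) → R = ⊥

variable {G : Type u} [Group G] [Finite G]

/-- The configuration. -/
structure Cfg (s : Setup G) : Prop where
  eq : (s.S : Subgroup G) = s.A
  nse : ¬ ∃ H : Subgroup G, Cfsg.IsStronglyEmbedded H
  eight : Eight s
  tame : ∀ (L : Type u) [Group L] [Finite L], Nat.card L < Nat.card G → IsSimpleGroup L →
    ¬ IsMulCommutative L → ∀ P : Sylow 2 L, Nat.card ↥(P : Subgroup L) = 8 →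
    IsMulCommutative ↥(P : Subgroup L) → Tame L

/-- `g` centralises `t` and permutes `a`, `b = gag⁻¹` and `ab` cyclically. -/
structure Turn (S : Subgroup G) (t a g : G) : Prop where
  tS : t ∈ S
  aS : a ∈ S
  a1 : a ≠ 1
  gS : g ∈ normalizer (S : Set G)
  gt : Commute g t
  gb : g * (g * a * g⁻¹) * g⁻¹ = a * (g * a * g⁻¹)
  ne_a : t ≠ a
  ne_b : t ≠ g * a * g⁻¹
  ne_ab : t ≠ a * (g * a * g⁻¹)
  cases : ∀ u ∈ S, ∃ v, (v = 1 ∨ v = a ∨ v = g * a * g⁻¹ ∨ v = a * (g * a * g⁻¹)) ∧ (u = v ∨ u = t * v)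

variable {s : Setup G}

namespace Cfg

variable (h : Cfg s)
include h

theorem mem_sylow {x : G} : x ∈ (s.S : Subgroup G) ↔ x ∈ s.A := by rw [h.eq]

theorem comm_sylow : IsMulCommutative ↥(s.S : Subgroup G) := by rw [h.eq]; exact s.elem.1

theorem sylow_le_centralizer : (s.S : Subgroup G) ≤ centralizer (s.A : Set G) := fun x hx =>
  mem_centralizer_iff.2 fun y hy => s.comm hy (h.mem_sylow.1 hx)

theorem center_eq : center G = ⊥ :=
  haveI := s.simple
  Transfer.CentralFour.center_eq_bot s.nonab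

theorem normalizer_ne_top {X : Subgroup G} (hX : X ≠ ⊥) (hX' : X ≠ ⊤) : normalizer (X : Set G) ≠ ⊤ := fun e => by
  haveI := s.simple
  haveI : X.Normal := normalizer_eq_top_iff.1 e
  exact (‹X.Normal›.eq_bot_or_eq_top).elim hX hX'

theorem centralizer_ne_top {x : G} (hx1 : x ≠ 1) : centralizer ({x} : Set G) ≠ ⊤ := fun e =>
  hx1 (mem_bot.1 (h.center_eq ▸ mem_center_iff.2 fun g => (mem_centralizer_singleton_iff.1 (e ▸ mem_top g))))

/-- A subgroup of odd order is proper. -/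
theorem odd_ne_top {X : Subgroup G} (hX : Odd (Nat.card X)) : X ≠ ⊤ := fun e => by
  rw [e, card_top] at hX
  exact (Nat.not_even_iff_odd.2 hX) (even_iff_two_dvd.2 s.two_dvd)

theorem exists_ne {t : G} : ∃ u ∈ s.A, u ≠ 1 ∧ u ≠ t := by
  by_contra hno
  push Not at hno
  have hle : Nat.card ↥s.A ≤ 2 := by
    rw [show Nat.card ↥s.A = (s.A : Set G).ncard from Nat.card_coe_set_eq _]
    refine le_trans ((s.A : Set G).ncard_le_ncard (t := {1, t}) (fun x hx => ?_) (Set.toFinite _))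
      ((Set.ncard_insert_le _ _).trans (by rw [Set.ncard_singleton]))
    by_cases hx1 : x = 1
    · exact Or.inl hx1
    · exact Or.inr (hno x hx hx1)
  rw [h.eight.card] at hle
  omega

theorem exists_turn {t : G} (ht : t ∈ s.A) (ht1 : t ≠ 1) : ∃ a g, Turn s.A t a g := by
  classical
  obtain ⟨K, hK, hD⟩ := h.eight.fac t ht ht1
  obtain ⟨E, -, hEd, hEs, hEt⟩ := factor s ht ht1 hK
  rw [hD] at hEd hEs hEt
  have hEA : E ≤ s.A := hEs ▸ le_sup_right
  have hn : E ≤ normalizer (zpowers t : Set G) := fun e he => mem_normalizer_fintype fun d hd => by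
    rw [SetLike.mem_coe] at hd ⊢
    rwa [s.comm (hEA he) ((zpowers_le.2 ht) hd), mul_inv_cancel_right]
  have h4 : Nat.card ↥E = 4 := by
    have h1 := Grp.card_sup_mul_card_inf (H := E) (N := zpowers t) hn
    rw [sup_comm, hEs, hEd, card_bot, mul_one, h.eight.card, Nat.card_zpowers, s.orderOf_eq ht ht1] at h1
    omega
  obtain ⟨a, b, ha, hb, ha1, hb1, hab⟩ : ∃ a b, a ∈ E ∧ b ∈ E ∧ a ≠ 1 ∧ b ≠ 1 ∧ a ≠ b := by
    haveI : Fintype ↥E := Fintype.ofFinite _
    obtain ⟨x, y, z, hxy, hxz, hyz⟩ := Fintype.two_lt_card_iff.1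
      (by rw [← Nat.card_eq_fintype_card, h4]; norm_num : 2 < Fintype.card ↥E)
    have hv : ∀ p q : ↥E, p ≠ q → (p : G) ≠ q := fun p q hpq e => hpq (Subtype.ext e)
    by_cases hx : (x : G) = 1
    · exact ⟨y, z, y.2, z.2, fun e => hv x y hxy (hx.trans e.symm), fun e => hv x z hxz (hx.trans e.symm), hv y z hyz⟩
    · by_cases hy : (y : G) = 1
      · exact ⟨x, z, x.2, z.2, hx, fun e => hv y z hyz (hy.trans e.symm), hv x z hxz⟩
      · exact ⟨x, y, x.2, y.2, hx, hy, hv x y hxy⟩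
  haveI : IsKleinFour ↥E := by
    refine ⟨h4, Nat.dvd_antisymm (Monoid.exponent_dvd_of_forall_pow_eq_one fun x =>
      Subtype.ext (s.pow_two_eq (hEA x.2))) ?_⟩
    have ho : orderOf (⟨a, ha⟩ : ↥E) = 2 := by rw [orderOf_mk]; exact s.orderOf_eq (hEA ha) ha1
    exact ho ▸ Monoid.order_dvd_exponent _
  have hEmem : ∀ e ∈ E, e = 1 ∨ e = a ∨ e = b ∨ e = a * b := by
    intro e he
    by_contra hne
    push Not at hne
    exact hne.2.2.2 (congrArg Subtype.val (IsKleinFour.eq_mul_of_ne_all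
      (x := (⟨a, ha⟩ : ↥E)) (y := ⟨b, hb⟩) (z := ⟨e, he⟩)
      (fun e' => ha1 (congrArg Subtype.val e')) (fun e' => hb1 (congrArg Subtype.val e'))
      (fun e' => hab (congrArg Subtype.val e')) (fun e' => hne.1 (congrArg Subtype.val e'))
      (fun e' => hne.2.1 (congrArg Subtype.val e')) (fun e' => hne.2.2.1 (congrArg Subtype.val e'))))
  obtain ⟨g, hgN, hgD, hgE, hgab⟩ := hEt a ha b hb ha1 hb1
  have hgt : Commute g t := mul_inv_eq_iff_eq_mul.1 (hgD t (mem_zpowers t))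
  have htE : t ∉ E := fun hh => ht1 (mem_bot.1 (hEd ▸ (⟨hh, mem_zpowers t⟩ : t ∈ E ⊓ zpowers t)))
  have hdec : ∀ u ∈ s.A, ∃ v ∈ E, u = v ∨ u = t * v := by
    intro u hu
    have h1 : u ∈ zpowers t ⊔ E := by rw [hEs]; exact hu
    obtain ⟨d, hd, e, he, rfl⟩ := exists_mul_of_sup hn h1
    rcases Single.eq_or_of_mem_zpowers s ht hd with rfl | rfl
    · exact ⟨e, he, Or.inl (one_mul e)⟩
    · exact ⟨e, he, Or.inr rfl⟩
  have hgb : g * b * g⁻¹ = a * b := by
    rcases hEmem _ (hgE b hb) with e | e | e | e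
    · exact absurd (conj_eq_one_iff.1 e) hb1
    · exfalso
      refine hab ?_
      have hfix : ∀ x ∈ s.A, g * g * x * (g * g)⁻¹ = x := by
        have hE2 : ∀ v ∈ E, g * g * v * (g * g)⁻¹ = v := by
          intro v hv
          rw [show g * g * v * (g * g)⁻¹ = g * (g * v * g⁻¹) * g⁻¹ by group]
          rcases hEmem v hv with rfl | rfl | rfl | rfl
          · group
          · rw [hgab, e]
          · rw [e, hgab]
          · rw [show g * (a * b) * g⁻¹ = (g * a * g⁻¹) * (g * b * g⁻¹) by group, hgab, e,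
              show g * (b * a) * g⁻¹ = (g * b * g⁻¹) * (g * a * g⁻¹) by group, hgab, e]
        intro x hx
        obtain ⟨v, hv, rfl | rfl⟩ := hdec x hx
        · exact hE2 _ hv
        · have hc : g * g * t * (g * g)⁻¹ = t := mul_inv_eq_iff_eq_mul.2 (hgt.mul_left hgt)
          rw [show g * g * (t * v) * (g * g)⁻¹ = g * g * t * (g * g)⁻¹ * (g * g * v * (g * g)⁻¹) by group,
            hc, hE2 v hv]
      rw [← h.eight.odd g hgN hfix a (hEA ha), hgab]
    · exfalso
      refine hab ((MulAut.conj g).injective ?_)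
      show g * a * g⁻¹ = g * b * g⁻¹
      rw [hgab, e]
    · exact e
  subst hgab
  refine ⟨a, g, ht, hEA ha, ha1, hgN, hgt, hgb, fun e => htE (e ▸ ha), fun e => htE (by rw [e]; exact hb),
    fun e => htE (by rw [e]; exact mul_mem ha hb), fun u hu => ?_⟩
  obtain ⟨v, hv, huv⟩ := hdec u hu
  exact ⟨v, hEmem v hv, huv⟩

theorem sylow_eight {H : Subgroup G} (hH : s.A ≤ H) : ∃ P : Sylow 2 ↥H, (P : Subgroup ↥H) = s.A.subgroupOf H :=
  ⟨s.S.subtype (h.eq.le.trans hH), by rw [Sylow.coe_subtype, h.eq]⟩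

/-- Fusion in a subgroup over `S` is controlled by its part of `N(S)`. -/
theorem fusion_in {H : Subgroup G} (hH : s.A ≤ H) {g x : G} (hg : g ∈ H) (hx : x ∈ s.A)
    (hgx : g * x * g⁻¹ ∈ s.A) : ∃ n ∈ H, n ∈ normalizer (s.A : Set G) ∧ n * x * n⁻¹ = g * x * g⁻¹ := by
  haveI : Fact (Nat.Prime 2) := ⟨Nat.prime_two⟩
  obtain ⟨P, hP⟩ := h.sylow_eight hH
  have hPc : IsMulCommutative ↥(P : Subgroup ↥H) := by
    refine ⟨⟨fun a b => Subtype.ext (Subtype.ext ?_)⟩⟩
    exact s.comm (mem_subgroupOf.1 (hP ▸ a.2)) (mem_subgroupOf.1 (hP ▸ b.2))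
  obtain ⟨n, hn, he⟩ := Transfer.exists_normalizer_conj_of_abelian P hPc (x := ⟨x, hH hx⟩) (g := ⟨g, hg⟩)
    (hP ▸ mem_subgroupOf.2 hx) (hP ▸ mem_subgroupOf.2 hgx)
  refine ⟨n, n.2, mem_normalizer_fintype fun y hy => ?_, congrArg Subtype.val he⟩
  have h1 := (mem_normalizer_iff.1 hn ⟨y, hH hy⟩).1 (hP ▸ mem_subgroupOf.2 hy)
  rw [hP] at h1
  exact mem_subgroupOf.1 h1

end Cfg

namespace Turn

variable {t a g : G} (T : Turn s.A t a g)
include T

theorem t_ne_one (ht1 : t ≠ 1) : orderOf t = 2 := s.orderOf_eq T.tS ht1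

theorem bS : g * a * g⁻¹ ∈ s.A := (mem_normalizer_iff.1 T.gS a).1 T.aS

theorem abS : a * (g * a * g⁻¹) ∈ s.A := s.A.mul_mem T.aS T.bS

theorem b1 : g * a * g⁻¹ ≠ 1 := fun e => T.a1 (conj_eq_one_iff.1 e)

theorem ab1 : a * (g * a * g⁻¹) ≠ 1 := fun e => T.b1 (conj_eq_one_iff.1 (T.gb.trans e))

/-- The cycle closes. -/
theorem gab : g * (a * (g * a * g⁻¹)) * g⁻¹ = a := by
  calc g * (a * (g * a * g⁻¹)) * g⁻¹ = (g * a * g⁻¹) * (g * (g * a * g⁻¹) * g⁻¹) := by group
    _ = (g * a * g⁻¹) * (a * (g * a * g⁻¹)) := by rw [T.gb]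
    _ = a * ((g * a * g⁻¹) * (g * a * g⁻¹)) := by
      rw [← mul_assoc, s.comm T.bS T.aS, mul_assoc]
    _ = a := by rw [s.sq T.bS, mul_one]

/-- The same cycle started one step later. -/
theorem next : Turn s.A t (g * a * g⁻¹) g := by
  have hc : g * a * g⁻¹ * (a * (g * a * g⁻¹)) = a := by
    rw [← mul_assoc, s.comm T.bS T.aS, mul_assoc, s.sq T.bS, mul_one]
  refine ⟨T.tS, T.bS, T.b1, T.gS, T.gt, ?_, T.ne_b, ?_, ?_, fun u hu => ?_⟩
  · rw [T.gb, hc, T.gab]
  · rw [T.gb]; exact T.ne_ab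
  · rw [T.gb, hc]; exact T.ne_a
  · obtain ⟨v, hv, huv⟩ := T.cases u hu
    refine ⟨v, ?_, huv⟩
    rw [T.gb, hc]
    tauto

/-- A `g`-invariant subgroup with an element of `S` outside `⟨t⟩` holds `a` and `b`. -/
theorem key {X : Subgroup G} (hgX : g ∈ normalizer (X : Set G)) {u : G} (hu : u ∈ s.A) (huX : u ∈ X)
    (hu1 : u ≠ 1) (hut : u ≠ t) : a ∈ X ∧ g * a * g⁻¹ ∈ X := by
  have hg : ∀ x ∈ X, g * x * g⁻¹ ∈ X := fun x hx => (mem_normalizer_iff.1 hgX x).1 hx
  -- one of the three is enough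
  have three : a ∈ X ∨ g * a * g⁻¹ ∈ X ∨ a * (g * a * g⁻¹) ∈ X → a ∈ X ∧ g * a * g⁻¹ ∈ X := by
    have key1 : a ∈ X → a ∈ X ∧ g * a * g⁻¹ ∈ X := fun ha => ⟨ha, hg _ ha⟩
    rintro (ha | hb | hab)
    · exact key1 ha
    · exact key1 (T.gab ▸ hg _ (T.gb ▸ hg _ hb))
    · exact key1 (T.gab ▸ hg _ hab)
  obtain ⟨v, hv, rfl | rfl⟩ := T.cases u hu
  · rcases hv with rfl | rfl | rfl | rfl
    · exact absurd rfl hu1
    all_goals exact three (by tauto)
  · rcases hv with rfl | hv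
    · exact absurd (mul_one t) hut
    have hvS : v ∈ s.A := by
      rcases hv with rfl | rfl | rfl
      exacts [T.aS, T.bS, T.abS]
    have hprod : v * (g * v * g⁻¹) ∈ X := by
      have h1 := X.mul_mem huX (hg _ huX)
      rwa [show g * (t * v) * g⁻¹ = g * t * g⁻¹ * (g * v * g⁻¹) by group, T.gt.eq, mul_inv_cancel_right,
        mul_assoc t, ← mul_assoc v t, ← s.comm T.tS hvS, mul_assoc t v, ← mul_assoc t t, s.sq T.tS, one_mul] at h1
    rcases hv with rfl | rfl | rfl
    · exact three (Or.inr (Or.inr hprod))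
    · rw [T.gb, ← mul_assoc, s.comm T.bS T.aS, mul_assoc, s.sq T.bS, mul_one] at hprod
      exact three (Or.inl hprod)
    · rw [T.gab, s.comm T.abS T.aS, ← mul_assoc, s.sq T.aS, one_mul] at hprod
      exact three (Or.inr (Or.inl hprod))

/-- Generation. -/
theorem le_of_mem {X : Subgroup G} (ht : t ∈ X) (ha : a ∈ X) (hb : g * a * g⁻¹ ∈ X) : s.A ≤ X := by
  intro u hu
  obtain ⟨v, hv, rfl | rfl⟩ := T.cases u hu <;> rcases hv with rfl | rfl | rfl | rfl
  all_goals first
    | exact one_mem _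
    | assumption
    | exact mul_mem ha hb
    | exact mul_mem ht (one_mem _)
    | exact mul_mem ht ha
    | exact mul_mem ht hb
    | exact mul_mem ht (mul_mem ha hb)

end Turn

end Cfsg.Agent.Invol.AbelTwo
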