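import Cfsg.Agent.Lib.Invol.AbelTwo.CaseEq
import Cfsg.Agent.Lib.Invol.KlingerMason

/-!
# A maximal subgroup properly over `C(t)`

It has no layer and no core at two, so its cores are odd and `t` moves one of them.
-/

set_option autoImplicit false
set_option linter.unusedSectionVars false
set_option linter.style.haveILetI false

namespace Cfsg.Agent.Invol.AbelTwo

open Subgroup Fus.Gold GW.Klein GW.ThreeClass BenderPush Transfer.Loc
open scoped Pointwise

universe u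

variable {G : Type u} [Group G] [Finite G] {s : Setup G}

/-- The primes whose cores `t` moves. -/
def mov (t : G) (M : Subgroup G) : Set ℕ := {p | p.Prime ∧ ∃ x ∈ Cfsg.pCoreOf p M, ¬ Commute t x}

theorem mov_finite (t : G) (M : Subgroup G) : (mov t M).Finite := by
  refine (Nat.card G).divisors.finite_toSet.subset ?_
  rintro p ⟨hp, x, hx, hxt⟩
  haveI := Fact.mk hp
  refine Nat.mem_divisors.2 ⟨?_, Nat.card_pos.ne'⟩
  have hne : Nontrivial ↥(Cfsg.pCoreOf p M) := (nontrivial_iff_ne_bot _).2 fun e => hxt (by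
    rw [e, mem_bot] at hx
    exact hx ▸ Commute.one_right t)
  obtain ⟨k, hk⟩ := IsPGroup.iff_card.1 (lg_isPGroup_pCoreOf (p := p) M)
  have hk0 : k ≠ 0 := fun e => absurd (Finite.one_lt_card (α := ↥(Cfsg.pCoreOf p M))) (by rw [hk, e]; simp)
  exact (dvd_pow_self p hk0).trans (hk ▸ card_subgroup_dvd_card _)

theorem mov_ne_bot {t : G} {M : Subgroup G} {p : ℕ} (hp : p ∈ mov t M) : Cfsg.pCoreOf p M ≠ ⊥ := by
  obtain ⟨-, x, hx, hxt⟩ := hp
  intro e
  rw [e, mem_bot] at hx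
  exact hxt (hx ▸ Commute.one_right t)

/-- A maximal subgroup properly over `C(t)`. -/
structure Big (s : Setup G) (t : G) (M : Subgroup G) : Prop where
  ov : Over s t M
  big : ¬ M ≤ centralizer ({t} : Set G)

namespace Big

variable {t : G} {M : Subgroup G} (B : Big s t M)
include B

theorem core_two : Cfsg.pCoreOf 2 M = ⊥ := by
  haveI : Fact (Nat.Prime 2) := ⟨Nat.prime_two⟩
  obtain ⟨r, hr⟩ := B.ov.exists_good
  haveI := Fact.mk hr.1
  obtain ⟨P, hP⟩ := B.ov.cfg.sylow_eight B.ov.sylow_le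
  have h2A : ∀ u ∈ Cfsg.pCoreOf 2 M, u ∈ s.A := by
    rintro _ ⟨y, hy, rfl⟩
    exact mem_subgroupOf.1 (hP.le (Grp.pCore_le_sylow P hy))
  have h2t : ∀ u ∈ Cfsg.pCoreOf 2 M, u = 1 ∨ u = t := fun u hu => hr.2 u (h2A u hu) fun x hx =>
    (mem_centralizer_iff.1 (core_comm M Nat.prime_two hr.1 (B.ov.good_ne_two hr).symm hu) x hx).symm
  refine (eq_bot_iff_forall _).2 fun u hu => (h2t u hu).resolve_right ?_
  rintro rfl
  refine B.big fun m hm => mem_centralizer_singleton_iff.2 ?_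
  rcases h2t _ ((mem_normalizer_iff.1 (lg_le_normalizer_pCoreOf M hm) _).1 hu) with e | e
  · exact absurd (conj_eq_one_iff.1 e) B.ov.t1
  · exact mul_inv_eq_iff_eq_mul.1 e

theorem lay_eq_bot : lay M = ⊥ := by
  obtain ⟨r, hr⟩ := B.ov.exists_good
  exact B.ov.lay_eq_bot hr B.ov.coatom.1 B.ov.sylow_le (lg_pCoreOf_le M)

theorem ne_two {p : ℕ} (hne : Cfsg.pCoreOf p M ≠ ⊥) : p ≠ 2 := fun e => hne (e ▸ B.core_two)

theorem odd_core {p : ℕ} (hp : p.Prime) : Odd (Nat.card ↥(Cfsg.pCoreOf p M)) := by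
  haveI := Fact.mk hp
  rcases eq_or_ne p 2 with rfl | h2
  · rw [B.core_two, card_bot]; exact odd_one
  · obtain ⟨k, hk⟩ := IsPGroup.iff_card.1 (lg_isPGroup_pCoreOf (p := p) M)
    rw [hk]
    exact (hp.odd_of_ne_two h2).pow

theorem core_le_oddOf {p : ℕ} (hp : p.Prime) : Cfsg.pCoreOf p M ≤ oddOf M :=
  le_oddOf (lg_pCoreOf_le M) (lg_le_normalizer_pCoreOf M) (B.odd_core hp)

/-- An element of prime power order of `M` centralising all cores lies in one. -/
theorem mem_core {d : G} (hd : d ∈ M) {p k : ℕ} (hp : p.Prime) (ho : orderOf d = p ^ k)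
    (hc : ∀ q : ℕ, q.Prime → ∀ y ∈ Cfsg.pCoreOf q M, Commute d y) : d ∈ Cfsg.pCoreOf p M :=
  mem_core_of_centralizing B.lay_eq_bot hd hp ho hc

theorem mov_nonempty : ∃ p, p ∈ mov t M := by
  by_contra hno
  push Not at hno
  have h1 := B.mem_core B.ov.t_mem Nat.prime_two (k := 1) (by rw [s.orderOf_eq B.ov.tA B.ov.t1, pow_one])
    fun q hq y hy => by_contra fun h => hno q ⟨hq, y, hy, h⟩
  rw [B.core_two, mem_bot] at h1
  exact B.ov.t1 h1

theorem gf_le {H : Subgroup G} (h : ∀ q : ℕ, q.Prime → Cfsg.pCoreOf q M ≤ H) : gf M ≤ H := by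
  rw [gf, Cfsg.generalizedFittingSubgroup, Subgroup.map_sup, show (Cfsg.layer ↥M).map M.subtype = ⊥ from B.lay_eq_bot,
    bot_sup_eq]
  exact fun x hx => mem_of_primePow fun y hy l k hl ho => h l hl (BenderPush.mem_core M ((zpowers_le.mpr hx) hy) hl ho)

/-- A moved core holds an element inverted by `t` and fixed by one of three further involutions. -/
theorem exists_inverted {p : ℕ} (hp : p ∈ mov t M) :
    ∃ x ∈ Cfsg.pCoreOf p M, x ≠ 1 ∧ t * x * t⁻¹ = x⁻¹ ∧ ∃ v ∈ s.A, v ≠ 1 ∧ Commute v x := by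
  have hp2 := B.ne_two (mov_ne_bot hp)
  obtain ⟨hp', y, hy, hyt⟩ := hp
  haveI := Fact.mk hp'
  obtain ⟨a, g, T⟩ := B.ov.cfg.exists_turn B.ov.tA B.ov.t1
  set b := g * a * g⁻¹ with hb
  set Pp := Cfsg.pCoreOf p M with hPp
  have hn : ∀ v ∈ s.A, v ∈ normalizer (Pp : Set G) := fun v hv => lg_le_normalizer_pCoreOf M (B.ov.sylow_le hv)
  by_contra hno
  push Not at hno
  refine hyt (Commute.symm (mem_centralizer_singleton_iff.1 ((?_ : Pp ≤ centralizer ({t} : Set G)) hy)))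
  have key : ∀ v ∈ s.A, v ≠ 1 → ∀ d ∈ Pp, Commute v d → d ∈ centralizer ({t} : Set G) := by
    intro v hv hv1 d hd hvd
    refine mem_centralizer_singleton_iff.2 (Commute.symm ?_).eq
    refine commute_of_no_inverted B.ov.tt (X := Pp ⊓ centralizer ({v} : Set G))
      ((B.odd_core hp').of_dvd_nat (card_dvd_of_le inf_le_left)) ?_ (fun x hx hinv => ?_)
      ⟨hd, mem_centralizer_singleton_iff.2 hvd.symm.eq⟩
    · exact Grp.le_normalizer_inf' (A := s.A) (fun w hw => hn w hw)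
        ((s.le_centralizer hv).trans le_normalizer) B.ov.tA
    · by_contra hx1
      exact hno x hx.1 hx1 hinv v hv hv1 (mem_centralizer_singleton_iff.1 hx.2).symm
  have hab : a ≠ b := fun e => T.b1 (by
    have h1 : g * b * g⁻¹ = a * b := T.gb
    rwa [← e, s.sq T.aS] at h1)
  exact KlingerMason.gen_four hp2 (lg_isPGroup_pCoreOf (p := p) M) (s.sq T.aS) (s.sq T.bS) (s.comm T.aS T.bS)
    (hn a T.aS) (hn b T.bS) T.a1 T.b1 hab (key a T.aS T.a1) (key b T.bS T.b1) (key _ T.abS T.ab1)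

end Big

end Cfsg.Agent.Invol.AbelTwo
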