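import Cfsg.Agent.Lib.Invol.AbelTwo.Tools

/-!
# The centraliser of an involution is not maximal

If `C(t)` is maximal, take `a ≠ t` in `S` and the conjugate `C(a)`.  A part `X` of the centre of `O_r(C(t))` fixed
by `a` lies in a maximal subgroup `H` of which all cores are centralised or inverted by `t`, so `t` centralises
`C_{O_r(C(a))}(X)`, hence all of `O_r(C(a))`.
-/

set_option autoImplicit false
set_option linter.unusedSectionVars false
set_option linter.style.haveILetI false

namespace Cfsg.Agent.Invol.AbelTwo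

open Subgroup Fus.Gold GW.Klein GW.ThreeClass BenderPush Transfer.Loc
open scoped Pointwise

universe u

variable {G : Type u} [Group G] [Finite G] {s : Setup G}

namespace Over

variable {t : G} {M : Subgroup G} (o : Over s t M)
include o

/-- A turn about `t` fixes a nontrivial central element of a core on which it has no bad involution. -/
theorem exists_fixed_center {a g : G} (T : Turn s.A t a g) {r : ℕ} [Fact r.Prime] (hodd : Odd (Nat.card ↥(Cfsg.pCoreOf r M)))
    (hne : Cfsg.pCoreOf r M ≠ ⊥) :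
    ∃ z ∈ Cfsg.pCoreOf r M ⊓ centralizer (Cfsg.pCoreOf r M : Set G), z ≠ 1 ∧ Commute a z := by
  set Z := Cfsg.pCoreOf r M ⊓ centralizer (Cfsg.pCoreOf r M : Set G)
  have hZn : M ≤ normalizer (Z : Set G) := Grp.le_normalizer_inf' (lg_le_normalizer_pCoreOf M)
    ((lg_le_normalizer_pCoreOf M).trans normalizer_le_normalizer_centralizer)
  have hZodd : Odd (Nat.card ↥Z) := hodd.of_dvd_nat (card_dvd_of_le inf_le_left)
  have hgM := o.commute_mem T.gt
  set b := g * a * g⁻¹ with hb
  by_contra hno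
  push Not at hno
  have ha : ∀ z ∈ Z, Commute a z → z = 1 := fun z hz hc => by_contra fun h1 => hno z hz h1 hc
  have hfixb : ∀ z ∈ Z, Commute b z → z = 1 := fun z hz hc => by
    have h1 : g⁻¹ * z * g ∈ Z := GW.ThreeClass.conj_mem' (hZn hgM) hz
    have h2 : Commute a (g⁻¹ * z * g) := by
      have h3 := hc.map (MulAut.conj g⁻¹).toMonoidHom
      simpa [hb, mul_assoc] using h3
    simpa [mul_assoc] using congrArg (fun w => g * w * g⁻¹) (ha _ h1 h2)
  have hinv : ∀ v ∈ s.A, (∀ z ∈ Z, Commute v z → z = 1) → ∀ z ∈ Z, v * z * v⁻¹ = z⁻¹ := fun v hv h z hz =>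
    inverted_of_fixed_free (s.sq hv) hZodd (hZn (o.sylow_le hv)) h hz
  refine BenderUnique.zcore_ne_bot hne ((eq_bot_iff_forall _).2 fun z hz => ?_)
  have hab : Commute (a * b) z := commute_of_conj (by
    rw [show a * b * z * (a * b)⁻¹ = a * (b * z * b⁻¹) * a⁻¹ by group, hinv b T.bS hfixb z hz,
      show a * z⁻¹ * a⁻¹ = (a * z * a⁻¹)⁻¹ by group, hinv a T.aS ha z hz, inv_inv])
  have h1 : g * z * g⁻¹ ∈ Z := GW.ThreeClass.conj_mem (hZn hgM) hz
  have h2 : Commute a (g * z * g⁻¹) := by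
    have h3 := hab.conj g
    rwa [show g * (a * b) * g⁻¹ = a from T.gab] at h3
  exact conj_eq_one_iff.1 (ha _ h1 h2)

/-- The centraliser of `t` is not maximal. -/
theorem not_le_centralizer : ¬ M ≤ centralizer ({t} : Set G) := by
  intro hMC
  haveI := s.simple
  have hct : ∀ x ∈ M, Commute x t := fun x hx => mem_centralizer_singleton_iff.1 (hMC hx)
  obtain ⟨r, hr⟩ := o.exists_good
  haveI := Fact.mk hr.1
  have hodd := o.good_odd hr
  set P := Cfsg.pCoreOf r M with hP
  have hPne := o.good_ne_bot hr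
  obtain ⟨a, g, T⟩ := o.cfg.exists_turn o.tA o.t1
  obtain ⟨n, hn, hna⟩ := o.cfg.eight.trans t o.tA a T.aS o.t1 T.a1
  -- the data at `a`
  have oa := o.smul hn
  have hra := hr.smul hn
  set Ma := MulAut.conj n • M with hMa
  set Pa := Cfsg.pCoreOf r Ma with hPa
  rw [hna] at oa hra
  have hMaC : ∀ x ∈ Ma, Commute x a := fun x hx => by
    have h1 := (hct _ (Grp.mem_smul_conj.1 hx)).conj n
    rwa [show n * (n⁻¹ * x * n) * n⁻¹ = x by group, hna] at h1
  -- the fixed part of the centre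
  obtain ⟨z, hz, hz1, haz⟩ := o.exists_fixed_center T hodd hPne
  set X := (P ⊓ centralizer (P : Set G)) ⊓ centralizer ({a} : Set G) with hX
  have hzX : z ∈ X := ⟨hz, mem_centralizer_singleton_iff.2 haz.symm.eq⟩
  have hXne : X ≠ ⊥ := fun e => hz1 (mem_bot.1 (e ▸ hzX))
  have hXP : X ≤ P := inf_le_left.trans inf_le_left
  have hXtop : X ≠ ⊤ := o.cfg.odd_ne_top (hodd.of_dvd_nat (card_dvd_of_le hXP))
  obtain ⟨H, hH, hNH⟩ := (eq_top_or_exists_le_coatom (normalizer (X : Set G))).resolve_left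
    (o.cfg.normalizer_ne_top hXne hXtop)
  have hAX : s.A ≤ normalizer (X : Set G) := Grp.le_normalizer_inf'
    (Grp.le_normalizer_inf' (o.sylow_le.trans (lg_le_normalizer_pCoreOf M))
      ((o.sylow_le.trans (lg_le_normalizer_pCoreOf M)).trans normalizer_le_normalizer_centralizer))
    ((s.le_centralizer T.aS).trans le_normalizer)
  have hPX : P ≤ normalizer (X : Set G) := fun x hx => centralizer_le_normalizer _
    (mem_centralizer_iff.2 fun y hy => (mem_centralizer_iff.1 hy.1.2 x hx).symm)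
  have hlay := o.lay_eq_bot hr hH.1 (hAX.trans hNH) (hPX.trans hNH)
  have hL : BenderUnique.Leads M H := o.leads hr.1 hXne hXP (inf_le_right.trans hNH)
  -- two primes
  have hO2 : Cfsg.pCoreOf 2 M ≠ ⊥ := by
    haveI : Fact (Nat.Prime 2) := ⟨Nat.prime_two⟩
    refine fun e => o.t1 (mem_bot.1 (e ▸ lg_le_pCoreOf (U := zpowers t) (zpowers_le.2 o.t_mem) ?_ ?_ (mem_zpowers t)))
    · refine fun x hx => centralizer_le_normalizer _ (mem_centralizer_iff.2 fun y hy => ?_)
      obtain ⟨i, rfl⟩ := mem_zpowers_iff.1 hy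
      exact ((hct x hx).zpow_right i).symm.eq
    · exact IsPGroup.of_card (n := 1) (by rw [Nat.card_zpowers, s.orderOf_eq o.tA o.t1, pow_one])
  have hmix : BenderUnique.Mixed M :=
    Or.inr ⟨2, r, Nat.prime_two, hr.1, (o.good_ne_two hr).symm, hO2, hPne⟩
  have htH : t ∈ H := hNH (hAX o.tA)
  have hcase : ∀ q : ℕ, q.Prime → (∀ y ∈ Cfsg.pCoreOf q H, Commute t y) ∨
      (∀ y ∈ Cfsg.pCoreOf q H, t * y * t⁻¹ = y⁻¹) := by
    intro q hq
    rcases eq_or_ne (Cfsg.pCoreOf q M) ⊥ with e | e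
    · refine Or.inr (inverts_core o.tt htH hq (fun h2 => hO2 (h2 ▸ e)) fun y hy hc => ?_)
      exact mem_bot.1 (hL.disjoint q hq e ▸ (⟨hy, o.commute_mem hc.symm⟩ : y ∈ Cfsg.pCoreOf q H ⊓ M))
    · exact Or.inl fun y hy => (hct y (hL.core_le hmix hq e hy)).symm
  -- `t` centralises what centralises `X` in the core over `C(a)`
  set D := Pa ⊓ centralizer (X : Set G) with hD
  have hPaodd : Odd (Nat.card ↥Pa) := oa.good_odd hra
  have htPa : t ∈ normalizer (Pa : Set G) := lg_le_normalizer_pCoreOf Ma (oa.sylow_le o.tA)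
  have htX : ∀ x ∈ X, Commute t x := fun x hx => (hct x (lg_pCoreOf_le M (hXP hx))).symm
  have htD : t ∈ normalizer (D : Set G) := Grp.le_normalizer_inf' (A := zpowers t) (zpowers_le.2 htPa)
    ((zpowers_le.2 (centralizer_le_normalizer _ (mem_centralizer_iff.2 fun x hx => (htX x hx).symm.eq))).trans
      normalizer_le_normalizer_centralizer) (mem_zpowers t)
  have hDfix : ∀ d ∈ D, Commute t d := fun d hd => commute_of_no_inverted o.tt
    (hPaodd.of_dvd_nat (card_dvd_of_le inf_le_left)) htD (fun d hd hinv => ?_) hd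
  case refine_1 =>
    have hdo : Odd (orderOf d) := GW.ThreeClass.odd_orderOf hPaodd hd.1
    obtain ⟨k, hk⟩ := IsPGroup.iff_orderOf.1 (lg_isPGroup_pCoreOf (p := r) Ma) ⟨d, hd.1⟩
    rw [Subgroup.orderOf_mk] at hk
    have h1 := AbelTwo.mem_core_of_inverted hlay (hNH (centralizer_le_normalizer _ hd.2)) hdo hinv hr.1 hk hcase
    have h2 := hct d (hL.core_le hmix hr.1 hPne h1)
    rw [h2.symm.eq, mul_inv_cancel_right] at hinv
    exact GW.Klein.eq_one_of_odd hPaodd hd.1 (mul_eq_one_iff_eq_inv.2 hinv)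
  -- so all of that core
  have hA : ∀ v ∈ zpowers t, ∀ x ∈ Pa, Commute v x := by
    refine pq (p := r) (B := X) ?_ ((lg_isPGroup_pCoreOf (p := r) M).to_le hXP) (fun v hv x hx => ?_)
      (lg_isPGroup_pCoreOf (p := r) Ma) (zpowers_le.2 htPa) (fun x hx => ?_) fun w hw hwX v hv => ?_
    · rw [Nat.card_zpowers, s.orderOf_eq o.tA o.t1]
      exact (Nat.coprime_primes Nat.prime_two hr.1).2 (o.good_ne_two hr).symm
    · obtain ⟨i, rfl⟩ := mem_zpowers_iff.1 hv
      exact (htX x hx).zpow_left i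
    · exact lg_le_normalizer_pCoreOf Ma (oa.commute_mem (mem_centralizer_singleton_iff.1 hx.2))
    · obtain ⟨i, rfl⟩ := mem_zpowers_iff.1 hv
      exact (hDfix w ⟨hw, mem_centralizer_iff.2 fun x hx => (hwX x hx).eq⟩).zpow_left i
  exact (hra.2 t o.tA fun x hx => hA t (mem_zpowers t) x hx).elim o.t1 T.ne_a

end Over

end Cfsg.Agent.Invol.AbelTwo
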