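import Cfsg.Agent.Lib.Invol.AbelTwo.Big
import Cfsg.Agent.Lib.Invol.GW.Klein.ThreeClassPGroup
import Cfsg.Agent.Lib.Fus.StableOdd
import Cfsg.Agent.Lib.Transfer.PStableFree
import Cfsg.Agent.Lib.Invol.StronglyClosedControl

/-!
# The cores of a maximal subgroup over `C(t)` are at two primes or more

With a single prime `p` the normaliser of the Thompson centre controls fusion of `p`-elements, so an element of
`O_p(M)` inverted by `t` is conjugate in `M` to one centralised by `t`; then the core of `M` inverts it.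
-/

set_option autoImplicit false
set_option linter.unusedSectionVars false
set_option linter.style.haveILetI false

namespace Cfsg.Agent.Invol.AbelTwo

open Subgroup Fus.Gold GW.Klein GW.ThreeClass BenderPush Transfer.Loc
open scoped Pointwise

universe u

variable {G : Type u} [Group G] [Finite G] {s : Setup G}

theorem Cfg.sylow_comm (h : Cfg s) : ∀ T : Sylow 2 G, IsMulCommutative ↥(T : Subgroup G) := fun T => by
  haveI : Fact (Nat.Prime 2) := ⟨Nat.prime_two⟩
  haveI := h.comm_sylow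
  refine ⟨⟨fun x y => Subtype.ext ?_⟩⟩
  let e := T.equiv s.S
  have h1 : e x * e y = e y * e x := IsMulCommutative.is_comm.comm _ _
  rw [← map_mul, ← map_mul] at h1
  exact congrArg Subtype.val (e.injective h1)

namespace Big

variable {t : G} {M : Subgroup G} (B : Big s t M)
include B

theorem exists_other (p : ℕ) : ∃ q : ℕ, q.Prime ∧ q ≠ p ∧ Cfsg.pCoreOf q M ≠ ⊥ := by
  obtain ⟨l, hl⟩ := B.mov_nonempty
  have hlne := mov_ne_bot hl
  by_cases hlp : l = p
  swap
  · exact ⟨l, hl.1, hlp, hlne⟩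
  subst hlp
  by_contra hno
  push Not at hno
  haveI := Fact.mk hl.1
  have hp2 := B.ne_two hlne
  obtain ⟨x, hxP, hx1, hxt, v, hv, hv1, hxv⟩ := B.exists_inverted hl
  obtain ⟨n, hn, hnv⟩ := B.ov.cfg.eight.trans t B.ov.tA v hv B.ov.t1 hv1
  set P := Cfsg.pCoreOf l M with hP
  -- the Thompson centre of a Sylow subgroup of `M`
  obtain ⟨Q, hQ⟩ := Grp.exists_isSylowIn l M
  have hPQ : P ≤ Q := GW.Klein.le_isSylowIn hQ (lg_pCoreOf_le M) (hQ.1.trans (lg_le_normalizer_pCoreOf M))
    (lg_isPGroup_pCoreOf (p := l) M)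
  have hQne : Q ≠ ⊥ := ne_bot_of_le_ne_bot hlne hPQ
  set W := Invol.centerOmega 0 Q with hW
  have hWne : W ≠ ⊥ := Invol.centerOmega_ne_bot (Or.inl rfl) hQ.2.1 hQne
  have hctrl := Fus.StableOdd.zjControl_of_stable (p := l) hp2
  have hst := Grp.Quad.isNormalizerPStable_of_free hp2 (Transfer.qdFree_of_sylow_two_comm hp2 B.ov.cfg.sylow_comm)
  have hWM : M ≤ normalizer (W : Set G) := by
    intro g hg
    obtain ⟨m, hmM, hmW, hm⟩ := Invol.ZJControl.in_subgroup (hctrl ↥M (Invol.isNormalizerPStable_subgroup hst M))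
      hQ (A := (P : Set G)) hPQ hg (fun a ha => hPQ (GW.ThreeClass.conj_mem (lg_le_normalizer_pCoreOf M hg) ha))
    set c := m⁻¹ * g with hc
    have hcM : c ∈ M := mul_mem (inv_mem hmM) hg
    have hcP : ∀ a ∈ P, Commute c a := fun a ha => commute_of_conj (by
      calc m⁻¹ * g * a * (m⁻¹ * g)⁻¹ = m⁻¹ * (g * a * g⁻¹) * m := by group
        _ = a := by rw [← hm a ha]; group)
    have hcW : c ∈ normalizer (W : Set G) := by
      refine Invol.normalizer_le_centerOmega Q (le_normalizer (hPQ ?_))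
      have h1 : zpowers c ≤ gf M := BenderUnique.centralizer_gf_le M (zpowers_le.2 hcM)
        (le_centralizer_gf M (by rw [B.lay_eq_bot]; exact bot_le) fun q hq => le_centralizer_iff.1 (zpowers_le.2
          (mem_centralizer_iff.2 fun y hy => by
            by_cases hql : q = l
            · rw [hql] at hy; exact (hcP y hy).symm.eq
            · rw [hno q hq hql, SetLike.mem_coe, mem_bot] at hy
              subst hy; rw [one_mul, mul_one])))
      exact B.gf_le (H := P) (fun q hq => by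
        by_cases hql : q = l
        · rw [hql]
        · rw [hno q hq hql]; exact bot_le) (h1 (mem_zpowers c))
    have := mul_mem hmW hcW
    rwa [hc, ← mul_assoc, mul_inv_cancel, one_mul] at this
  have hNW : normalizer (W : Set G) = M := B.ov.isOwn W hWne ((Invol.centerOmega_le Q).trans hQ.1) hWM
  -- `Q` is a Sylow subgroup of `G`
  obtain ⟨S, hS⟩ : ∃ S : Sylow l G, (S : Subgroup G) = Q := by
    obtain ⟨S, hS⟩ := hQ.2.1.exists_le_sylow
    refine ⟨S, le_antisymm ?_ hS⟩
    by_contra hlt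
    have hlt' : Q < (S : Subgroup G) := lt_of_le_not_ge hS hlt
    refine GW.Klein.not_inf_normalizer_le S.isPGroup' hlt' ?_
    have hle : (S : Subgroup G) ⊓ normalizer (Q : Set G) ≤ M :=
      inf_le_right.trans ((Invol.normalizer_le_centerOmega Q).trans hNW.le)
    have hQle : Q ≤ (S : Subgroup G) ⊓ normalizer (Q : Set G) := le_inf hS le_normalizer
    exact (hQ.eq_of_le hQle hle (S.isPGroup'.to_le inf_le_left)).ge
  -- a conjugate centralised by `t`
  set z := n⁻¹ * x * n with hz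
  have hzt : Commute z t := by
    have := (hxv.conj n⁻¹).symm
    rwa [show n⁻¹ * x * n⁻¹⁻¹ = z by rw [hz]; group, show n⁻¹ * v * n⁻¹⁻¹ = t by rw [← hnv]; group] at this
  have hzp : IsPGroup l ↥(zpowers z) := by
    obtain ⟨j, hj⟩ := IsPGroup.iff_orderOf.1 (lg_isPGroup_pCoreOf (p := l) M) ⟨x, hxP⟩
    rw [Subgroup.orderOf_mk] at hj
    refine IsPGroup.of_card (n := j) ?_
    rw [Nat.card_zpowers, hz, show n⁻¹ * x * n = MulAut.conj n⁻¹ x by simp, MulEquiv.orderOf_eq, hj]
  obtain ⟨k, hk, hk'⟩ := exists_conj_le_sylowIn hQ (zpowers_le.2 (B.ov.commute_mem hzt)) hzp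
  have hk' : k * z * k⁻¹ ∈ Q := hk' (mem_conj.2 (mem_zpowers z))
  obtain ⟨m, hm, hmz⟩ := hctrl G hst S {k * z * k⁻¹} (by
      rw [hS]; intro a ha; rw [Set.mem_singleton_iff.1 ha]; exact hk') (n * k⁻¹) (by
      intro a ha
      rw [hS, Set.mem_singleton_iff.1 ha, show n * k⁻¹ * (k * z * k⁻¹) * (n * k⁻¹)⁻¹ = x by rw [hz]; group]
      exact hPQ hxP)
  rw [hS, ← hW, hNW] at hm
  set g := m * k with hg
  have hgM : g ∈ M := mul_mem hm hk
  have hgz : g * z * g⁻¹ = x := by
    have h1 := hmz _ rfl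
    calc g * z * g⁻¹ = m * (k * z * k⁻¹) * m⁻¹ := by rw [hg]; group
      _ = x := by rw [h1, hz]; group
  -- the core inverts `x`
  have hex : Commute (g * t * g⁻¹) x := by
    have := hzt.symm.conj g
    rwa [hgz] at this
  refine hx1 (eq_one_of_real (odd_card_oddOf M) (g := g * t * g⁻¹ * t⁻¹) (B.ov.central hgM)
    (B.core_le_oddOf hl.1 hxP) ?_)
  calc g * t * g⁻¹ * t⁻¹ * x * (g * t * g⁻¹ * t⁻¹)⁻¹ = g * t * g⁻¹ * (t⁻¹ * x * t⁻¹⁻¹) * (g * t * g⁻¹)⁻¹ := by group
    _ = g * t * g⁻¹ * x⁻¹ * (g * t * g⁻¹)⁻¹ := by rw [GW.ThreeClass.inv_eq_self B.ov.tt, hxt]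
    _ = x⁻¹ := by rw [hex.inv_right.eq, mul_inv_cancel_right]

end Big

end Cfsg.Agent.Invol.AbelTwo
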