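import Cfsg.Agent.Lib.Invol.AbelTwo.CasePGroup

/-!
# Uniqueness of a maximal subgroup over `C(t)` moving most cores, and the contradiction

`M` with most moved cores is the only maximal subgroup over `S` and `F(M)`.  With `a = t^n` in `S` the parts of the
centres of the cores fixed by `a` then force `F(M^n) ≤ M`, so `n` normalises `M`.
-/

set_option autoImplicit false
set_option linter.unusedSectionVars false
set_option linter.style.haveILetI false

namespace Cfsg.Agent.Invol.AbelTwo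

open Subgroup Fus.Gold GW.Klein GW.ThreeClass BenderPush Transfer.Loc
open scoped Pointwise

universe u

variable {G : Type u} [Group G] [Finite G] {s : Setup G}

/-- No maximal subgroup over `C(t)` moves more cores. -/
def Most (s : Setup G) (t : G) (M : Subgroup G) : Prop :=
  ∀ H : Subgroup G, Over s t H → (mov t H).ncard ≤ (mov t M).ncard

/-- `M` is the only maximal subgroup over `S` and the cores of `M`. -/
def Uniq (s : Setup G) (M : Subgroup G) : Prop :=
  ∀ H : Subgroup G, IsCoatom H → s.A ≤ H → (∀ q : ℕ, q.Prime → Cfsg.pCoreOf q M ≤ H) → H = M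

theorem Uniq.smul {M : Subgroup G} (h : Uniq s M) {n : G} (hn : n ∈ normalizer (s.A : Set G)) :
    Uniq s (MulAut.conj n • M) := by
  intro H hH hAH hF
  have h1 : MulAut.conj n⁻¹ • H = M := by
    refine h _ (((MulAut.conj n⁻¹).mapSubgroup.isCoatom_iff H).2 hH) (fun x hx => ?_) fun q hq x hx => ?_
    · rw [Grp.mem_smul_conj, inv_inv]
      exact hAH ((mem_normalizer_iff.1 hn x).1 hx)
    · haveI := Fact.mk hq
      rw [Grp.mem_smul_conj, inv_inv]
      exact hF q hq (by rw [pCoreOf_smul]; exact mem_conj.2 hx)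
  rw [← h1, Grp.conj_smul_conj_smul, mul_inv_cancel, map_one, one_smul]

namespace Big

variable {t : G} {M : Subgroup G} (B : Big s t M)
include B

theorem exists_core : ∃ q : ℕ, q.Prime ∧ Cfsg.pCoreOf q M ≠ ⊥ :=
  let ⟨p, hp⟩ := B.mov_nonempty
  ⟨p, hp.1, mov_ne_bot hp⟩

theorem mixed : BenderUnique.Mixed M := by
  obtain ⟨p, hp, hp0⟩ := B.exists_core
  obtain ⟨q, hq, hqp, hq0⟩ := B.exists_other p
  exact Or.inr ⟨p, q, hp, hq, hqp.symm, hp0, hq0⟩

theorem leads {H : Subgroup G} (hF : ∀ q : ℕ, q.Prime → Cfsg.pCoreOf q M ≤ H) : BenderUnique.Leads M H := by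
  obtain ⟨p, hp, hp0⟩ := B.exists_core
  exact B.ov.leads hp hp0 le_rfl (inf_le_left.trans (B.gf_le hF))

/-- Symmetry. -/
theorem eq_of_symm {H : Subgroup G} (hH : IsCoatom H) (hlay : lay H = ⊥)
    (hne : ∃ q : ℕ, q.Prime ∧ Cfsg.pCoreOf q H ≠ ⊥) (hF : ∀ q : ℕ, q.Prime → Cfsg.pCoreOf q M ≤ H)
    (hF' : ∀ q : ℕ, q.Prime → Cfsg.pCoreOf q H ≤ M) : H = M := by
  haveI := s.simple
  obtain ⟨q, hq, hq0⟩ := hne
  have hL' : BenderUnique.Leads H M := BenderUnique.Leads.of (BenderUnique.isOwn_of_coatom hH)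
    ⟨_, hq0, core_le_fitting H hq, inf_le_left.trans (by
      show gf H ≤ M
      rw [gf, Cfsg.generalizedFittingSubgroup, Subgroup.map_sup, show (Cfsg.layer ↥H).map H.subtype = ⊥ from hlay,
        bot_sup_eq]
      exact fun x hx => mem_of_primePow fun y hy l k hl ho =>
        hF' l hl (BenderPush.mem_core H ((zpowers_le.mpr hx) hy) hl ho))⟩
  obtain ⟨p, hp, hp0⟩ := B.exists_core
  haveI := Fact.mk hp
  refine ((BenderUnique.symmetric_case (B.leads hF) hL' fun e => hp0 ?_).resolve_right ?_).symm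
  · rw [eq_bot_iff]
    exact (core_le_fitting M hp).trans (by rw [e, Subgroup.map_bot])
  · rintro ⟨l, hl, hlp, -⟩
    haveI := Fact.mk hl
    obtain ⟨r, hr, hrl, hr0⟩ := B.exists_other l
    haveI := Fact.mk hr
    refine hr0 (le_bot_iff.1 ?_)
    rw [← inf_eq_bot_of_pGroups hr hl hrl (lg_isPGroup_pCoreOf (p := r) M) (hlp.map M.subtype)]
    exact le_inf le_rfl (core_le_gf M hr)

/-- A maximal subgroup over `C(t)` and the cores of `M` is `M`, when `M` moves most cores. -/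
theorem eq_of_over (hmost : Most s t M) {H : Subgroup G} (oH : Over s t H)
    (hF : ∀ q : ℕ, q.Prime → Cfsg.pCoreOf q M ≤ H) : H = M := by
  have BH : Big s t H := ⟨oH, oH.not_le_centralizer⟩
  have hL := B.leads hF
  have hin : ∀ q : ℕ, q.Prime → Cfsg.pCoreOf q M ≠ ⊥ → Cfsg.pCoreOf q H ≤ M :=
    fun q hq h0 => hL.core_le B.mixed hq h0
  refine B.eq_of_symm oH.coatom BH.lay_eq_bot BH.exists_core hF fun q hq => ?_
  rcases eq_or_ne (Cfsg.pCoreOf q H) ⊥ with e | hqH
  · rw [e]; exact bot_le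
  refine hin q hq fun hqM => ?_
  -- an outside prime
  have hout : ∀ l : ℕ, l.Prime → Cfsg.pCoreOf l M = ⊥ → ∀ y ∈ Cfsg.pCoreOf l H, t * y * t⁻¹ = y⁻¹ := by
    intro l hl h0 y hy
    rcases eq_or_ne l 2 with rfl | h2
    · rw [BH.core_two, mem_bot] at hy
      subst hy; group
    · exact inverts_core B.ov.tt oH.t_mem hl h2 (fun w hw hc =>
        mem_bot.1 (hL.disjoint l hl h0 ▸ (⟨hw, B.ov.commute_mem hc.symm⟩ : w ∈ Cfsg.pCoreOf l H ⊓ M))) y hy
  obtain ⟨w, hw, hw1⟩ := (bot_or_exists_ne_one _).resolve_left hqH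
  have hqmov : q ∈ mov t H := ⟨hq, w, hw, fun hc => hw1 (GW.Klein.eq_one_of_odd (BH.odd_core hq) hw (by
    have h1 := hout q hq hqM w hw
    rw [hc.eq, mul_inv_cancel_right] at h1
    exact mul_eq_one_iff_eq_inv.2 h1))⟩
  have hsub : mov t M ⊆ mov t H := by
    intro p hp
    by_contra hpH
    obtain ⟨x, hx, hx1, hxt, -⟩ := B.exists_inverted hp
    have hp0 := mov_ne_bot hp
    haveI := Fact.mk hp.1
    obtain ⟨k, hk⟩ := IsPGroup.iff_orderOf.1 (lg_isPGroup_pCoreOf (p := p) M) ⟨x, hx⟩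
    rw [Subgroup.orderOf_mk] at hk
    have hxo : Odd (orderOf x) := GW.ThreeClass.odd_orderOf (B.odd_core hp.1) hx
    have hxH : x ∈ H := hF p hp.1 hx
    have hcp : ∀ y ∈ Cfsg.pCoreOf p H, Commute t y := fun y hy => by_contra fun h => hpH ⟨hp.1, y, hy, h⟩
    have h1 : x ∈ Cfsg.pCoreOf p H := by
      refine BH.mem_core hxH hp.1 hk fun l hl y hy => ?_
      have hy' : x * y * x⁻¹ ∈ Cfsg.pCoreOf l H := (mem_normalizer_iff.1 (lg_le_normalizer_pCoreOf H hxH) y).1 hy
      by_cases hlp : l = p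
      · subst hlp
        exact commute_fixed hxo hxt (hcp y hy) (hcp _ hy')
      rcases eq_or_ne (Cfsg.pCoreOf l M) ⊥ with hl0 | hl0
      · exact commute_inverted hxo hxt (hout l hl hl0 y hy) (hout l hl hl0 _ hy')
      · exact mem_centralizer_iff.1 (hL.commute_core l p hl hp.1 (Ne.symm hlp) hl0 hy) x hx
    exact hx1 (GW.Klein.eq_one_of_odd (B.odd_core hp.1) hx (by
      rw [(hcp x h1).eq, mul_inv_cancel_right] at hxt
      exact mul_eq_one_iff_eq_inv.2 hxt))
  have hlt : (mov t M).ncard < (mov t H).ncard := Set.ncard_lt_ncard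
    (Set.ssubset_iff_subset_ne.2 ⟨hsub, fun e => mov_ne_bot (e ▸ hqmov : q ∈ mov t M) hqM⟩) (mov_finite t H)
  exact absurd (hmost H oH) (not_le.2 hlt)

/-- What `t` inverts in a moved core generates a subgroup whose normaliser lies in `M`. -/
theorem exists_local (hmost : Most s t M) {p : ℕ} (hp : p ∈ mov t M) :
    ∃ D : Subgroup G, D ≤ Cfsg.pCoreOf p M ∧ normalizer (D : Set G) ≤ M ∧
      D ≤ closure {x | x ∈ Cfsg.pCoreOf p M ∧ t * x * t⁻¹ = x⁻¹} := by
  set P := Cfsg.pCoreOf p M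
  set I : Set G := {x | x ∈ P ∧ t * x * t⁻¹ = x⁻¹} with hI
  set D := closure I with hD
  have hDP : D ≤ P := (closure_le _).2 fun x hx => hx.1
  refine ⟨D, hDP, ?_, le_rfl⟩
  obtain ⟨x₀, hx₀, hx₀1, hx₀t, -⟩ := B.exists_inverted hp
  have hDne : D ≠ ⊥ := fun e => hx₀1 (mem_bot.1 (e ▸ subset_closure (show x₀ ∈ I from ⟨hx₀, hx₀t⟩)))
  have hDtop : D ≠ ⊤ := B.ov.cfg.odd_ne_top ((B.odd_core hp.1).of_dvd_nat (card_dvd_of_le hDP))
  -- invariance
  have hgen : ∀ c : G, (∀ x ∈ I, c * x * c⁻¹ ∈ D) → c ∈ normalizer (D : Set G) := fun c hc =>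
    mem_normalizer_fintype fun y hy => by
      have h1 : D.map (MulAut.conj c).toMonoidHom ≤ D := by
        rw [hD, MonoidHom.map_closure, closure_le]
        rintro _ ⟨x, hx, rfl⟩
        exact hc x hx
      exact h1 ⟨y, hy, rfl⟩
  have hC : ∀ c : G, Commute c t → c ∈ normalizer (D : Set G) := fun c hc => hgen c fun x hx =>
    subset_closure ⟨GW.ThreeClass.conj_mem (lg_le_normalizer_pCoreOf M (B.ov.commute_mem hc)) hx.1, by
      rw [show t * (c * x * c⁻¹) * t⁻¹ = t * c * x * (t * c)⁻¹ by group, ← hc.eq,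
        show c * t * x * (c * t)⁻¹ = c * (t * x * t⁻¹) * c⁻¹ by group, hx.2]
      group⟩
  have hPD : P ≤ normalizer (D : Set G) := by
    intro y hy
    obtain ⟨c, hc, r, hr, hzc, hzr, rfl⟩ := decomp B.ov.tt (B.odd_core hp.1)
      (lg_le_normalizer_pCoreOf M B.ov.t_mem) hy
    exact mul_mem (hC c hzc.symm) (le_normalizer (subset_closure ⟨hr, hzr⟩))
  obtain ⟨H, hH, hle⟩ := (eq_top_or_exists_le_coatom (normalizer (D : Set G))).resolve_left
    (B.ov.cfg.normalizer_ne_top hDne hDtop)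
  have hCH : centralizer ({t} : Set G) ≤ H := fun c hc => hle (hC c (mem_centralizer_singleton_iff.1 hc))
  rw [← B.eq_of_over hmost ⟨B.ov.cfg, B.ov.free, B.ov.tA, B.ov.t1, hH, hCH⟩ fun q hq => ?_]
  · exact hle
  rcases eq_or_ne q p with rfl | hqp
  · exact hPD.trans hle
  · exact (((core_comm M hq hp.1 hqp).trans (centralizer_le hDP)).trans (centralizer_le_normalizer _)).trans hle

/-- Uniqueness. -/
theorem uniq (hmost : Most s t M) : Uniq s M := by
  intro H hH hAH hF
  haveI : Fact (Nat.Prime 2) := ⟨Nat.prime_two⟩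
  obtain ⟨r, hr⟩ := B.ov.exists_good
  have hlay := B.ov.lay_eq_bot hr hH.1 hAH (hF r hr.1)
  have hL := B.leads hF
  obtain ⟨P, hP⟩ := B.ov.cfg.sylow_eight hAH
  have h2A : Cfsg.pCoreOf 2 H ≤ s.A := by
    rintro _ ⟨y, hy, rfl⟩
    exact mem_subgroupOf.1 (hP.le (Grp.pCore_le_sylow P hy))
  have hF' : ∀ q : ℕ, q.Prime → Cfsg.pCoreOf q H ≤ M := by
    intro q hq
    rcases eq_or_ne (Cfsg.pCoreOf q M) ⊥ with hq0 | hq0
    swap
    · exact hL.core_le B.mixed hq hq0
    rcases eq_or_ne q 2 with rfl | hq2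
    · exact h2A.trans B.ov.sylow_le
    have hinv := inverts_core B.ov.tt (hAH B.ov.tA) hq hq2 fun w hw hc =>
      mem_bot.1 (hL.disjoint q hq hq0 ▸ (⟨hw, B.ov.commute_mem hc.symm⟩ : w ∈ Cfsg.pCoreOf q H ⊓ M))
    obtain ⟨p, hp⟩ := B.mov_nonempty
    obtain ⟨D, hDP, hDM, hDI⟩ := B.exists_local hmost hp
    refine fun w hw => hDM (centralizer_le_normalizer _ (mem_centralizer_iff.2 fun d hd => ?_))
    refine mem_centralizer_singleton_iff.1 (((closure_le _).2 ?_ : Subgroup.closure _ ≤ centralizer ({w} : Set G)) (hDI hd))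
    rintro x ⟨hx, hxt⟩
    refine mem_centralizer_singleton_iff.2 (commute_inverted (GW.ThreeClass.odd_orderOf (B.odd_core hp.1) hx) hxt
      (hinv w hw) (hinv _ ?_)).eq
    exact (mem_normalizer_iff.1 (lg_le_normalizer_pCoreOf H (hF p hp.1 hx)) w).1 hw
  refine B.eq_of_symm hH hlay ?_ hF hF'
  by_contra hno
  push Not at hno
  have h1 := mem_core_of_centralizing hlay (hAH B.ov.tA) Nat.prime_two (k := 1)
    (by rw [s.orderOf_eq B.ov.tA B.ov.t1, pow_one]) fun q hq y hy => by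
      rw [hno q hq, mem_bot] at hy
      exact hy ▸ Commute.one_right t
  rw [hno 2 Nat.prime_two, mem_bot] at h1
  exact B.ov.t1 h1

/-- A subgroup invariant under `S` and the cores has its normaliser in `M`. -/
theorem normalizer_le (hu : Uniq s M) {X : Subgroup G} {p : ℕ} (hp : p.Prime) (hXne : X ≠ ⊥)
    (hXP : X ≤ Cfsg.pCoreOf p M) (hX : X ≤ centralizer (Cfsg.pCoreOf p M : Set G))
    (hA : s.A ≤ normalizer (X : Set G)) : normalizer (X : Set G) ≤ M := by
  have hXtop : X ≠ ⊤ := B.ov.cfg.odd_ne_top ((B.odd_core hp).of_dvd_nat (card_dvd_of_le hXP))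
  obtain ⟨H, hH, hle⟩ := (eq_top_or_exists_le_coatom (normalizer (X : Set G))).resolve_left
    (B.ov.cfg.normalizer_ne_top hXne hXtop)
  rw [← hu H hH (hA.trans hle) fun q hq => ?_]
  · exact hle
  refine le_trans ?_ ((centralizer_le_normalizer _).trans hle)
  rcases eq_or_ne q p with rfl | hqp
  · exact le_centralizer_iff.1 hX
  · exact (core_comm M hq hp hqp).trans (centralizer_le hXP)

end Big

/-- No centraliser of an involution has a core on which only it acts trivially. -/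
theorem not_free (h : Cfg s) : ¬ Free s := by
  intro hfree
  haveI := s.simple
  obtain ⟨t, ht, ht1, -⟩ := h.exists_ne (t := (1 : G))
  obtain ⟨H₀, hH₀, hle₀⟩ := (eq_top_or_exists_le_coatom (centralizer ({t} : Set G))).resolve_left
    (h.centralizer_ne_top ht1)
  obtain ⟨M, hM, hmost⟩ := Set.exists_max_image {H : Subgroup G | Over s t H} (fun H => (mov t H).ncard)
    (Set.toFinite _) ⟨H₀, ⟨h, hfree, ht, ht1, hH₀, hle₀⟩⟩
  have o : Over s t M := hM
  have B : Big s t M := ⟨o, o.not_le_centralizer⟩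
  have hu : Uniq s M := B.uniq hmost
  -- the data at `a`
  obtain ⟨a, g, T⟩ := h.exists_turn ht ht1
  obtain ⟨n, hn, hna⟩ := h.eight.trans t ht a T.aS ht1 T.a1
  have ua := hu.smul hn
  have oa := o.smul hn
  rw [hna] at oa
  set Ma := MulAut.conj n • M with hMa
  have Ba : Big s a Ma := ⟨oa, oa.not_le_centralizer⟩
  -- the parts fixed by `a`
  set X : ℕ → Subgroup G := fun l =>
    (Cfsg.pCoreOf l M ⊓ centralizer (Cfsg.pCoreOf l M : Set G)) ⊓ centralizer ({a} : Set G)
  have hXP : ∀ l, X l ≤ Cfsg.pCoreOf l M := fun l => inf_le_left.trans inf_le_left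
  have hXMa : ∀ l, X l ≤ Ma := fun l => inf_le_right.trans oa.le
  have hXA : ∀ l, s.A ≤ normalizer (X l : Set G) := fun l => Grp.le_normalizer_inf'
    (Grp.le_normalizer_inf' (o.sylow_le.trans (lg_le_normalizer_pCoreOf M))
      ((o.sylow_le.trans (lg_le_normalizer_pCoreOf M)).trans normalizer_le_normalizer_centralizer))
    ((s.le_centralizer T.aS).trans le_normalizer)
  have hXne : ∀ l : ℕ, l.Prime → Cfsg.pCoreOf l M ≠ ⊥ → X l ≠ ⊥ := fun l hl h0 e => by
    haveI := Fact.mk hl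
    obtain ⟨z, hz, hz1, haz⟩ := o.exists_fixed_center T (B.odd_core hl) h0
    exact hz1 (mem_bot.1 (e ▸ (⟨hz, mem_centralizer_singleton_iff.2 haz.symm.eq⟩ : z ∈ X l)))
  have hXN : ∀ l : ℕ, l.Prime → Cfsg.pCoreOf l M ≠ ⊥ → normalizer (X l : Set G) ≤ M := fun l hl h0 =>
    B.normalizer_le hu hl (hXne l hl h0) (hXP l) (inf_le_left.trans inf_le_right) (hXA l)
  -- what of the cores at `a` lies in `M` centralises the cores of `M` at other primes
  have hcomm : ∀ q l : ℕ, q.Prime → l.Prime → l ≠ q → Cfsg.pCoreOf l M ≠ ⊥ →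
      ∀ w ∈ Cfsg.pCoreOf q Ma, w ∈ M → ∀ u ∈ Cfsg.pCoreOf l M, Commute w u := by
    intro q l hq hl hlq hl0 w hw hwM
    haveI := Fact.mk hq
    haveI := Fact.mk hl
    set Pl := Cfsg.pCoreOf l Ma with hPl
    set Y := (Pl ⊓ centralizer (Pl : Set G)) ⊓ centralizer (X l : Set G) with hY
    have hYne : Y ≠ ⊥ := GW.ThreeClass.exists_fixed ((lg_isPGroup_pCoreOf (p := l) Ma).to_le inf_le_left)
      ((lg_isPGroup_pCoreOf (p := l) M).to_le (hXP l))
      ((hXMa l).trans (Grp.le_normalizer_inf' (lg_le_normalizer_pCoreOf Ma)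
        ((lg_le_normalizer_pCoreOf Ma).trans normalizer_le_normalizer_centralizer)))
      (BenderUnique.zcore_ne_bot (pCoreOf_smul_ne_bot n hl0))
    have hYA : s.A ≤ normalizer (Y : Set G) := Grp.le_normalizer_inf'
      (Grp.le_normalizer_inf' (oa.sylow_le.trans (lg_le_normalizer_pCoreOf Ma))
        ((oa.sylow_le.trans (lg_le_normalizer_pCoreOf Ma)).trans normalizer_le_normalizer_centralizer))
      ((hXA l).trans normalizer_le_normalizer_centralizer)
    have hYN : normalizer (Y : Set G) ≤ Ma :=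
      Ba.normalizer_le ua hl hYne (inf_le_left.trans inf_le_left) (inf_le_left.trans inf_le_right) hYA
    have hYM : Y ≤ M := inf_le_right.trans ((centralizer_le_normalizer _).trans (hXN l hl hl0))
    have hwo : IsPGroup q ↥(zpowers w) := (lg_isPGroup_pCoreOf (p := q) Ma).to_le (zpowers_le.2 hw)
    refine pq (p := l) (A := zpowers w) (B := Y) (coprime_of_isPGroup hwo ((Nat.coprime_primes hq hl).2 hlq.symm))
      ((lg_isPGroup_pCoreOf (p := l) Ma).to_le (inf_le_left.trans inf_le_left)) (fun v hv b hb => ?_)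
      (lg_isPGroup_pCoreOf (p := l) M) ((zpowers_le.2 hwM).trans (lg_le_normalizer_pCoreOf M))
      (hYM.trans (lg_le_normalizer_pCoreOf M)) (fun u hu hub v hv => ?_) w (mem_zpowers w)
    · exact (mem_centralizer_iff.1 (core_comm Ma hq hl hlq.symm ((zpowers_le.2 hw) hv)) b hb.1.1).symm
    · have huMa : u ∈ Ma := hYN (centralizer_le_normalizer _ (mem_centralizer_iff.2 fun b hb => (hub b hb).eq))
      exact commute_of_inf (inf_eq_bot_of_pGroups hq hl hlq.symm (lg_isPGroup_pCoreOf (p := q) Ma)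
        (lg_isPGroup_pCoreOf (p := l) M)) ((zpowers_le.2 hw) hv) hu
        (lg_le_normalizer_pCoreOf M ((zpowers_le.2 hwM) hv)) (lg_le_normalizer_pCoreOf Ma huMa)
  -- all the cores at `a` lie in `M`
  have hle : ∀ q : ℕ, q.Prime → Cfsg.pCoreOf q Ma ≤ M := by
    intro q hq
    haveI := Fact.mk hq
    rcases eq_or_ne (Cfsg.pCoreOf q M) ⊥ with h0 | h0
    · rw [hMa, pCoreOf_smul, h0, smul_bot]; exact bot_le
    obtain ⟨l, hl, hlq, hl0⟩ := B.exists_other q
    haveI := Fact.mk hl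
    intro w hw
    refine hXN l hl hl0 (centralizer_le_normalizer _ (mem_centralizer_iff.2 fun x hx => ?_))
    refine (pq (p := q) (A := X l) (B := X q) (W := Cfsg.pCoreOf q Ma)
      (coprime_of_isPGroup ((lg_isPGroup_pCoreOf (p := l) M).to_le (hXP l)) ((Nat.coprime_primes hl hq).2 hlq))
      ((lg_isPGroup_pCoreOf (p := q) M).to_le (hXP q))
      (fun v hv b hb => (mem_centralizer_iff.1 (core_comm M hl hq hlq (hXP l hv)) b (hXP q hb)).symm)
      (lg_isPGroup_pCoreOf (p := q) Ma) ((hXMa l).trans (lg_le_normalizer_pCoreOf Ma))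
      ((hXMa q).trans (lg_le_normalizer_pCoreOf Ma)) (fun u hu hub v hv => ?_) x hx w hw).eq
    have huM : u ∈ M := hXN q hq h0 (centralizer_le_normalizer _ (mem_centralizer_iff.2 fun b hb => (hub b hb).eq))
    exact (hcomm q l hq hl hlq hl0 u hu huM v (hXP l hv)).symm
  have heq : M = Ma := ua M o.coatom o.sylow_le hle
  have hnM : n ∈ M := by
    rw [← o.isOwn M (fun e => o.t1 (mem_bot.1 (e ▸ o.t_mem))) le_rfl le_normalizer]
    exact mem_normalizer_fintype fun x hx => by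
      rw [SetLike.mem_coe, heq]
      exact mem_conj.2 hx
  exact T.ne_a ((o.fix hnM hn).symm.trans hna)

/-- All cores of centralisers of involutions are trivial. -/
theorem coreCent_eq_bot (h : Cfg s) {t : G} (ht : t ∈ s.A) (ht1 : t ≠ 1) : coreCent t = ⊥ := by
  have hnf := not_free h
  rw [Free] at hnf
  push Not at hnf
  obtain ⟨t₀, ht₀, ht₀1, u₀, hu₀, hu₀1, hne, hc⟩ := hnf
  exact h.coreCent_eq_bot_of_fixed ht₀ ht₀1 hu₀ hu₀1 hne hc ht ht1

end Cfsg.Agent.Invol.AbelTwo
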