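import Cfsg.Agent.Lib.Invol.GW.Consumers.DGroupEven
import Cfsg.Agent.Lib.Invol.GW.Dihedral.TwoClassImage
import Cfsg.Agent.Lib.Invol.Core2.RankTwoPSL
import Cfsg.Prelude.Def_PLocal

/-!
# `SL₂(2ⁿ)` with all four-subgroups conjugate under automorphisms: `n ∈ {2, 3, 5}`

The four-subgroups number `(q² - 1)(q - 2)/6` and form one orbit of a group of order dividing `n q (q² - 1)`
in which each is fixed by at least `q` elements.
-/

set_option autoImplicit false
set_option linter.unusedSectionVars false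
set_option linter.style.haveILetI false

namespace Cfsg.Agent.Invol.AbelTwo

open Subgroup
open scoped Pointwise

open scoped _root_.Classical

variable {F : Type} [Field F] [Fintype F]

/-- The order of the automorphism group of `PSL₂(2ⁿ)`. -/
theorem card_aut_dvd {n : ℕ} (hF : Fintype.card F = 2 ^ n) :
    Nat.card (MulAut (Matrix.ProjectiveSpecialLinearGroup (Fin 2) F)) ∣
      Fintype.card F * (Fintype.card F ^ 2 - 1) * n := by
  haveI : Fact (Nat.Prime 2) := ⟨Nat.prime_two⟩
  haveI : Finite (RingAut F) := Finite.of_injective (fun f => (⇑f : F → F)) DFunLike.coe_injective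
  haveI : Finite (Matrix.ProjGenLinGroup (Fin 2) F) := Dickson.finite_pgl
  obtain ⟨Ψ, -, hker⟩ := Invol.GW.Dihedral.PGL.exists_psi (F := F)
  have hkr : Ψ.ker = (Classical.PSLAut.inndiagHom 2 F).range := by
    ext β; exact MonoidHom.mem_ker.trans (hker β)
  have h1 := Ψ.ker.card_mul_index
  rw [Subgroup.index_ker, hkr, Classical.PSLAut.natCard_inndiag le_rfl, Invol.Core2.RankTwo.card_pgl] at h1
  rw [← h1, show Fintype.card F ^ 2 - 1 = (Fintype.card F - 1) * (Fintype.card F + 1) by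
    rw [mul_comm]; simpa using Nat.sq_sub_sq (Fintype.card F) 1]
  exact mul_dvd_mul_left _ ((Classical.PSLAut.card_ringAut (F := F) hF).2 ▸ card_subgroup_dvd_card _)

variable [CharP F 2]

local notation "SL₂" => Matrix.SpecialLinearGroup (Fin 2) F

/-- The four-subgroups. -/
def Fours (L : Type*) [Group L] : Type _ := {V : Subgroup L // Nat.card V = 4 ∧ ∀ x ∈ V, x * x = 1}

theorem field_bound {n : ℕ} (hn : 2 ≤ n) (hF : Fintype.card F = 2 ^ n)
    (horb : ∀ V W : Subgroup SL₂, Nat.card V = 4 → (∀ x ∈ V, x * x = 1) → Nat.card W = 4 →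
      (∀ x ∈ W, x * x = 1) → ∃ β : MulAut SL₂, W = V.map β.toMonoidHom) : n ≤ 5 ∧ n ≠ 4 := by
  haveI : Fact (Nat.Prime 2) := ⟨Nat.prime_two⟩
  haveI : Finite SL₂ := Finite.of_injective (fun A => (A : Matrix (Fin 2) (Fin 2) F)) Subtype.val_injective
  haveI : Finite (MulAut SL₂) := Finite.of_injective (fun f => (⇑f : SL₂ → SL₂)) DFunLike.coe_injective
  haveI : Finite (Fours SL₂) := Subtype.finite
  set q := Fintype.card F with hq
  have hq4 : 4 ≤ q := by rw [hF]; exact (show 2 ^ 2 = 4 by rfl) ▸ Nat.pow_le_pow_right two_pos hn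
  have hL : Nat.card SL₂ = q * (q ^ 2 - 1) := Block.SL2Char.card_SS_nat
  have hsqS : ∀ v : SL₂, orderOf v = 2 → ∀ x ∈ centralizer ({v} : Set SL₂), x * x = 1 := by
    intro v hv x hx
    set C := centralizer ({v} : Set SL₂)
    have hCp : IsPGroup 2 C := IsPGroup.of_card (n := n) ((Invol.GW.SLTwo_card_centralizer hv).trans hF)
    obtain ⟨R, hR⟩ := hCp.exists_le_sylow
    exact Block.AbTwo.SLTwo.sylow_sq R x (hR hx)
  have hcomm : ∀ v : SL₂, orderOf v = 2 → ∀ x ∈ centralizer ({v} : Set SL₂), ∀ y ∈ centralizer ({v} : Set SL₂),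
      x * y = y * x := by
    intro v hv x hx y hy
    have hxy := hsqS v hv _ (mul_mem hx hy)
    rw [← inv_eq_of_mul_eq_one_right hxy, _root_.mul_inv_rev, inv_eq_of_mul_eq_one_right (hsqS v hv x hx),
      inv_eq_of_mul_eq_one_right (hsqS v hv y hy)]
  -- commuting pairs of distinct involutions
  let P := Σ a : {a : SL₂ // orderOf a = 2}, {b : SL₂ // orderOf b = 2 ∧ b ≠ a.1 ∧ a.1 * b = b * a.1}
  have hfib : ∀ a : {a : SL₂ // orderOf a = 2},
      Nat.card {b : SL₂ // orderOf b = 2 ∧ b ≠ a.1 ∧ a.1 * b = b * a.1} = q - 2 := by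
    rintro ⟨a, ha⟩
    have hset : {b : SL₂ | orderOf b = 2 ∧ b ≠ a ∧ a * b = b * a} =
        (centralizer ({a} : Set SL₂) : Set SL₂) \ {1, a} := by
      ext b
      constructor
      · rintro ⟨hb, hba, hab⟩
        refine ⟨mem_centralizer_singleton_iff.2 hab.symm, ?_⟩
        rintro (rfl | rfl)
        · rw [orderOf_one] at hb; omega
        · exact hba rfl
      · rintro ⟨hb, hb'⟩
        simp only [Set.mem_insert_iff, Set.mem_singleton_iff, not_or] at hb'
        exact ⟨orderOf_eq_prime ((pow_two b).trans (hsqS a ha b hb)) hb'.1, hb'.2,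
          (mem_centralizer_singleton_iff.1 hb).symm⟩
    rw [show Nat.card {b : SL₂ // orderOf b = 2 ∧ b ≠ a ∧ a * b = b * a} =
      Set.ncard {b : SL₂ | orderOf b = 2 ∧ b ≠ a ∧ a * b = b * a} from Nat.card_coe_set_eq _, hset]
    have hsub : ({1, a} : Set SL₂) ⊆ (centralizer ({a} : Set SL₂) : Set SL₂) := by
      rintro x (rfl | rfl)
      · exact one_mem _
      · exact mem_centralizer_singleton_iff.2 rfl
    rw [Set.ncard_sdiff hsub (Set.toFinite _), Set.ncard_pair (fun e => by rw [← e, orderOf_one] at ha; omega),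
      ← Nat.card_coe_set_eq]
    exact congrArg (· - 2) (Invol.GW.SLTwo_card_centralizer ha)
  have hinv : Nat.card {a : SL₂ // orderOf a = 2} = q ^ 2 - 1 := by
    obtain ⟨a0, ha0⟩ : ∃ a : SL₂, orderOf a = 2 := exists_prime_orderOf_dvd_card' 2 (by
      rw [hL, hF]; exact dvd_mul_of_dvd_left (dvd_pow_self 2 (by omega)) _)
    have horbit : MulAction.orbit (ConjAct SL₂) a0 = {a : SL₂ | orderOf a = 2} := by
      ext a
      rw [ConjAct.mem_orbit_conjAct]
      refine ⟨fun h => ?_, fun h => (Block.AbTwo.SLTwo.isConj_involutions ha0 h).symm⟩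
      obtain ⟨g, hg⟩ := isConj_iff.1 h.symm
      rw [Set.mem_setOf_eq, ← hg, Invol.orderOf_conj_eq, ha0]
    have h1 : Nat.card (MulAction.orbit (ConjAct SL₂) a0) * Nat.card (MulAction.stabilizer (ConjAct SL₂) a0) =
        Nat.card (ConjAct SL₂) := by
      rw [← Nat.card_prod]
      exact Nat.card_congr (MulAction.orbitProdStabilizerEquivGroup (ConjAct SL₂) a0)
    rw [horbit] at h1
    have h2 : Nat.card (MulAction.stabilizer (ConjAct SL₂) a0) = q := by
      rw [ConjAct.stabilizer_eq_centralizer]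
      exact Invol.GW.SLTwo_card_centralizer ha0
    rw [h2, Nat.card_congr ConjAct.ofConjAct.toEquiv, hL, mul_comm] at h1
    exact Nat.eq_of_mul_eq_mul_left (by omega) h1
  have hP : Nat.card P = (q ^ 2 - 1) * (q - 2) := by
    haveI : Fintype {a : SL₂ // orderOf a = 2} := Fintype.ofFinite _
    rw [Nat.card_sigma, Finset.sum_congr rfl fun a _ => hfib a, Finset.sum_const, Finset.card_univ,
      ← Nat.card_eq_fintype_card, hinv, smul_eq_mul]
  have sq1 : ∀ a : SL₂, orderOf a = 2 → a * a = 1 := fun a ha =>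
    (pow_two a).symm.trans (orderOf_dvd_iff_pow_eq_one.1 (dvd_of_eq ha))
  -- six pairs in each four-subgroup
  let toFour : P → Fours SL₂ := fun p => ⟨{
      carrier := {1, p.1.1, p.2.1, p.1.1 * p.2.1}
      one_mem' := by simp
      mul_mem' := fun {x y} hx hy => by
        have ha : p.1.1 * p.1.1 = 1 := sq1 _ p.1.2
        have hb : p.2.1 * p.2.1 = 1 := sq1 _ p.2.2.1
        have hab := p.2.2.2.2
        have h1 : p.1.1 * p.2.1 * p.1.1 = p.2.1 := by rw [hab, mul_assoc, ha, mul_one]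
        have h2 : p.2.1 * (p.1.1 * p.2.1) = p.1.1 := by rw [hab, ← mul_assoc, hb, one_mul]
        have h3 : p.1.1 * (p.1.1 * p.2.1) = p.2.1 := by rw [← mul_assoc, ha, one_mul]
        have h4 : p.1.1 * p.2.1 * p.2.1 = p.1.1 := by rw [mul_assoc, hb, mul_one]
        have h5 : p.1.1 * p.2.1 * (p.1.1 * p.2.1) = 1 := by rw [← mul_assoc, h1, hb]
        simp only [Set.mem_insert_iff, Set.mem_singleton_iff] at hx hy ⊢
        rcases hx with rfl | rfl | rfl | rfl <;> rcases hy with rfl | rfl | rfl | rfl <;>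
          simp [ha, hb, h1, h2, h3, h4, h5, hab.symm]
      inv_mem' := fun {x} hx => by
        have ha : p.1.1⁻¹ = p.1.1 := inv_eq_of_mul_eq_one_right (sq1 _ p.1.2)
        have hb : p.2.1⁻¹ = p.2.1 := inv_eq_of_mul_eq_one_right (sq1 _ p.2.2.1)
        simp only [Set.mem_insert_iff, Set.mem_singleton_iff] at hx ⊢
        rcases hx with rfl | rfl | rfl | rfl <;> simp [ha, hb, p.2.2.2.2.symm] }, by
    obtain ⟨⟨a, ha⟩, ⟨b, hb, hba, hab⟩⟩ := p
    have ha1 : a ≠ 1 := fun e => by rw [e, orderOf_one] at ha; omega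
    have hb1 : b ≠ 1 := fun e => by rw [e, orderOf_one] at hb; omega
    have haa : a * a = 1 := sq1 a ha
    have hbb : b * b = 1 := sq1 b hb
    have hab1 : a * b ≠ 1 := fun e => hba (by
      calc b = a * a * b := by rw [haa, one_mul]
        _ = a := by rw [mul_assoc, e, mul_one])
    refine ⟨?_, ?_⟩
    · show Nat.card ({1, a, b, a * b} : Set SL₂) = 4
      rw [Nat.card_coe_set_eq, Set.ncard_insert_of_notMem (by simp [Ne.symm ha1, Ne.symm hb1, Ne.symm hab1]) (Set.toFinite _),
        Set.ncard_insert_of_notMem (by simp [Ne.symm hba, hb1]) (Set.toFinite _),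
        Set.ncard_pair (fun e => ha1 (mul_eq_right.1 e.symm))]
    · intro x hx
      change x ∈ ({1, a, b, a * b} : Set SL₂) at hx
      simp only [Set.mem_insert_iff, Set.mem_singleton_iff] at hx
      rcases hx with rfl | rfl | rfl | rfl
      · simp
      · exact haa
      · exact hbb
      · rw [show a * b * (a * b) = a * (b * a) * b by group, ← hab,
          show a * (a * b) * b = a * a * (b * b) by group, haa, hbb, one_mul]⟩
  have hmem : ∀ p : P, p.1.1 ∈ (toFour p).1 ∧ p.2.1 ∈ (toFour p).1 := fun p =>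
    ⟨show p.1.1 ∈ ({1, p.1.1, p.2.1, p.1.1 * p.2.1} : Set SL₂) by simp,
     show p.2.1 ∈ ({1, p.1.1, p.2.1, p.1.1 * p.2.1} : Set SL₂) by simp⟩
  have hfour6 : ∀ V : Fours SL₂, Nat.card {p : P // toFour p = V} = 6 := by
    rintro ⟨V, hV4, hV2⟩
    set U := {x : SL₂ // x ∈ V ∧ x ≠ 1}
    have hU : Nat.card U = 3 := by
      rw [show Nat.card U = Set.ncard {x : SL₂ | x ∈ V ∧ x ≠ 1} from Nat.card_coe_set_eq _,
        show {x : SL₂ | x ∈ V ∧ x ≠ 1} = (V : Set SL₂) \ {1} from rfl,
        Set.ncard_sdiff (Set.singleton_subset_iff.2 (one_mem V)) (Set.toFinite _), Set.ncard_singleton,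
        ← Nat.card_coe_set_eq, show Nat.card (V : Set SL₂) = 4 from hV4]
    have ho : ∀ x : U, orderOf x.1 = 2 := fun x => orderOf_eq_prime ((pow_two _).trans (hV2 _ x.2.1)) x.2.2
    have hVc : ∀ x ∈ V, ∀ y ∈ V, x * y = y * x := fun x hx y hy => by
      rw [← inv_eq_of_mul_eq_one_right (hV2 _ (mul_mem hx hy)), _root_.mul_inv_rev,
        inv_eq_of_mul_eq_one_right (hV2 x hx), inv_eq_of_mul_eq_one_right (hV2 y hy)]
    let f : (Σ x : U, {y : U // y ≠ x}) → {p : P // toFour p = ⟨V, hV4, hV2⟩} := fun xy =>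
      ⟨⟨⟨xy.1.1, ho xy.1⟩, ⟨xy.2.1.1, ho xy.2.1, fun e => xy.2.2 (Subtype.ext e),
        hVc _ xy.1.2.1 _ xy.2.1.2.1⟩⟩, by
        refine Subtype.ext (eq_of_le_of_card_ge ?_ ?_)
        · intro z hz
          change z ∈ ({1, xy.1.1, xy.2.1.1, xy.1.1 * xy.2.1.1} : Set SL₂) at hz
          simp only [Set.mem_insert_iff, Set.mem_singleton_iff] at hz
          rcases hz with rfl | rfl | rfl | rfl
          exacts [one_mem _, xy.1.2.1, xy.2.1.2.1, mul_mem xy.1.2.1 xy.2.1.2.1]
        · rw [(toFour _).2.1, hV4]⟩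
    have hf : Function.Bijective f := by
      refine ⟨fun xy xy' h => ?_, fun p => ?_⟩
      · have h1 := congrArg (fun p : {p : P // toFour p = ⟨V, hV4, hV2⟩} => p.1.1.1) h
        have h2 := congrArg (fun p : {p : P // toFour p = ⟨V, hV4, hV2⟩} => p.1.2.1) h
        obtain ⟨x, y, hy⟩ := xy
        obtain ⟨x', y', hy'⟩ := xy'
        obtain rfl : x = x' := Subtype.ext h1
        obtain rfl : y = y' := Subtype.ext h2
        rfl
      · obtain ⟨⟨⟨a, ha⟩, ⟨b, hb, hba, hab⟩⟩, hp⟩ := p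
        have hm := hmem ⟨⟨a, ha⟩, ⟨b, hb, hba, hab⟩⟩
        rw [hp] at hm
        exact ⟨⟨⟨a, hm.1, fun e => by rw [e, orderOf_one] at ha; omega⟩,
          ⟨⟨b, hm.2, fun e => by rw [e, orderOf_one] at hb; omega⟩, fun e => hba (congrArg Subtype.val e)⟩⟩, rfl⟩
    haveI : Finite U := Subtype.finite
    haveI : Fintype U := Fintype.ofFinite _
    rw [← Nat.card_eq_of_bijective f hf, Nat.card_sigma,
      Finset.sum_congr rfl (g := fun _ => 2) fun x _ => ?_, Finset.sum_const, Finset.card_univ,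
      ← Nat.card_eq_fintype_card, hU, smul_eq_mul]
    rw [show Nat.card {y : U // y ≠ x} = Set.ncard ({x}ᶜ : Set U) from Nat.card_coe_set_eq _,
      Set.ncard_compl, hU, Set.ncard_singleton]
  have hΦ : 6 * Nat.card (Fours SL₂) = (q ^ 2 - 1) * (q - 2) := by
    haveI : Fintype (Fours SL₂) := Fintype.ofFinite _
    rw [← hP, Nat.card_congr (Equiv.sigmaFiberEquiv toFour).symm, Nat.card_sigma,
      Finset.sum_congr rfl fun V _ => hfour6 V, Finset.sum_const, Finset.card_univ, ← Nat.card_eq_fintype_card,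
      smul_eq_mul, mul_comm]
  -- one orbit
  letI : MulAction (MulAut SL₂) (Fours SL₂) :=
    { smul := fun β V => ⟨V.1.map β.toMonoidHom,
        (card_map_of_injective β.injective).trans V.2.1, by
          rintro _ ⟨x, hx, rfl⟩
          show β x * β x = 1
          rw [← map_mul, V.2.2 x hx, map_one]⟩
      one_smul := fun V => Subtype.ext (Subgroup.map_id _)
      mul_smul := fun β γ V => Subtype.ext <| show V.1.map (β * γ).toMonoidHom = (V.1.map γ.toMonoidHom).map β.toMonoidHom by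
        rw [Subgroup.map_map]; rfl }
  obtain ⟨a, ha⟩ : ∃ a : SL₂, orderOf a = 2 := exists_prime_orderOf_dvd_card' 2 (by
    rw [hL, hF]; exact dvd_mul_of_dvd_left (dvd_pow_self 2 (by omega)) _)
  haveI : Nonempty P := by
    refine Nat.card_pos_iff.1 ?_ |>.1
    rw [hP]
    exact Nat.mul_pos (by nlinarith [Nat.sub_add_cancel (show 1 ≤ q ^ 2 from Nat.one_le_pow _ _ (by omega))]) (by omega)
  obtain ⟨p0⟩ := ‹Nonempty P›
  set V0 := toFour p0
  have horbit : MulAction.orbit (MulAut SL₂) V0 = Set.univ := by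
    refine Set.eq_univ_of_forall fun W => ?_
    obtain ⟨β, hβ⟩ := horb V0.1 W.1 V0.2.1 V0.2.2 W.2.1 W.2.2
    exact ⟨β, Subtype.ext hβ.symm⟩
  have h1 : Nat.card (Fours SL₂) * Nat.card (MulAction.stabilizer (MulAut SL₂) V0) = Nat.card (MulAut SL₂) := by
    rw [← Nat.card_congr (Equiv.Set.univ (Fours SL₂)), ← horbit, ← Nat.card_prod]
    exact Nat.card_congr (MulAction.orbitProdStabilizerEquivGroup (MulAut SL₂) V0)
  have hst : q ≤ Nat.card (MulAction.stabilizer (MulAut SL₂) V0) := by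
    set C := centralizer ({p0.1.1} : Set SL₂) with hC
    have hV0C : V0.1 ≤ C := fun x hx => mem_centralizer_singleton_iff.2 (by
      have h := V0.2.2
      have hm := (hmem p0).1
      rw [← inv_eq_of_mul_eq_one_right (h _ (mul_mem hx hm)), _root_.mul_inv_rev,
        inv_eq_of_mul_eq_one_right (h x hx), inv_eq_of_mul_eq_one_right (h _ hm)])
    have hmem' : ∀ c ∈ C, MulAut.conj c ∈ MulAction.stabilizer (MulAut SL₂) V0 := by
      intro c hc
      refine MulAction.mem_stabilizer_iff.2 (Subtype.ext (eq_of_le_of_card_ge ?_ (ge_of_eq (card_map_of_injective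
        (MulAut.conj c).injective))))
      rintro _ ⟨x, hx, rfl⟩
      show c * x * c⁻¹ ∈ V0.1
      rwa [hcomm _ p0.1.2 c hc x (hV0C hx), mul_inv_cancel_right]
    refine (le_of_eq (Invol.GW.SLTwo_card_centralizer p0.1.2).symm).trans ?_
    refine Nat.card_le_card_of_injective (fun c : ↥C => (⟨MulAut.conj (c : SL₂), hmem' c c.2⟩ :
      MulAction.stabilizer (MulAut SL₂) V0)) fun c d hcd => ?_
    haveI := Invol.GW.SLTwo_isSimple (F := F) (by omega)
    have h : MulAut.conj (c : SL₂) = MulAut.conj (d : SL₂) := congrArg Subtype.val hcd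
    refine Subtype.ext (inv_mul_eq_one.1 ?_).symm
    have hz : (d : SL₂)⁻¹ * c ∈ center SL₂ := mem_center_iff.2 fun g => by
      have h' := congrArg (fun f : MulAut SL₂ => f g) h
      simp only [MulAut.conj_apply] at h'
      calc g * ((d : SL₂)⁻¹ * c) = (d : SL₂)⁻¹ * ((d : SL₂) * g * (d : SL₂)⁻¹) * c := by group
        _ = (d : SL₂)⁻¹ * ((c : SL₂) * g * (c : SL₂)⁻¹) * c := by rw [h']
        _ = _ := by group
    rw [Invol.GW.SLTwo_center] at hz
    exact mem_bot.1 hz
  have hA : Nat.card (MulAut SL₂) ∣ q * (q ^ 2 - 1) * n :=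
    Nat.card_congr (MulAut.congr (Invol.GW.SLTwoEquivPSL (F := F))).toEquiv ▸ card_aut_dvd hF
  have hdvd : Nat.card (Fours SL₂) ∣ q * (q ^ 2 - 1) * n := (Dvd.intro _ h1).trans hA
  have hle : Nat.card (Fours SL₂) * q ≤ q * (q ^ 2 - 1) * n :=
    ((Nat.mul_le_mul_left _ hst).trans h1.le).trans (Nat.le_of_dvd (Nat.mul_pos (Nat.mul_pos (by omega)
      (Nat.sub_pos_of_lt (by nlinarith))) (by omega)) hA)
  refine ⟨?_, ?_⟩
  · by_contra h5
    have hpos : 0 < q ^ 2 - 1 := Nat.sub_pos_of_lt (by nlinarith)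
    have h2 : (q ^ 2 - 1) * (q - 2) ≤ (q ^ 2 - 1) * (6 * n) := by
      have h3 : Nat.card (Fours SL₂) * q ≤ ((q ^ 2 - 1) * n) * q := by linarith
      have h4 := Nat.le_of_mul_le_mul_right h3 (by omega)
      calc (q ^ 2 - 1) * (q - 2) = 6 * Nat.card (Fours SL₂) := hΦ.symm
        _ ≤ 6 * ((q ^ 2 - 1) * n) := Nat.mul_le_mul_left 6 h4
        _ = _ := by ring
    have h6 := Nat.le_of_mul_le_mul_left h2 hpos
    have hgrow : ∀ m, 6 ≤ m → 6 * m + 3 ≤ 2 ^ m := by
      intro m hm
      induction m, hm using Nat.le_induction with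
      | base => norm_num
      | succ m hm ih => rw [pow_succ]; omega
    have := hgrow n (by omega)
    omega
  · rintro rfl
    norm_num at hF
    rw [hF] at hdvd hΦ
    norm_num at hdvd hΦ
    rw [show Nat.card (Fours SL₂) = 595 by omega] at hdvd
    norm_num at hdvd

end Cfsg.Agent.Invol.AbelTwo
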