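import Cfsg.Agent.Lib.Invol.AbelTwo.ReeRec
import Cfsg.Agent.Lib.Spor.Gold.ReeMain

/-!
# Groups of Ree type have real and non-real elements of order three

So their subgroups of order three are not all conjugate, even under automorphisms.
-/

set_option autoImplicit false
set_option linter.unusedSectionVars false
set_option linter.style.haveILetI false

open scoped Classical

namespace Cfsg.Agent.Invol.AbelTwo

open Subgroup
open Cfsg.Agent.Dickson Cfsg.Agent.Grp.SL2 Cfsg.Agent.PSL2Spec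

universe u

/-- In `L2(3^odd)` no 2-element but `1` fixes or inverts an element of order three. -/
theorem psl_three_rigid {F : Type} [Field F] [Fintype F] {n : ℕ} (hF : Fintype.card F = 3 ^ (2 * n + 1))
    {r : Matrix.ProjectiveSpecialLinearGroup (Fin 2) F} (hr : r ^ 3 = 1) (hr1 : r ≠ 1)
    {s : Matrix.ProjectiveSpecialLinearGroup (Fin 2) F} {k : ℕ} (hs : s ^ 2 ^ k = 1)
    (h : s * r * s⁻¹ = r ∨ s * r * s⁻¹ = r⁻¹) : s = 1 := by
  haveI : Fact (Nat.Prime 3) := ⟨Nat.prime_three⟩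
  haveI : CharP F 3 := charP_of_card_eq_prime_pow hF
  have hodd : Odd (Fintype.card F) := by rw [hF]; exact (by decide +kernel : Odd 3).pow
  have hdel : del F = 2 := by
    rcases del_cases F with ⟨-, he⟩ | ⟨hd, -⟩
    · exact absurd he (Nat.not_even_iff_odd.mpr hodd)
    · exact hd
  have h1 := card_borel 3 hr1 hr
  rw [hdel] at h1
  set N := Subgroup.normalizer (tor r : Set (Matrix.ProjectiveSpecialLinearGroup (Fin 2) F)) with hN
  have hsN : s ∈ N := by
    refine ((pslData (F := F) 3).mem_normalizer_iff hr1).2 ?_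
    rcases h with h | h <;> rw [h]
    · exact (pslData (F := F) 3).self r
    · exact inv_mem ((pslData (F := F) 3).self r)
  have h8 : Fintype.card F % 4 = 3 := by
    rw [hF, pow_succ, pow_mul, Nat.mul_mod, Nat.pow_mod]; norm_num
  have hNodd : Odd (Nat.card N) := by
    obtain ⟨c, hc⟩ : ∃ c, Fintype.card F = 4 * c + 3 := ⟨Fintype.card F / 4, by omega⟩
    refine ⟨(4 * c + 3) * c + (2 * c + 1), Nat.eq_of_mul_eq_mul_right two_pos (h1.trans ?_)⟩
    rw [hc, show 4 * c + 3 - 1 = 4 * c + 2 by omega]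
    ring
  have hc : s ^ Nat.card N = 1 := orderOf_dvd_iff_pow_eq_one.1 (Subgroup.orderOf_dvd_natCard N hsN)
  have h' := pow_gcd_eq_one.2 ⟨hs, hc⟩
  rwa [((Nat.coprime_two_left.2 hNodd).pow_left k).gcd_eq_one, pow_one] at h'

/-- A real and a non-real element of order three. -/
theorem ree_three {G : Type u} [Group G] [Finite G] (hree : Cfsg.IsReeType G) :
    ∃ r u : G, orderOf r = 3 ∧ orderOf u = 3 ∧ (∃ g : G, g * r * g⁻¹ = r⁻¹) ∧ ∀ g : G, g * u * g⁻¹ ≠ u⁻¹ := by
  haveI : Fact (Nat.Prime 2) := ⟨Nat.prime_two⟩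
  haveI : Fact (Nat.Prime 3) := ⟨Nat.prime_three⟩
  obtain ⟨⟨g0, r, -, hr3, hr1, hinv⟩, -⟩ := Spor.Gold.ree_type hree
  obtain ⟨-, -, t, K, n, hn, ht, hodd, hC, F, iF, jF, hF, ⟨e⟩⟩ := hree
  set C := centralizer ({t} : Set G) with hCdef
  have h3 : 3 ∣ Nat.card ↥K := by
    have hoddF : Odd (Fintype.card F) := by rw [hF]; exact (by decide : Odd 3).pow
    have h := Invol.GW.card_PSLTwo (F := F) hoddF
    rw [← Nat.card_congr e.toEquiv] at h
    have h3' : 3 ∣ 2 * Nat.card ↥K := by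
      rw [h, hF, pow_succ']
      exact dvd_mul_of_dvd_left (dvd_mul_right 3 _) _
    exact (Nat.Coprime.dvd_of_dvd_mul_left (by norm_num) h3')
  obtain ⟨u, hu⟩ := exists_prime_orderOf_dvd_card' (G := ↥K) 3 h3
  have hu1 : u ≠ 1 := fun e' => by rw [e', orderOf_one] at hu; omega
  refine ⟨r, u, orderOf_eq_prime hr3 hr1, by rw [orderOf_coe, hu], ⟨g0, hinv⟩, fun g hg => ?_⟩
  -- components in `⟨t⟩ × K`
  have hdec : ∀ c ∈ C, ∃ (i : ℤ) (k : ↥K), c = t ^ i * k := fun c hc => by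
    rw [← hC.2.2.2.2] at hc
    have hn' : K ≤ normalizer (zpowers t : Set G) := fun k hk => centralizer_le_normalizer _
      (mem_centralizer_iff.2 fun d hd => hC.2.2.1 d hd k hk)
    rw [← SetLike.mem_coe, coe_mul_of_right_le_normalizer_left _ _ hn'] at hc
    obtain ⟨d, hd, k, hk, rfl⟩ := hc
    obtain ⟨i, rfl⟩ := mem_zpowers_iff.1 hd
    exact ⟨i, ⟨k, hk⟩, rfl⟩
  have hconj : ∀ (i : ℤ) (k : ↥K) (x : ↥K),
      t ^ i * k * (x : G) * (t ^ i * k)⁻¹ = ((k * x * k⁻¹ : ↥K) : G) := by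
    intro i k x
    have hc := hC.2.2.1 _ (zpow_mem (mem_zpowers t) i) _ (k * x * k⁻¹).2
    calc t ^ i * k * (x : G) * (t ^ i * k)⁻¹ = t ^ i * ((k * x * k⁻¹ : ↥K) : G) * (t ^ i)⁻¹ := by
          simp [mul_assoc]
      _ = _ := by rw [hc]; group
  have hreal : ∀ k : ↥K, k * u * k⁻¹ ≠ u⁻¹ := by
    intro k hk
    obtain ⟨a, m, hm, ham⟩ := Nat.exists_eq_two_pow_mul_odd (orderOf_pos (e k)).ne'
    have hconjm : ∀ j : ℕ, e k ^ j * e u * (e k ^ j)⁻¹ = if Even j then e u else (e u)⁻¹ := by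
      intro j
      induction j with
      | zero => simp
      | succ j ih =>
        rw [show e k ^ (j + 1) * e u * (e k ^ (j + 1))⁻¹ = e k * (e k ^ j * e u * (e k ^ j)⁻¹) * (e k)⁻¹ by
          rw [pow_succ']; group, ih]
        have hek : e k * e u * (e k)⁻¹ = (e u)⁻¹ := by rw [← map_inv, ← map_mul, ← map_mul, hk, map_inv]
        by_cases hj : Even j
        · rw [if_pos hj, if_neg (Nat.not_even_iff_odd.2 hj.add_one), hek]
        · rw [if_neg hj, if_pos (Nat.not_even_iff_odd.1 hj).add_one]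
          calc e k * (e u)⁻¹ * (e k)⁻¹ = (e k * e u * (e k)⁻¹)⁻¹ := by group
            _ = e u := by rw [hek, inv_inv]
    have hu3 : e u ^ 3 = 1 := by rw [← map_pow, ← hu, pow_orderOf_eq_one, map_one]
    have heu1 : e u ≠ 1 := fun h => hu1 (e.injective (h.trans (map_one e).symm))
    have hkm : e k ^ m = 1 := psl_three_rigid hF hu3 heu1 (s := e k ^ m) (k := a)
      (by rw [← pow_mul, mul_comm, ← ham, pow_orderOf_eq_one])
      (Or.inr (by rw [hconjm, if_neg (Nat.not_even_iff_odd.2 hm)]))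
    have h2 := hconjm m
    rw [hkm, if_neg (Nat.not_even_iff_odd.2 hm), one_mul, inv_one, mul_one, eq_comm, inv_eq_iff_mul_eq_one] at h2
    rw [pow_succ, pow_two, h2, one_mul] at hu3
    exact heu1 hu3
  -- the Sylow 2-subgroup of `C(u)` is `⟨t⟩`
  set Cu := centralizer ({(u : G)} : Set G) with hCu
  have htu : t ∈ Cu := mem_centralizer_singleton_iff.2 (hC.2.2.1 t (mem_zpowers t) u u.2)
  -- no 2-element of `K` but `1` centralises `u`
  have hsq2 : ∀ c : ↥K, (∃ a : ℕ, c ^ 2 ^ a = 1) → ((c : G) * u = u * c) → c = 1 := by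
    rintro c ⟨a, ha⟩ hc
    refine e.injective ((psl_three_rigid hF (r := e u) (by rw [← map_pow, ← hu, pow_orderOf_eq_one, map_one])
      (fun h => hu1 (e.injective (h.trans (map_one e).symm))) (k := a) (by rw [← map_pow, ha, map_one])
      (Or.inl ?_)).trans (map_one e).symm)
    rw [← map_inv, ← map_mul, ← map_mul]
    exact congrArg e (Subtype.ext (by
      show (c : G) * u * (c : G)⁻¹ = u
      rw [hc, mul_inv_cancel_right]))
  have key : ∀ x ∈ Cu, x ∈ C → (∃ a : ℕ, x ^ 2 ^ a = 1) → x = 1 ∨ x = t := by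
    rintro x hxu hxC ⟨a, ha⟩
    obtain ⟨i, k, rfl⟩ := hdec x hxC
    have hti : t ^ i = 1 ∨ t ^ i = t := by
      rw [← zpow_mod_orderOf, ht]
      rcases (show i % ((2 : ℕ) : ℤ) = 0 ∨ i % ((2 : ℕ) : ℤ) = 1 by omega) with h | h
        <;> simp only [Nat.cast_ofNat] at h ⊢ <;> simp [h]
    have hk : k = 1 := by
      refine hsq2 k ⟨a + 1, Subtype.ext ?_⟩ ?_
      · have hcomm : Commute (t ^ i) (k : G) := hC.2.2.1 _ (zpow_mem (mem_zpowers t) i) _ k.2
        have h1 : (t ^ i * k) ^ 2 ^ (a + 1) = 1 := by rw [pow_succ, pow_mul, ha, one_pow]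
        rw [hcomm.mul_pow] at h1
        have h2 : (t ^ i) ^ 2 ^ (a + 1) = 1 := by
          rw [pow_succ', pow_mul]
          rcases hti with h | h <;> rw [h]
          · simp
          · rw [show t ^ 2 = 1 from ht ▸ pow_orderOf_eq_one t, one_pow]
        rw [h2, one_mul] at h1
        simpa using h1
      · have h := mem_centralizer_singleton_iff.1 hxu
        have hc : Commute (t ^ i) (u : G) := hC.2.2.1 _ (zpow_mem (mem_zpowers t) i) _ u.2
        have : t ^ i * ((k : G) * u) = t ^ i * (u * k) := by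
          rw [← mul_assoc, h, ← mul_assoc, ← mul_assoc, hc.eq]
        exact mul_left_cancel this
    subst hk
    simpa using hti
  -- `g` normalises `C(u)`
  have hgC : g * t * g⁻¹ ∈ Cu := by
    refine mem_centralizer_singleton_iff.2 ?_
    have hct : Commute t (u : G)⁻¹ := (hC.2.2.1 t (mem_zpowers t) _ (inv_mem u.2))
    have hg' : g⁻¹ * u * g = (u : G)⁻¹ := by
      calc g⁻¹ * u * g = g⁻¹ * ((g * u * g⁻¹)⁻¹) * g := by rw [hg, inv_inv]
        _ = _ := by group
    calc g * t * g⁻¹ * u = g * (t * (g⁻¹ * u * g)) * g⁻¹ := by group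
      _ = g * ((g⁻¹ * u * g) * t) * g⁻¹ := by rw [hg', hct.eq]
      _ = _ := by group
  -- `t` and its conjugate are conjugate in `C(u)`
  have h2pow : ∀ x : G, orderOf x = 2 → x ^ 2 ^ 1 = 1 := fun x hx => by
    rw [pow_one, ← hx, pow_orderOf_eq_one]
  obtain ⟨R, hR⟩ := (IsPGroup.of_card (n := 1) (by
    rw [Nat.card_zpowers, orderOf_mk, ht, pow_one]) : IsPGroup 2 ↥(zpowers (⟨t, htu⟩ : ↥Cu))).exists_le_sylow
  have hR' : ∀ x : ↥Cu, x ∈ (R : Subgroup ↥Cu) → (x : G) = 1 ∨ (x : G) = t := by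
    set t' : ↥(R : Subgroup ↥Cu) := ⟨⟨t, htu⟩, hR (mem_zpowers _)⟩ with ht'
    have ht'2 : orderOf t' = 2 := by rw [ht', orderOf_mk, orderOf_mk, ht]
    have hz : ∀ w ∈ zpowers t', w = 1 ∨ w = t' := by
      intro w hw
      obtain ⟨i, rfl⟩ := mem_zpowers_iff.1 hw
      rw [← zpow_mod_orderOf, ht'2]
      rcases (show i % ((2 : ℕ) : ℤ) = 0 ∨ i % ((2 : ℕ) : ℤ) = 1 by omega) with h | h
        <;> simp only [Nat.cast_ofNat] at h ⊢ <;> simp [h]
    have htop : zpowers t' = ⊤ := by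
      by_contra hne
      haveI := R.isPGroup'.isNilpotent
      obtain ⟨x, hxN, hx⟩ := SetLike.exists_of_lt
        (Group.normalizerCondition_of_isNilpotent (zpowers t') (lt_top_iff_ne_top.2 hne))
      have hfix : x * t' * x⁻¹ = t' := by
        refine (hz _ ((mem_normalizer_iff.1 hxN t').1 (mem_zpowers t'))).resolve_left fun h => ?_
        rw [conj_eq_one_iff] at h
        rw [h, orderOf_one] at ht'2
        omega
      obtain ⟨a, ha⟩ := R.isPGroup' x
      have hxt : ((x : ↥Cu) : G) * t = t * ((x : ↥Cu) : G) :=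
        mul_inv_eq_iff_eq_mul.1 (congrArg (fun y : ↥(R : Subgroup ↥Cu) => ((y : ↥Cu) : G)) hfix)
      rcases key _ (x : ↥Cu).2 (mem_centralizer_singleton_iff.2 hxt)
        ⟨a, by simpa using congrArg (fun y : ↥(R : Subgroup ↥Cu) => ((y : ↥Cu) : G)) ha⟩ with h | h
      · exact hx (by rw [show x = 1 from Subtype.ext (Subtype.ext h)]; exact one_mem _)
      · exact hx (by rw [show x = t' from Subtype.ext (Subtype.ext h)]; exact mem_zpowers _)
    intro x hx
    rcases hz ⟨x, hx⟩ (htop ▸ mem_top _) with h | h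
    · exact Or.inl (congrArg (fun y : ↥(R : Subgroup ↥Cu) => ((y : ↥Cu) : G)) h)
    · exact Or.inr (congrArg (fun y : ↥(R : Subgroup ↥Cu) => ((y : ↥Cu) : G)) h)
  obtain ⟨R1, hR1⟩ := (IsPGroup.of_card (n := 1) (by
    rw [Nat.card_zpowers, orderOf_mk, Invol.orderOf_conj_eq, ht, pow_one]) :
      IsPGroup 2 ↥(zpowers (⟨g * t * g⁻¹, hgC⟩ : ↥Cu))).exists_le_sylow
  obtain ⟨c, hc⟩ := MulAction.exists_smul_eq ↥Cu R1 R
  have hmem : c * ⟨g * t * g⁻¹, hgC⟩ * c⁻¹ ∈ (R : Subgroup ↥Cu) := by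
    rw [← hc, Sylow.coe_subgroup_smul, ← Grp.map_conj_eq_smul]
    exact ⟨_, hR1 (mem_zpowers _), rfl⟩
  rcases hR' _ hmem with h | h
  · have : t = 1 := by
      have h' : (c : G) * (g * t * g⁻¹) * (c : G)⁻¹ = 1 := h
      rw [conj_eq_one_iff, conj_eq_one_iff] at h'
      exact h'
    rw [this, orderOf_one] at ht
    omega
  · have h' : (c : G) * (g * t * g⁻¹) * (c : G)⁻¹ = t := h
    have hcg : (c : G) * g ∈ C := mem_centralizer_singleton_iff.2 (by
      calc (c : G) * g * t = (c : G) * (g * t * g⁻¹) * (c : G)⁻¹ * ((c : G) * g) := by group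
        _ = _ := by rw [h'])
    obtain ⟨i, k, hik⟩ := hdec _ hcg
    refine hreal k (Subtype.ext ?_)
    rw [← hconj i k u, ← hik]
    have hcu : Commute (c : G) (u : G)⁻¹ := (Commute.inv_right (mem_centralizer_singleton_iff.1 c.2))
    calc (c : G) * g * u * ((c : G) * g)⁻¹ = c * (g * u * g⁻¹) * (c : G)⁻¹ := by group
      _ = _ := by rw [hg, hcu.eq, mul_inv_cancel_right]; rfl

end Cfsg.Agent.Invol.AbelTwo
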