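import Cfsg.Agent.Lib.Invol.AbelTwo.Hub
import Cfsg.Agent.Lib.Invol.AbelTwo.EightSylow
import Cfsg.Agent.Lib.Invol.AbelTwo.ThreeElts
import Cfsg.Agent.Lib.Invol.AbelTwo.FourOrbit
import Cfsg.Prelude.Def_Local

/-!
# Simple normal subgroups of groups in which abelian subgroups of equal order are conjugate

The Sylow 2-subgroups of such a subgroup have exponent two, and the outer action is too small for `L2(2^n)` with
`n ∉ {2, 3, 5}` and for the Ree type groups, whose subgroups of order three are not all conjugate.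
-/

set_option autoImplicit false
set_option linter.unusedSectionVars false
set_option linter.style.haveILetI false

namespace Cfsg.Agent.Invol.AbelTwo

open Subgroup
open scoped _root_.Classical

universe u

variable {G : Type u} [Group G] [Finite G]

/-- Conjugation by an element of `G` as an automorphism of a normal subgroup. -/
theorem exists_restrict (M : Subgroup G) [M.Normal] {V W : Subgroup ↥M}
    {g : G} (h : W.map M.subtype = (V.map M.subtype).map (MulAut.conj g).toMonoidHom) :
    ∃ β : MulAut ↥M, W = V.map β.toMonoidHom := by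
  refine ⟨MulAut.conjNormal g, map_injective M.subtype_injective (h.trans ?_)⟩
  rw [Subgroup.map_map, Subgroup.map_map]
  exact congrArg (fun f => V.map f) (MonoidHom.ext fun x => by simp [MulAut.conjNormal_apply])

/-- There are no elements of order four in a non-abelian simple normal subgroup. -/
theorem sylow_exp_two (M : Subgroup G) [M.Normal] [IsSimpleGroup ↥M] (hna : ¬ IsMulCommutative ↥M)
    (hB : ∀ A B : Subgroup G, IsMulCommutative ↥A → IsMulCommutative ↥B → Nat.card ↥A = Nat.card ↥B →
      ∃ g : G, B = A.map (MulAut.conj g).toMonoidHom) (h2 : 2 ∣ Nat.card ↥M) :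
    ∀ x : ↥M, x ^ 4 = 1 → x ^ 2 = 1 := by
  haveI : Fact (Nat.Prime 2) := ⟨Nat.prime_two⟩
  intro x hx
  by_contra hne
  have h4 : orderOf x = 2 ^ 2 := orderOf_eq_prime_pow (p := 2) (n := 1) (by simpa using hne) (by simpa using hx)
  -- no four-subgroup in `G`
  have hno : ∀ u v : G, orderOf u = 2 → orderOf v = 2 → Commute u v → u = v := by
    intro u v hu hv huv
    by_contra huv'
    have hu1 : u * u = 1 := by rw [← pow_two]; exact orderOf_dvd_iff_pow_eq_one.1 (dvd_of_eq hu)
    have hv1 : v * v = 1 := by rw [← pow_two]; exact orderOf_dvd_iff_pow_eq_one.1 (dvd_of_eq hv)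
    have hu0 : u ≠ 1 := fun e => by rw [e, orderOf_one] at hu; omega
    have hv0 : v ≠ 1 := fun e => by rw [e, orderOf_one] at hv; omega
    have hc : IsMulCommutative ↥(closure ({u, v} : Set G)) := isMulCommutative_closure (by
      rintro a (rfl | rfl) b (rfl | rfl)
      exacts [rfl, huv.eq, huv.eq.symm, rfl])
    have hset : (closure ({u, v} : Set G) : Set G) = {1, u, v, u * v} := by
      refine Set.Subset.antisymm ?_ ?_
      · have hin : ∀ {a b : G}, a ∈ ({1, u, v, u * v} : Set G) → b ∈ ({1, u, v, u * v} : Set G) →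
            a * b ∈ ({1, u, v, u * v} : Set G) := by
          intro a b ha hb
          have h1 : u * v * u = v := by rw [huv.eq, mul_assoc, hu1, mul_one]
          have h2 : v * (u * v) = u := by rw [huv.eq, ← mul_assoc, hv1, one_mul]
          have h3 : u * (u * v) = v := by rw [← mul_assoc, hu1, one_mul]
          have h4 : u * v * v = u := by rw [mul_assoc, hv1, mul_one]
          have h5 : u * v * (u * v) = 1 := by rw [← mul_assoc, h1, hv1]
          simp only [Set.mem_insert_iff, Set.mem_singleton_iff] at ha hb ⊢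
          rcases ha with rfl | rfl | rfl | rfl <;> rcases hb with rfl | rfl | rfl | rfl <;>
            simp [hu1, hv1, h1, h2, h3, h4, h5, huv.eq.symm]
        intro a ha
        induction ha using closure_induction with
        | mem a ha => rcases ha with rfl | rfl <;> simp
        | one => simp
        | mul a b _ _ iha ihb => exact hin iha ihb
        | inv a _ iha =>
          simp only [Set.mem_insert_iff, Set.mem_singleton_iff] at iha ⊢
          rcases iha with rfl | rfl | rfl | rfl
          · simp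
          · simp [inv_eq_of_mul_eq_one_right hu1]
          · simp [inv_eq_of_mul_eq_one_right hv1]
          · simp [inv_eq_of_mul_eq_one_right hu1, inv_eq_of_mul_eq_one_right hv1, huv.eq.symm]
      · rintro a (rfl | rfl | rfl | rfl)
        exacts [one_mem _, subset_closure (by simp), subset_closure (by simp),
          mul_mem (subset_closure (by simp)) (subset_closure (by simp))]
    have hcard : Nat.card ↥(closure ({u, v} : Set G)) = 4 := by
      have huv1 : u * v ≠ 1 := fun e => huv' (by
        calc u = u * (v * v) := by rw [hv1, mul_one]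
          _ = v := by rw [← mul_assoc, e, one_mul])
      rw [show Nat.card ↥(closure ({u, v} : Set G)) = ((closure ({u, v} : Set G) : Set G)).ncard from
          Nat.card_coe_set_eq _, hset, Set.ncard_insert_of_notMem (by simp [Ne.symm hu0, Ne.symm hv0, Ne.symm huv1]),
        Set.ncard_insert_of_notMem (by simp [huv', hv0]), Set.ncard_pair (fun e => hu0 (mul_eq_right.1 e.symm))]
    obtain ⟨g, hg⟩ := hB (zpowers (x : G)) (closure ({u, v} : Set G)) inferInstance hc
      (by rw [hcard, Nat.card_zpowers, Subgroup.orderOf_coe, h4]; rfl)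
    haveI hcyc : IsCyclic ↥(closure ({u, v} : Set G)) := by
      rw [hg]
      exact isCyclic_of_surjective _ ((zpowers (x : G)).equivMapOfInjective _ (MulAut.conj g).injective).surjective
    obtain ⟨c, hc'⟩ := hcyc.exists_monoid_generator
    have hord : orderOf c = 4 := by rw [orderOf_eq_card_of_forall_mem_powers hc', hcard]
    have hmem : (c : G) ∈ ({1, u, v, u * v} : Set G) := hset ▸ c.2
    have hc2 : (c : G) ^ 2 = 1 := by
      simp only [Set.mem_insert_iff, Set.mem_singleton_iff] at hmem
      rcases hmem with h | h | h | h <;> rw [h, pow_two]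
      · exact one_mul 1
      · exact hu1
      · exact hv1
      · rw [mul_assoc, ← mul_assoc v, ← huv.eq, mul_assoc u v v, hv1, mul_one, hu1]
    have h2' : orderOf c ∣ 2 := orderOf_dvd_of_pow_eq_one (Subtype.ext (by simpa using hc2))
    rw [hord] at h2'
    exact absurd h2' (by norm_num)
  have hone : BS.TwoRankOne ↥M := fun u v hu hv huv => Subtype.ext
    (hno u v (by rw [Subgroup.orderOf_coe, hu]) (by rw [Subgroup.orderOf_coe, hv]) (huv.map M.subtype))
  obtain ⟨z, hz⟩ := exists_prime_orderOf_dvd_card' (G := ↥M) 2 h2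
  obtain ⟨N, hN, hNodd, hc'⟩ := BS.exists_odd_normal hone hz
  have hN0 : N = ⊥ := hN.eq_bot_or_eq_top.resolve_right fun h => by
    rw [h, card_top] at hNodd
    exact Nat.not_even_iff_odd.2 hNodd (even_iff_two_dvd.2 h2)
  have hzc : z ∈ center ↥M := mem_center_iff.2 fun g => by
    have h1 := hc' g
    rw [hN0, mem_bot, mul_inv_eq_one, mul_inv_eq_iff_eq_mul] at h1
    exact h1.symm
  rw [Transfer.CentralFour.center_eq_bot hna, mem_bot] at hzc
  rw [hzc, orderOf_one] at hz
  omega

/-- The statement, given the Janko–Thompson–Ward theorem. -/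
theorem conj_abelian_cases (hub : JankoWard.WardHub.{u})
    (hB : ∀ A B : Subgroup G, IsMulCommutative ↥A → IsMulCommutative ↥B → Nat.card ↥A = Nat.card ↥B →
      ∃ g : G, B = A.map (MulAut.conj g).toMonoidHom) (M : Subgroup G) [M.Normal] (hs : IsSimpleGroup ↥M)
    (hna : ¬ IsMulCommutative ↥M) :
    (∃ (F : Type) (_ : Field F) (_ : Fintype F),
      (Fintype.card F = 2 ^ 2 ∨ Fintype.card F = 2 ^ 3 ∨ Fintype.card F = 2 ^ 5) ∧
        Nonempty (↥M ≃* Matrix.SpecialLinearGroup (Fin 2) F)) ∨
    (∃ (F : Type) (_ : Field F) (_ : Fintype F), 5 ≤ Fintype.card F ∧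
      (Fintype.card F % 8 = 3 ∨ Fintype.card F % 8 = 5) ∧
        Nonempty (↥M ≃* Matrix.ProjectiveSpecialLinearGroup (Fin 2) F)) ∨
    Cfsg.Spor.IsoJ1 ↥M := by
  haveI := hs
  haveI : Fact (Nat.Prime 2) := ⟨Nat.prime_two⟩
  haveI : Fact (Nat.Prime 3) := ⟨Nat.prime_three⟩
  have h2 : 2 ∣ Nat.card ↥M := ThreeFree.two_dvd_card hna
  let S : Sylow 2 ↥M := default
  have hexp : ∀ k : ℕ, ∀ x : ↥M, x ^ 2 ^ k = 1 → x ^ 2 = 1 := by
    intro k
    induction k with
    | zero => intro x hx; rw [pow_zero, pow_one] at hx; rw [hx, one_pow]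
    | succ k ih =>
      intro x hx
      refine sylow_exp_two M hna hB h2 x ?_
      have := ih (x ^ 2) (by rw [← pow_mul, ← pow_succ']; exact hx)
      rwa [← pow_mul] at this
  have hsq : ∀ x ∈ (S : Subgroup ↥M), x * x = 1 := fun x hx => by
    obtain ⟨k, hk⟩ := S.isPGroup' ⟨x, hx⟩
    rw [← pow_two]
    exact hexp k x (congrArg Subtype.val hk)
  have hS : IsMulCommutative ↥(S : Subgroup ↥M) := ⟨⟨fun a b => Subtype.ext (by
    show (a : ↥M) * b = b * a
    rw [← inv_eq_of_mul_eq_one_right (hsq _ (mul_mem a.2 b.2)), _root_.mul_inv_rev,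
      inv_eq_of_mul_eq_one_right (hsq _ a.2), inv_eq_of_mul_eq_one_right (hsq _ b.2)])⟩⟩
  rcases trichotomy hna h2 S hS with ⟨F, i, j, n, hn, hF, ⟨e⟩⟩ | ⟨F, i, j, -, h5, h8, ⟨e⟩⟩ | ⟨h8, hE, hJ⟩
  · haveI : CharP F 2 := charP_of_card_eq_prime_pow hF
    let f : ↥M ≃* Matrix.SpecialLinearGroup (Fin 2) F := e.trans (Invol.GW.SLTwoEquivPSL (F := F)).symm
    refine Or.inl ⟨F, i, j, ?_, ⟨f⟩⟩
    have hb := field_bound hn hF fun V W hV hV2 hW hW2 => by
      -- transfer to `G`
      have key : ∀ U : Subgroup (Matrix.SpecialLinearGroup (Fin 2) F), Nat.card U = 4 → (∀ x ∈ U, x * x = 1) →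
          IsMulCommutative ↥((U.map f.symm.toMonoidHom).map M.subtype) ∧
            Nat.card ↥((U.map f.symm.toMonoidHom).map M.subtype) = 4 := fun U hU hU2 => by
        haveI : IsMulCommutative ↥U := ⟨⟨fun a b => Subtype.ext (by
          show (a : Matrix.SpecialLinearGroup (Fin 2) F) * b = b * a
          rw [← inv_eq_of_mul_eq_one_right (hU2 _ (mul_mem a.2 b.2)), _root_.mul_inv_rev,
            inv_eq_of_mul_eq_one_right (hU2 _ a.2), inv_eq_of_mul_eq_one_right (hU2 _ b.2)])⟩⟩
        exact ⟨inferInstance, (card_map_of_injective M.subtype_injective).trans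
          ((card_map_of_injective f.symm.injective).trans hU)⟩
      obtain ⟨g, hg⟩ := hB _ _ (key V hV hV2).1 (key W hW hW2).1 ((key V hV hV2).2.trans (key W hW hW2).2.symm)
      obtain ⟨β, hβ⟩ := exists_restrict M hg
      refine ⟨(f.symm.trans β).trans f, map_injective (f := f.symm.toMonoidHom) f.symm.injective ?_⟩
      rw [hβ, Subgroup.map_map, Subgroup.map_map]
      exact congrArg (fun h => V.map h) (MonoidHom.ext fun x => by simp)
    obtain ⟨hb1, hb2⟩ := hb
    rw [hF]
    interval_cases n
    · exact Or.inl rfl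
    · exact Or.inr (Or.inl rfl)
    · exact absurd rfl hb2
    · exact Or.inr (Or.inr rfl)
  · exact Or.inr (Or.inl ⟨F, i, j, h5, h8, ⟨e⟩⟩)
  · rcases ree_or_j1 hub hna S h8 hE hJ with ⟨hree, -⟩ | ⟨hj, -⟩
    · exfalso
      obtain ⟨r, u, hr, hu, ⟨k, hk⟩, hnon⟩ := ree_three hree
      obtain ⟨g, hg⟩ := hB (zpowers (r : G)) (zpowers (u : G)) inferInstance inferInstance
        (by rw [Nat.card_zpowers, Nat.card_zpowers, Subgroup.orderOf_coe, Subgroup.orderOf_coe, hr, hu])
      have hmem : (u : G) ∈ (zpowers (r : G)).map (MulAut.conj g).toMonoidHom := hg ▸ mem_zpowers _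
      obtain ⟨y, hy, hyu⟩ := hmem
      obtain ⟨m, rfl⟩ := mem_zpowers_iff.1 hy
      refine hnon (MulAut.conjNormal g k) (Subtype.ext ?_)
      simp only [MulEquiv.toMonoidHom_eq_coe, MonoidHom.coe_coe, MulAut.conj_apply] at hyu
      simp only [Subgroup.coe_mul, Subgroup.coe_inv, MulAut.conjNormal_apply]
      have hk' : (k : G) * r * (k : G)⁻¹ = (r : G)⁻¹ := by
        simpa using congrArg Subtype.val hk
      have hpow : (k : G) * (r : G) ^ m * (k : G)⁻¹ = ((r : G) ^ m)⁻¹ := by
        rw [← MulAut.conj_apply, map_zpow, MulAut.conj_apply, hk', inv_zpow]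
      calc g * k * g⁻¹ * u * (g * k * g⁻¹)⁻¹ = g * ((k : G) * (r : G) ^ m * (k : G)⁻¹) * g⁻¹ := by
            rw [← hyu]; group
        _ = (u : G)⁻¹ := by rw [hpow, ← hyu]; group
    · exact Or.inr (Or.inr hj)

end Cfsg.Agent.Invol.AbelTwo
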