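import Cfsg.Agent.Lib.Invol.AbelTwo.ReeAbel.Main
import Cfsg.Agent.Lib.Invol.GW.Dihedral.TwoClassImage
import Cfsg.Agent.Lib.Classical.DicksonCentral
import Cfsg.Agent.Lib.Spor.J1.Out

/-!
# An automorphism of prime power order fixing a Sylow subgroup of `L2(q)` pointwise

`q = 2^n` or `q ≡ 3, 5 (mod 8)`, abelian Sylow subgroups: such an automorphism is inner.  The field part fixes the
trace of a generator of a cyclic Sylow subgroup, so the subfield already contains the whole `r`-part.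
-/

set_option autoImplicit false
set_option linter.unusedSectionVars false
set_option linter.style.haveILetI false

open scoped _root_.Classical

namespace Cfsg.Agent.Invol.AbelTwo.FixSylow

open Matrix Cfsg.Agent.Classical Cfsg.Agent.Classical.PSLAut Cfsg.Agent.Invol.GW.Dihedral.PGL

variable {F : Type} [Field F] [Fintype F]

local notation "SL₂" => Matrix.SpecialLinearGroup (Fin 2) F
local notation "PSL₂" => Matrix.ProjectiveSpecialLinearGroup (Fin 2) F
local notation "M₂" => Matrix (Fin 2) (Fin 2) F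
local notation "GL₂" => GL (Fin 2) F
local notation "AutQ" => MulAut (Matrix.ProjectiveSpecialLinearGroup (Fin 2) F)
local notation "ι₂" => inndiagHom 2 F

theorem slToPSL_eq_iff {a b : SL₂} (h : slToPSL 2 F a = slToPSL 2 F b) :
    ∃ c : F, c * c = 1 ∧ (a : M₂) = c • (b : M₂) := by
  have h' : (QuotientGroup.mk a : PSL₂) = QuotientGroup.mk b := h
  rw [QuotientGroup.eq, Matrix.SpecialLinearGroup.mem_center_iff, Fintype.card_fin] at h'
  obtain ⟨c, hc, hm⟩ := h'
  refine ⟨c, by rw [← pow_two, hc], ?_⟩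
  have hb : (b : M₂) = (a : M₂) * Matrix.scalar (Fin 2) c := by
    rw [hm, ← Matrix.SpecialLinearGroup.coe_mul, mul_inv_cancel_left]
  rw [hb, Matrix.scalar_apply, ← Matrix.smul_one_eq_diagonal, Matrix.mul_smul, mul_one, smul_smul, ← pow_two,
    hc, one_smul]

/-- A field automorphism fixing the trace of the root elements and normalising them is trivial. -/
theorem unipotent_case (g : GL₂) (φ : RingAut F)
    (hfix : ∀ t : F, (pslSemi g φ : AutQ) (slToPSL 2 F ⟨!![1, t; 0, 1], by simp [Matrix.det_fin_two]⟩) =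
      slToPSL 2 F ⟨!![1, t; 0, 1], by simp [Matrix.det_fin_two]⟩) :
    φ = 1 ∧ IsSquare (g : M₂).det := by
  have key : ∀ t : F, ∃ c : F, c * c = 1 ∧
      (g : M₂) * !![1, φ t; 0, 1] = c • ((!![1, t; 0, 1] : M₂) * g) := by
    intro t
    have h := hfix t
    replace h : slToPSL 2 F (slSemi g φ _) = slToPSL 2 F _ := h
    obtain ⟨c, hc, hm⟩ := slToPSL_eq_iff h
    refine ⟨c, hc, ?_⟩
    replace hm : (g : M₂) * (!![1, t; 0, 1] : M₂).map φ * ((g⁻¹ : GL₂) : M₂) = c • !![1, t; 0, 1] := hm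
    have hmap : (!![1, t; 0, 1] : M₂).map φ = !![1, φ t; 0, 1] := by
      ext i j; fin_cases i <;> fin_cases j <;> simp
    rw [hmap] at hm
    have h2 := congrArg (fun M => M * (g : M₂)) hm
    simp only [Matrix.mul_assoc, Units.inv_mul, Matrix.mul_one, Matrix.smul_mul] at h2
    exact h2
  have hdet : (g : M₂) 0 0 * (g : M₂) 1 1 - (g : M₂) 0 1 * (g : M₂) 1 0 ≠ 0 := by
    have := g.det_ne_zero
    rwa [Matrix.det_fin_two] at this
  have sol : ∀ t : F, (g : M₂) 0 0 * φ t = t * (g : M₂) 1 1 ∧ t * (g : M₂) 1 0 = 0 := by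
    intro t
    obtain ⟨c, hc, hm⟩ := key t
    have e00 := congrFun (congrFun hm 0) 0
    have e01 := congrFun (congrFun hm 0) 1
    have e10 := congrFun (congrFun hm 1) 0
    have e11 := congrFun (congrFun hm 1) 1
    simp [Matrix.mul_apply, Fin.sum_univ_two, Matrix.vecMul, dotProduct] at e00 e01 e10 e11
    rcases mul_self_eq_one_iff.1 hc with rfl | rfl
    · exact ⟨by linear_combination e01, by linear_combination -e00⟩
    · by_cases h2 : (2 : F) = 0
      · exact ⟨by linear_combination e01 - (g : M₂) 0 1 * h2 - t * (g : M₂) 1 1 * h2,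
          by linear_combination e00 - (g : M₂) 0 0 * h2⟩
      · exfalso
        have h10 : (g : M₂) 1 0 = 0 :=
          (mul_eq_zero.1 (show (2 : F) * (g : M₂) 1 0 = 0 by linear_combination e10)).resolve_left h2
        have h00 : (g : M₂) 0 0 = 0 :=
          (mul_eq_zero.1 (show (2 : F) * (g : M₂) 0 0 = 0 by linear_combination e00 - t * h10)).resolve_left h2
        exact hdet (by rw [h00, h10]; ring)
  obtain ⟨h1, h10⟩ := sol 1
  rw [map_one, mul_one, one_mul] at h1
  rw [one_mul] at h10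
  have h00 : (g : M₂) 0 0 ≠ 0 := fun h => hdet (by rw [h, h10]; ring)
  refine ⟨RingEquiv.ext fun t => ?_, ⟨(g : M₂) 0 0, by rw [Matrix.det_fin_two, h10, ← h1]; ring⟩⟩
  obtain ⟨ht, -⟩ := sol t
  rw [← h1] at ht
  exact mul_right_cancel₀ h00 (show φ t * (g : M₂) 0 0 = t * (g : M₂) 0 0 by linear_combination ht)

/-- The upper unitriangular elements of `PSL₂`. -/
def root : Multiplicative F →* PSL₂ :=
  (slToPSL 2 F).comp
    { toFun := fun t => ⟨!![1, Multiplicative.toAdd t; 0, 1], by simp [Matrix.det_fin_two]⟩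
      map_one' := Subtype.ext (by ext i j; fin_cases i <;> fin_cases j <;> simp)
      map_mul' := fun a b => Subtype.ext (by
        show _ = !![1, Multiplicative.toAdd a; 0, 1] * !![1, Multiplicative.toAdd b; 0, 1]
        ext i j; fin_cases i <;> fin_cases j <;> simp [Matrix.mul_apply, Fin.sum_univ_two, add_comm]) }

theorem root_injective : Function.Injective (root (F := F)) := by
  intro a b h
  obtain ⟨c, -, hm⟩ := slToPSL_eq_iff h
  replace hm : (!![1, Multiplicative.toAdd a; 0, 1] : M₂) = c • !![1, Multiplicative.toAdd b; 0, 1] := hm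
  have e00 := congrFun (congrFun hm 0) 0
  have e01 := congrFun (congrFun hm 0) 1
  simp at e00 e01
  rw [← e00, one_mul] at e01
  exact e01

theorem conj_inj' {a b : PSL₂} (h : MulAut.conj a = MulAut.conj b) : a = b := by
  rw [← GW.pglAut_toPGL, ← GW.pglAut_toPGL] at h
  exact Matrix.ProjectiveSpecialLinearGroup.toPGL_injective (GW.pglAut_injective h)

theorem card_psl' : Nat.card PSL₂ ∣ Fintype.card F * ((Fintype.card F - 1) * (Fintype.card F + 1)) ∧
    Fintype.card F * ((Fintype.card F - 1) * (Fintype.card F + 1)) ∣ Nat.card PSL₂ * 2 := by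
  rw [← Dickson.card_psl (F := F)]
  exact ⟨Dvd.intro _ rfl, Nat.mul_dvd_mul_left _ (Nat.gcd_dvd_left _ _)⟩

/-- A power series remainder: `r ∣ d` and `r ∣ b - 1` give one more factor `r` in `b^d - 1`. -/
theorem mul_dvd_pow_sub {b r n d : ℕ} (hb : 1 ≤ b) (hn : n ∣ b - 1) (hr : r ∣ b - 1) (hd : r ∣ d) :
    r * n ∣ b ^ d - 1 := by
  rw [← geom_sum_mul_of_one_le hb d]
  have hb1 : b ≡ 1 [MOD r] := ((Nat.modEq_iff_dvd' hb).2 hr).symm
  have hs : (∑ i ∈ Finset.range d, b ^ i) ≡ ∑ i ∈ Finset.range d, 1 [MOD r] :=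
    Nat.ModEq.sum fun i _ => by simpa using hb1.pow i
  rw [Finset.sum_const, Finset.card_range, smul_eq_mul, mul_one] at hs
  exact Nat.mul_dvd_mul (Nat.modEq_zero_iff_dvd.1 (hs.trans (Nat.modEq_zero_iff_dvd.2 hd))) hn

/-- A field automorphism of `r`-power order fixing the trace of an element of full `r`-order is trivial. -/
theorem field_trivial {r a : ℕ} (hr : r.Prime) (ha : 1 ≤ a) (hrF : ¬ r ∣ Fintype.card F) (φ : RingAut F)
    (hφ : ∃ k : ℕ, φ ^ r ^ k = 1) (s : SL₂) (hs : orderOf s = r ^ a) (hns : ∀ c : F, (s : M₂) ≠ c • 1)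
    (htr : φ (Matrix.trace (s : M₂)) = Matrix.trace (s : M₂))
    (hmax : ¬ r ^ (a + 1) ∣ Fintype.card F * ((Fintype.card F - 1) * (Fintype.card F + 1))) : φ = 1 := by
  by_contra hφ1
  obtain ⟨k, hk⟩ := hφ
  obtain ⟨i, -, hi⟩ := (Nat.dvd_prime_pow hr).1 (orderOf_dvd_of_pow_eq_one hk)
  have hrord : r ∣ orderOf φ := by
    rcases Nat.eq_zero_or_pos i with h | h
    · rw [h, pow_zero, orderOf_eq_one_iff] at hi; exact absurd hi hφ1
    · rw [hi]; exact dvd_pow_self r (by omega)
  let F₀ : Subfield F := φ.toRingHom.eqLocusField (RingHom.id F)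
  have hmem : ∀ x : F, x ∈ F₀ ↔ φ x = x := fun x => Iff.rfl
  haveI : Finite F₀ := inferInstance
  haveI : Fintype F₀ := Fintype.ofFinite F₀
  let ψ : F ≃ₐ[F₀] F := AlgEquiv.ofRingEquiv (f := φ) fun x => (hmem x.1).1 x.2
  have hψ : ∀ (j : ℕ) (x : F), (ψ ^ j) x = (φ ^ j) x := by
    intro j
    induction j with
    | zero => intro x; rfl
    | succ j ih => intro x; rw [pow_succ', pow_succ']; show ψ ((ψ ^ j) x) = φ ((φ ^ j) x); rw [ih]; rfl
  have hrd : r ∣ Module.finrank F₀ F := by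
    refine hrord.trans ?_
    rw [← IsGalois.card_aut_eq_finrank]
    refine dvd_trans ?_ (orderOf_dvd_natCard ψ)
    refine orderOf_dvd_of_pow_eq_one (RingEquiv.ext fun x => ?_)
    rw [← hψ, pow_orderOf_eq_one]
    rfl
  have hcard : Fintype.card F = Fintype.card F₀ ^ Module.finrank F₀ F := Module.card_eq_pow_finrank
  -- the companion matrix over the fixed field
  set τ : F₀ := ⟨Matrix.trace (s : M₂), (hmem _).2 htr⟩ with hτ
  let C : Matrix.SpecialLinearGroup (Fin 2) F₀ := ⟨!![0, -1; 1, τ], by simp [Matrix.det_fin_two]⟩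
  have hcay : (s : M₂) * (s : M₂) = Matrix.trace (s : M₂) • (s : M₂) - (1 : F) • (1 : M₂) := by
    have hdet : (s : M₂) 0 0 * (s : M₂) 1 1 - (s : M₂) 0 1 * (s : M₂) 1 0 = 1 := by
      rw [← Matrix.det_fin_two]; exact s.2
    ext i j
    fin_cases i <;> fin_cases j <;> simp [Matrix.mul_apply, Fin.sum_univ_two, Matrix.trace_fin_two] <;>
      first | linear_combination hdet | linear_combination -hdet | ring
  have hrec : ∀ j : ℕ, ∃ u v : F₀, ((s ^ j : SL₂) : M₂) = (u : F) • (s : M₂) + (v : F) • (1 : M₂) ∧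
      ((C ^ j : Matrix.SpecialLinearGroup (Fin 2) F₀) : Matrix (Fin 2) (Fin 2) F₀) =
        u • (C : Matrix (Fin 2) (Fin 2) F₀) + v • (1 : Matrix (Fin 2) (Fin 2) F₀) := by
    intro j
    induction j with
    | zero => exact ⟨0, 1, by simp, by simp⟩
    | succ j ih =>
      obtain ⟨u, v, h1, h2⟩ := ih
      refine ⟨u * τ + v, -u, ?_, ?_⟩
      · rw [pow_succ, Matrix.SpecialLinearGroup.coe_mul, h1, Matrix.add_mul, Matrix.smul_mul, Matrix.smul_mul,
          hcay, one_mul]
        ext i j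
        fin_cases i <;> fin_cases j <;> simp [hτ] <;> ring
      · rw [pow_succ, Matrix.SpecialLinearGroup.coe_mul, h2]
        ext i j
        fin_cases i <;> fin_cases j <;> simp [C, Matrix.mul_apply, Fin.sum_univ_two] <;> ring
  have hC1 : ∀ j : ℕ, C ^ j = 1 → s ^ j = 1 := by
    intro j hj
    obtain ⟨u, v, h1, h2⟩ := hrec j
    rw [hj] at h2
    have e00 := congrFun (congrFun h2 0) 0
    have e10 := congrFun (congrFun h2 1) 0
    simp [C] at e00 e10
    refine Subtype.ext ?_
    rw [h1, ← e10, ← e00]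
    simp
  have hC2 : C ^ r ^ a = 1 := by
    obtain ⟨u, v, h1, h2⟩ := hrec (r ^ a)
    rw [← hs, pow_orderOf_eq_one, Matrix.SpecialLinearGroup.coe_one] at h1
    have hu : (u : F) = 0 := by
      by_contra hu
      refine hns ((1 - (v : F)) / u) ?_
      have h3 : (u : F) • (s : M₂) = (1 - (v : F)) • (1 : M₂) := by rw [sub_smul, one_smul, ← eq_sub_iff_add_eq.2 h1.symm]
      rw [div_eq_inv_mul, ← smul_smul, ← h3, smul_smul, inv_mul_cancel₀ hu, one_smul]
    rw [hu, zero_smul, zero_add] at h1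
    have hv : (v : F) = 1 := by simpa using (congrFun (congrFun h1 0) 0).symm
    refine Subtype.ext ?_
    rw [h2, show u = 0 from Subtype.ext hu, show v = 1 from Subtype.ext hv]
    simp
  have hordC : orderOf C = r ^ a :=
    Nat.dvd_antisymm (orderOf_dvd_of_pow_eq_one hC2) (hs ▸ orderOf_dvd_of_pow_eq_one (hC1 _ (pow_orderOf_eq_one C)))
  have hdvd : r ^ a ∣ Fintype.card F₀ * ((Fintype.card F₀ - 1) * (Fintype.card F₀ + 1)) := by
    rw [← hordC, ← Fus.PSLTwo.natCard_SL_two]
    exact orderOf_dvd_natCard C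
  set Q := Fintype.card F₀ with hQ
  have hQ1 : 1 ≤ Q := Fintype.card_pos
  have hrQ : ¬ r ∣ Q := fun h => hrF (by
    rw [hcard]; exact h.trans (dvd_pow_self Q (Module.finrank_pos (R := F₀) (M := F)).ne'))
  have hsq : ∀ x : ℕ, (x - 1) * (x + 1) = x ^ 2 - 1 := fun x => by
    rw [mul_comm, pow_two, ← Nat.mul_self_sub_mul_self_eq x 1, mul_one]
  have hb : r ^ a ∣ Q ^ 2 - 1 := by
    rw [← hsq]
    exact ((hr.coprime_iff_not_dvd.2 hrQ).pow_left a).dvd_of_dvd_mul_left hdvd
  have h := mul_dvd_pow_sub (Nat.one_le_pow _ _ hQ1) hb ((dvd_pow_self r (by omega)).trans hb) hrd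
  rw [← pow_mul, mul_comm 2, pow_mul, ← hcard, ← hsq, ← pow_succ'] at h
  exact hmax (dvd_mul_of_dvd_right h _)

variable {r : ℕ} [Fact r.Prime]

/-- The field part has `r`-power order. -/
theorem field_pow {g : GL₂} {φ : RingAut F} {k : ℕ} (h : (pslSemi g φ : AutQ) ^ r ^ k = 1) : φ ^ r ^ k = 1 := by
  rw [pslSemi_pow, semi_eq_one_iff le_rfl] at h
  exact h.1

/-- An inner-diagonal automorphism of odd order is inner. -/
theorem inner_of_odd {g : GL₂} {n : ℕ} (hn : Odd n) (h : (ι₂ g : AutQ) ^ n = 1) : IsSquare (g : M₂).det := by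
  have h' : IsSquare ((g : M₂).det ^ n) := by
    have h1 : ι₂ (g ^ n) ∈ Cfsg.Inn PSL₂ := by rw [map_pow, h]; exact one_mem _
    have h2 := (mem_inn_iff (g ^ n)).1 h1
    rwa [Units.val_pow_eq_pow_val, Matrix.det_pow] at h2
  obtain ⟨d, rfl⟩ := hn
  obtain ⟨c, hc⟩ := h'
  have hd : (g : M₂).det ≠ 0 := g.det_ne_zero
  refine ⟨c / (g : M₂).det ^ d, ?_⟩
  field_simp
  linear_combination hc

/-- The theorem for `L2(q)`. -/
theorem psl_inner (hF : Fintype.card F % 8 = 0 ∨ Fintype.card F % 8 = 3 ∨ Fintype.card F % 8 = 5)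
    (hr : r ∣ Nat.card PSL₂) (β : AutQ) (k : ℕ) (hβ : β ^ r ^ k = 1) (R : Sylow r PSL₂)
    (hRc : IsMulCommutative ↥(R : Subgroup PSL₂)) (hR : ∀ x ∈ (R : Subgroup PSL₂), β x = x) :
    β ∈ Cfsg.Inn PSL₂ := by
  classical
  obtain ⟨p, hch⟩ := CharP.exists F
  haveI := hch
  obtain ⟨f, hp, hpf⟩ := FiniteField.card F p
  haveI : Fact p.Prime := ⟨hp⟩
  have hrp : r.Prime := Fact.out
  have hq2 : 1 < Fintype.card F := Fintype.one_lt_card
  obtain ⟨hdvd1, hdvd2⟩ := card_psl' (F := F)
  by_cases hrq : r = p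
  · -- the characteristic
    subst hrq
    let U : Subgroup PSL₂ := (root (F := F)).range
    have hU : Nat.card ↥U = r ^ (Nat.card PSL₂).factorization r := by
      rw [show Nat.card ↥U = Fintype.card F by
        rw [← Nat.card_congr (MonoidHom.ofInjective root_injective).toEquiv, Nat.card_congr Multiplicative.toAdd,
          Nat.card_eq_fintype_card]]
      rw [hpf]
      have hU' : r ^ (f : ℕ) ∣ Nat.card PSL₂ := by
        rw [← hpf, ← Nat.card_eq_fintype_card (α := F), ← Nat.card_congr (Multiplicative.toAdd (α := F)),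
          Nat.card_congr (MonoidHom.ofInjective root_injective).toEquiv]
        exact Subgroup.card_subgroup_dvd_card _
      refine congrArg (r ^ ·) (le_antisymm ((hrp.pow_dvd_iff_le_factorization Nat.card_pos.ne').1 hU') ?_)
      have h1 : r ^ (Nat.card PSL₂).factorization r ∣
          r ^ (f : ℕ) * ((Fintype.card F - 1) * (Fintype.card F + 1)) := by
        rw [← hpf]; exact (Nat.ordProj_dvd _ _).trans hdvd1
      refine (Nat.pow_dvd_pow_iff_le_right hrp.one_lt).1 (Nat.Coprime.dvd_of_dvd_mul_right ?_ h1)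
      refine (hrp.coprime_iff_not_dvd.2 fun h => ?_).pow_left _
      have hrdvd : r ∣ Fintype.card F := hpf ▸ dvd_pow_self r f.pos.ne'
      rcases hrp.dvd_mul.1 h with h | h
      · exact hrp.not_dvd_one ((Nat.dvd_sub hrdvd h).trans (dvd_of_eq (by omega)))
      · exact hrp.not_dvd_one ((Nat.dvd_add_right hrdvd).1 h)
    obtain ⟨c, hc⟩ := MulAction.exists_smul_eq PSL₂ (Sylow.ofCard U hU) R
    obtain ⟨g, φ, hg⟩ := exists_form ((MulAut.conj c)⁻¹ * β * MulAut.conj c)
    have hfix : ∀ u ∈ U, ((MulAut.conj c)⁻¹ * β * MulAut.conj c) u = u := by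
      intro u hu
      have hmem : c * u * c⁻¹ ∈ (R : Subgroup PSL₂) := by
        rw [← hc, Sylow.smul_def]
        exact ⟨u, hu, rfl⟩
      show (MulAut.conj c)⁻¹ (β (c * u * c⁻¹)) = u
      rw [hR _ hmem]
      simp [mul_assoc]
    rw [hg] at hfix
    obtain ⟨hφ, hsq⟩ := unipotent_case g φ fun t => hfix _ ⟨Multiplicative.ofAdd t, rfl⟩
    rw [hφ, semi_inner] at hg
    have h := (mem_inn_iff g).2 hsq
    rw [← hg] at h
    have hc' : MulAut.conj c ∈ Cfsg.Inn PSL₂ := ⟨c, rfl⟩
    rw [show β = MulAut.conj c * ((MulAut.conj c)⁻¹ * β * MulAut.conj c) * (MulAut.conj c)⁻¹ by group]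
    exact mul_mem (mul_mem hc' h) (inv_mem hc')
  obtain ⟨g, φ, rfl⟩ := exists_form β
  rcases hrp.eq_two_or_odd' with rfl | hrodd
  · -- two, odd characteristic
    have hodd : Odd (Fintype.card F) := by
      rw [hpf]; exact (hp.odd_of_ne_two fun e => hrq e.symm).pow
    have h35 : Fintype.card F % 8 = 3 ∨ Fintype.card F % 8 = 5 := by
      rcases hF with h | h | h
      · exfalso; obtain ⟨d, hd⟩ := hodd; omega
      · exact Or.inl h
      · exact Or.inr h
    have hf : Odd (f : ℕ) := by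
      by_contra h
      obtain ⟨d, hd⟩ := Nat.not_odd_iff_even.1 h
      rw [hpf, hd, pow_add] at h35
      rw [Nat.mul_mod] at h35
      have := Nat.mod_lt (p ^ d) (show 8 > 0 by norm_num)
      interval_cases hx : p ^ d % 8 <;> simp at h35
    have hφ : φ = 1 := by
      obtain ⟨hc, hcard⟩ := card_ringAut (F := F) hpf
      have h1 : orderOf φ ∣ (f : ℕ) := hcard ▸ orderOf_dvd_natCard φ
      obtain ⟨i, -, hi⟩ := (Nat.dvd_prime_pow Nat.prime_two).1 (orderOf_dvd_of_pow_eq_one (field_pow hβ))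
      refine orderOf_eq_one_iff.1 ?_
      rcases Nat.eq_zero_or_pos i with h | h
      · rw [hi, h, pow_zero]
      · exfalso
        have h2 : 2 ∣ (f : ℕ) := (dvd_pow_self 2 (by omega)).trans (hi ▸ h1)
        obtain ⟨d, hd⟩ := hf
        omega
    subst hφ
    rw [semi_inner] at hR hβ ⊢
    -- two commuting involutions of the Sylow subgroup
    obtain ⟨a, b, ha, hb, hab, hcomm, haR, hbR⟩ : ∃ a b : PSL₂, orderOf a = 2 ∧ orderOf b = 2 ∧ a ≠ b ∧
        Commute a b ∧ a ∈ (R : Subgroup PSL₂) ∧ b ∈ (R : Subgroup PSL₂) := by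
      obtain ⟨kk, -, -, f', hf', hfS, hfo, hfc⟩ := Core2.RankTwo.sylow_invols hodd R
      exact ⟨f' none, f' (some 0), hfo _, hfo _, hf'.ne (by simp), hfc _ (hfS _), hfS _, hfS _⟩
    obtain ⟨A, rfl⟩ := slToPSL_surjective a
    obtain ⟨B, rfl⟩ := slToPSL_surjective b
    have hι : ∀ S : SL₂, ι₂ (Matrix.SpecialLinearGroup.toGL S) = MulAut.conj (slToPSL 2 F S) := fun S => by
      rw [conj_eq_pslSemi]; rfl
    set A' := Matrix.SpecialLinearGroup.toGL A with hA'
    set B' := Matrix.SpecialLinearGroup.toGL B with hB'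
    have hinv : ∀ x : PSL₂, orderOf x = 2 → MulAut.conj x ≠ 1 ∧ MulAut.conj x * MulAut.conj x = 1 := by
      intro x hx
      refine ⟨fun h => ?_, by
        rw [← map_mul, show x * x = 1 from (pow_two x).symm.trans (orderOf_dvd_iff_pow_eq_one.1 hx.dvd), map_one]⟩
      have h' : x = 1 := conj_inj' (h.trans (map_one _).symm)
      rw [h', orderOf_one] at hx
      omega
    obtain ⟨hA1, hA2⟩ := hinv _ ha
    obtain ⟨hB1, hB2⟩ := hinv _ hb
    rw [← hι] at hA1 hA2 hB1 hB2
    have hAT := traceless_of_involution hA1 hA2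
    have hBT := traceless_of_involution hB1 hB2
    have hne : ι₂ A' ≠ ι₂ B' := by
      rw [hι, hι]; exact fun h => hab (conj_inj' h)
    have hcι : Commute (ι₂ A') (ι₂ B') := by rw [hι, hι]; exact hcomm.map MulAut.conj
    have hanti : (A' : M₂) * B' = -((B' : M₂) * A') := by
      rcases lift_cases hcι.symm with h | h
      · exfalso
        obtain ⟨x, y, hxy⟩ := commutant hodd (not_scalar_of_traceless hodd hAT) h
        have h00 := congrFun (congrFun hxy 0) 0
        have h11 := congrFun (congrFun hxy 1) 1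
        simp at h00 h11
        have hx0 : x = 0 := by
          refine (mul_eq_zero.1 (show (2 : F) * x = 0 from ?_)).resolve_left (GW.Dihedral.PGL.two_ne_zero hodd)
          have hA0 : (A : M₂) 1 1 = -(A : M₂) 0 0 := hAT
          have hB0 : (B' : M₂) 1 1 = -(B' : M₂) 0 0 := hBT
          linear_combination -h00 - h11 + hB0 - y * hA0
        rw [hx0, zero_smul, zero_add] at hxy
        exact hne (map_eq_iff.2 ⟨y, hxy⟩).symm
      · exact eq_neg_iff_add_eq_zero.2 (by rw [h]; exact add_neg_cancel _)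
    have hcard := card_centralizer_pair hodd hAT hBT hanti
    set S4 := {x : AutQ // x ∈ (ι₂).range ∧ Commute x (ι₂ A') ∧ Commute x (ι₂ B')}
    have hfixc : ∀ {S : SL₂}, slToPSL 2 F S ∈ (R : Subgroup PSL₂) →
        Commute (ι₂ g) (ι₂ (Matrix.SpecialLinearGroup.toGL S)) := fun {S} hS => by
      rw [hι]
      show ι₂ g * MulAut.conj _ = MulAut.conj _ * ι₂ g
      refine MulEquiv.ext fun x => ?_
      show ι₂ g (_ * x * _⁻¹) = _ * ι₂ g x * _⁻¹
      rw [map_mul, map_mul, map_inv, hR _ hS]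
    let el : Bool × Bool → S4 := fun i => ⟨(if i.1 then ι₂ A' else 1) * (if i.2 then ι₂ B' else 1), by
      refine ⟨mul_mem ?_ ?_, Commute.mul_left ?_ ?_, Commute.mul_left ?_ ?_⟩ <;> split_ifs <;>
        first
          | exact one_mem _
          | exact ⟨_, rfl⟩
          | exact Commute.one_left _
          | exact Commute.refl _
          | exact hcι
          | exact hcι.symm⟩
    have hel : Function.Injective el := by
      rintro ⟨i1, i2⟩ ⟨j1, j2⟩ h
      have h' := congrArg Subtype.val h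
      have hAB : ι₂ A' * ι₂ B' ≠ 1 := fun e => hne (by
        rw [eq_inv_of_mul_eq_one_left e, inv_eq_of_mul_eq_one_right hB2])
      cases i1 <;> cases i2 <;> cases j1 <;> cases j2 <;> simp [el] at h' <;>
        first
          | rfl
          | exact absurd h' hA1
          | exact absurd h'.symm hA1
          | exact absurd h' hB1
          | exact absurd h'.symm hB1
          | exact absurd h' hne
          | exact absurd h'.symm hne
          | exact absurd h' hAB
          | exact absurd h'.symm hAB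
    have hbij := hel.bijective_of_nat_card_le (by rw [hcard]; simp)
    obtain ⟨⟨i1, i2⟩, hi⟩ := hbij.2 ⟨ι₂ g, ⟨g, rfl⟩, hfixc haR, hfixc hbR⟩
    rw [← show _ = ι₂ g from congrArg Subtype.val hi]
    refine mul_mem ?_ ?_ <;> split_ifs
    exacts [⟨_, (hι A).symm⟩, one_mem _, ⟨_, (hι B).symm⟩, one_mem _]
  -- an odd prime different from the characteristic
  obtain ⟨a, hRa⟩ := IsPGroup.iff_card.1 R.isPGroup'
  have ha : 1 ≤ a := by
    by_contra h
    have h0 : a = 0 := by omega
    have := R.pow_dvd_card_of_pow_dvd_card (n := 1) (by rwa [pow_one])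
    rw [hRa, h0, pow_one, pow_zero] at this
    exact hrp.not_dvd_one this
  haveI : IsCyclic ↥(R : Subgroup PSL₂) := by
    obtain ⟨x, hx, hx1⟩ : ∃ x ∈ (R : Subgroup PSL₂), x ≠ 1 := by
      by_contra hh
      push Not at hh
      rw [(Subgroup.eq_bot_iff_forall _).2 hh, Subgroup.card_bot] at hRa
      exact absurd hRa.symm (Nat.one_lt_pow (by omega) hrp.one_lt).ne'
    have hxa : x ^ r ^ a = 1 := by
      rw [← hRa]; exact congrArg Subtype.val (pow_card_eq_one' (x := (⟨x, hx⟩ : ↥(R : Subgroup PSL₂))))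
    have hxp : ¬ x ^ p = 1 := fun h => hx1 (by
      have h' : x ^ Nat.gcd p (r ^ a) = 1 := pow_gcd_eq_one.2 ⟨h, hxa⟩
      rwa [(((Nat.coprime_primes hrp hp).2 hrq).pow_left a).symm.gcd_eq_one, pow_one] at h')
    have hx2 : x * x ≠ 1 := fun h => hx1 (by
      rw [← pow_two] at h
      have h' : x ^ Nat.gcd 2 (r ^ a) = 1 := pow_gcd_eq_one.2 ⟨h, hxa⟩
      rwa [Nat.Coprime.gcd_eq_one (Nat.coprime_two_left.2 hrodd.pow), pow_one] at h')
    have hle : (R : Subgroup PSL₂) ≤ (Dickson.pslData (F := F) p).T x := by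
      intro z hz
      have hz' : z ∈ Subgroup.centralizer ({x} : Set PSL₂) := Subgroup.mem_centralizer_singleton_iff.2
        (congrArg Subtype.val (hRc.is_comm.comm ⟨z, hz⟩ ⟨x, hx⟩))
      rwa [Dickson.centralizer_eq_tor p hx1 (Or.inr hx2)] at hz'
    haveI := (Dickson.pslData (F := F) p).semi_cyclic hx1 hxp
    exact isCyclic_of_injective (Subgroup.inclusion hle) (Subgroup.inclusion_injective hle)
  obtain ⟨⟨x, hx⟩, hgen⟩ := IsCyclic.exists_generator (α := ↥(R : Subgroup PSL₂))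
  have hox : orderOf x = r ^ a := by
    rw [← hRa, ← Subgroup.orderOf_mk x hx]
    exact orderOf_eq_card_of_forall_mem_zpowers hgen
  obtain ⟨s0, rfl⟩ := slToPSL_surjective x
  -- the lift of odd order
  obtain ⟨s, hsx, hsn⟩ : ∃ s : SL₂, slToPSL 2 F s = slToPSL 2 F s0 ∧ s ^ r ^ a = 1 := by
    obtain ⟨c, hc, hcm⟩ := slToPSL_eq_iff (a := s0 ^ r ^ a) (b := 1)
      (by rw [map_pow, map_one, ← hox, pow_orderOf_eq_one])
    obtain ⟨d, hd⟩ := hrodd.pow (n := a)
    refine ⟨s0 ^ (r ^ a + 1), by rw [map_pow, pow_succ, ← hox, pow_orderOf_eq_one, one_mul], ?_⟩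
    rw [← pow_mul, mul_comm, pow_mul]
    refine Subtype.ext ?_
    rw [Matrix.SpecialLinearGroup.coe_pow, hcm, Matrix.SpecialLinearGroup.coe_one, smul_pow, one_pow,
      show r ^ a + 1 = 2 * (d + 1) by omega, pow_mul, pow_two, hc, one_pow, one_smul]
  have hos : orderOf s = r ^ a := Nat.dvd_antisymm (orderOf_dvd_of_pow_eq_one hsn)
    (hox ▸ hsx ▸ orderOf_map_dvd (slToPSL 2 F) s)
  have hns : ∀ c : F, (s : M₂) ≠ c • 1 := by
    intro c hc
    have hsc : s ∈ Subgroup.center SL₂ := by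
      rw [Matrix.SpecialLinearGroup.mem_center_iff, Fintype.card_fin]
      refine ⟨c, ?_, by rw [hc, Matrix.scalar_apply, Matrix.smul_one_eq_diagonal]⟩
      have := s.2
      rw [hc, Matrix.det_smul, Fintype.card_fin, Matrix.det_one, mul_one] at this
      exact this
    have h1 : slToPSL 2 F s = 1 := (QuotientGroup.eq_one_iff s).2 hsc
    rw [← hsx, h1, orderOf_one] at hox
    exact absurd hox (Nat.one_lt_pow (by omega) hrp.one_lt).ne
  have hfix := hR _ hx
  rw [← hsx, pslSemi_mk] at hfix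
  obtain ⟨c, hc, hcm⟩ := slToPSL_eq_iff hfix
  have hc1 : c = 1 := by
    have h1 : (slSemi g φ s) ^ r ^ a = 1 := by rw [← map_pow, hsn, map_one]
    have h2 := congrArg (fun M : M₂ => M ^ r ^ a) hcm
    rw [← Matrix.SpecialLinearGroup.coe_pow, h1, smul_pow, ← Matrix.SpecialLinearGroup.coe_pow, hsn,
      Matrix.SpecialLinearGroup.coe_one] at h2
    have h3 : c ^ r ^ a = 1 := by simpa using (congrFun (congrFun h2 0) 0).symm
    obtain ⟨d, hd⟩ := hrodd.pow (n := a)
    rwa [hd, pow_succ, pow_mul, pow_two, hc, one_pow, one_mul] at h3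
  rw [hc1, one_smul, slSemi_coe] at hcm
  have htr : φ (Matrix.trace (s : M₂)) = Matrix.trace (s : M₂) := by
    have h := congrArg Matrix.trace hcm
    rw [Matrix.trace_units_conj] at h
    refine Eq.trans ?_ h
    simp [Matrix.trace_fin_two]
  have hmax : ¬ r ^ (a + 1) ∣ Fintype.card F * ((Fintype.card F - 1) * (Fintype.card F + 1)) := by
    intro h
    have h2 : r ^ (a + 1) ∣ Nat.card PSL₂ := by
      have h3 := h.trans hdvd2
      exact (Nat.Coprime.pow_left _ (Nat.coprime_two_right.2 hrodd)).dvd_of_dvd_mul_right h3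
    have h4 := R.pow_dvd_card_of_pow_dvd_card h2
    rw [hRa, Nat.pow_dvd_pow_iff_le_right hrp.one_lt] at h4
    omega
  have hrF : ¬ r ∣ Fintype.card F := fun h => by
    rw [hpf] at h
    exact hrq ((Nat.prime_dvd_prime_iff_eq hrp hp).1 (hrp.dvd_of_dvd_pow h))
  have hφ := field_trivial hrp ha hrF φ ⟨k, field_pow hβ⟩ s hos hns htr hmax
  subst hφ
  rw [semi_inner] at hβ ⊢
  exact (mem_inn_iff g).2 (inner_of_odd hrodd.pow hβ)

end Cfsg.Agent.Invol.AbelTwo.FixSylow

namespace Cfsg.Agent.Invol.AbelTwo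

universe u

/-- Simple groups with all Sylow subgroups abelian: an automorphism of `r`-power order fixing a Sylow
`r`-subgroup pointwise is inner. -/
theorem inner_of_fix_sylow (hub : JankoWard.WardHub.{u}) {G : Type u} [Group G] [Finite G] [IsSimpleGroup G]
    (hna : ¬ IsMulCommutative G) (hA : ∀ (p : ℕ), p.Prime → ∀ (P : Sylow p G), IsMulCommutative ↥P)
    (r : ℕ) [Fact r.Prime] (hr : r ∣ Nat.card G) (α : G ≃* G) (k : ℕ) (hα : orderOf α = r ^ k)
    (R : Sylow r G) (hR : ∀ x ∈ (R : Subgroup G), α x = x) :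
    ∃ g : G, ∀ x : G, α x = g * x * g⁻¹ := by
  suffices H : ∀ (K : Type) [Group K] [Finite K] (e : G ≃* K),
      (∀ (β : MulAut K), β ^ r ^ k = 1 → ∀ (R' : Sylow r K), IsMulCommutative ↥(R' : Subgroup K) →
        (∀ x ∈ (R' : Subgroup K), β x = x) → β ∈ Cfsg.Inn K) → ∃ g : G, ∀ x : G, α x = g * x * g⁻¹ by
    rcases all_sylow_abelian_cases hub hna hA with ⟨⟨e⟩⟩ | ⟨F, i, j, -, h8, ⟨e⟩⟩
    · exact H _ e fun β _ _ _ _ => J1Cert.all_inner β
    · refine H _ e fun β hβ R' hc hR' => FixSylow.psl_inner h8 ?_ β k hβ R' hc hR'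
      rw [← Nat.card_congr e.toEquiv]; exact hr
  intro K _ _ e h
  have hcard : Nat.card ↥((R : Subgroup G).map e.toMonoidHom) = r ^ (Nat.card K).factorization r := by
    rw [Subgroup.card_map_of_injective e.injective, R.card_eq_multiplicity, Nat.card_congr e.toEquiv]
  let β : MulAut K := MulAut.congr e α
  have hpow : β ^ r ^ k = 1 := by rw [← map_pow, ← hα, pow_orderOf_eq_one, map_one]
  obtain ⟨c, hc⟩ := h β hpow (Sylow.ofCard _ hcard)
    (by
      refine ⟨⟨fun a b => Subtype.ext ?_⟩⟩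
      obtain ⟨_, a', ha', rfl⟩ := a
      obtain ⟨_, b', hb', rfl⟩ := b
      show e a' * e b' = e b' * e a'
      rw [← map_mul, ← map_mul]
      exact congrArg e (congrArg Subtype.val ((hA r Fact.out R).is_comm.comm ⟨a', ha'⟩ ⟨b', hb'⟩)))
    (by
      rintro _ ⟨a, ha, rfl⟩
      show e (α (e.symm (e a))) = e a
      rw [e.symm_apply_apply, hR a ha])
  refine ⟨e.symm c, fun x => e.injective ?_⟩
  have h' : c * e x * c⁻¹ = e (α (e.symm (e x))) := DFunLike.congr_fun hc (e x)
  rw [e.symm_apply_apply] at h'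
  rw [← h', map_mul, map_mul, map_inv, e.apply_symm_apply]

end Cfsg.Agent.Invol.AbelTwo
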