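import Cfsg.Agent.Lib.Invol.AbelTwo.Local
import Cfsg.Agent.S1174
import Cfsg.Agent.Lib.Local.CoreConsumers.MaximalCentralizer

/-!
# A further involution centralising the core of `C(t)`

Then all of `S` does, the cores of all centralisers of involutions are equal, and they are trivial.
-/

set_option autoImplicit false
set_option linter.unusedSectionVars false
set_option linter.style.haveILetI false

namespace Cfsg.Agent.Invol.AbelTwo

open Subgroup Fus.Gold GW.Klein GW.ThreeClass Cfsg.Agent.Grp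
open scoped Pointwise commutatorElement

universe u

variable {G : Type u} [Group G] [Finite G] {s : Setup G}

theorem coreCent_smul (n t : G) : coreCent (n * t * n⁻¹) = MulAut.conj n • coreCent t := by
  rw [coreCent, coreCent, ← oddOf_smul]
  congr 1
  ext x
  rw [Grp.mem_smul_conj, mem_centralizer_singleton_iff, mem_centralizer_singleton_iff]
  constructor
  · intro e
    calc n⁻¹ * x * n * t = n⁻¹ * (x * (n * t * n⁻¹)) * n := by group
      _ = n⁻¹ * (n * t * n⁻¹ * x) * n := by rw [e]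
      _ = t * (n⁻¹ * x * n) := by group
  · intro e
    calc x * (n * t * n⁻¹) = n * (n⁻¹ * x * n * t) * n⁻¹ := by group
      _ = n * (t * (n⁻¹ * x * n)) * n⁻¹ := by rw [e]
      _ = n * t * n⁻¹ * x := by group

theorem conj_mem_coreCent {t c w : G} (hc : Commute c t) (hw : w ∈ coreCent t) : c * w * c⁻¹ ∈ coreCent t :=
  conj_mem_oddOf (mem_centralizer_singleton_iff.2 hc.eq) hw

namespace Cfg

variable (h : Cfg s)
include h

/-- One more involution centralising a core: then `S` centralises the core of each involution. -/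
theorem sylow_centralizes {t₀ u₀ : G} (ht₀ : t₀ ∈ s.A) (ht₀1 : t₀ ≠ 1) (hu₀ : u₀ ∈ s.A) (hu₀1 : u₀ ≠ 1)
    (hne : u₀ ≠ t₀) (hc : ∀ w ∈ coreCent t₀, Commute u₀ w) {t : G} (ht : t ∈ s.A) (ht1 : t ≠ 1) :
    s.A ≤ centralizer (coreCent t : Set G) := by
  obtain ⟨n, hn, rfl⟩ := h.eight.trans t₀ ht₀ t ht ht₀1 ht1
  obtain ⟨a, g, T⟩ := h.exists_turn ht ht1
  set u := n * u₀ * n⁻¹
  have hu : u ∈ s.A := (mem_normalizer_iff.1 hn u₀).1 hu₀
  have huC : u ∈ centralizer (coreCent (n * t₀ * n⁻¹) : Set G) := mem_centralizer_iff.2 fun w hw => by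
    rw [coreCent_smul, SetLike.mem_coe, Grp.mem_smul_conj] at hw
    have h1 := ((hc _ hw).conj n).symm.eq
    rwa [show n * (n⁻¹ * w * n) * n⁻¹ = w by group] at h1
  have hg : g ∈ normalizer ((centralizer (coreCent (n * t₀ * n⁻¹) : Set G) : Subgroup G) : Set G) :=
    mem_normalizer_fintype fun x hx => mem_centralizer_iff.2 fun w hw => by
      have h1 : Commute g⁻¹ (n * t₀ * n⁻¹) := T.gt.inv_left
      have h2 := mem_centralizer_iff.1 hx _ (conj_mem_coreCent h1 hw)
      rw [inv_inv] at h2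
      calc w * (g * x * g⁻¹) = g * ((g⁻¹ * w * g) * x) * g⁻¹ := by group
        _ = g * (x * (g⁻¹ * w * g)) * g⁻¹ := by rw [h2]
        _ = g * x * g⁻¹ * w := by group
  obtain ⟨ha, hb⟩ := T.key hg hu huC (fun e => hu₀1 (conj_eq_one_iff.1 e))
    (fun e => hne ((MulAut.conj n).injective e))
  refine T.le_of_mem ?_ ha hb
  refine mem_centralizer_iff.2 fun w hw => ?_
  exact mem_centralizer_singleton_iff.1 (oddOf_le _ hw)

/-- The core of `C(t)` then lies in that of `C(x)`. -/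
theorem coreCent_le {t x : G} (ht : t ∈ s.A) (hx : x ∈ s.A) (hx1 : x ≠ 1)
    (ht1 : t ≠ 1) (hC : s.A ≤ centralizer (coreCent t : Set G)) : coreCent t ≤ coreCent x := by
  rcases eq_or_ne t x with rfl | htx
  · exact le_rfl
  obtain ⟨K, hK⟩ := h.exists_comp hx hx1
  haveI := hK.normal
  have hloc := localHyp s hx hx1
  have hCx : ∀ w ∈ coreCent t, w ∈ centralizer ({x} : Set G) := fun w hw =>
    mem_centralizer_singleton_iff.2 (mem_centralizer_iff.1 (hC hx) w hw)
  have hoddw : ∀ w (hw : w ∈ coreCent t), Odd (orderOf (proj x ⟨w, hCx w hw⟩)) := fun w hw => by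
    refine (odd_orderOf (odd_card_oddOf _) hw).of_dvd_nat ((orderOf_map_dvd (proj x) _).trans ?_)
    rw [Subgroup.orderOf_mk]
  intro y hy
  set yb := proj x ⟨y, hCx y hy⟩ with hyb
  -- commutation with the image of `S`
  have himA : ∀ w (hw : w ∈ coreCent t), ∀ z ∈ imA s.A x, Commute (proj x ⟨w, hCx w hw⟩) z := by
    intro w hw z hz
    obtain ⟨v, hv, rfl⟩ := (mem_imA s hx hx1).1 hz
    show _ * _ = _ * _
    rw [← map_mul, ← map_mul]
    exact congrArg _ (Subtype.ext (mem_centralizer_iff.1 (hC hv) w hw))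
  -- the part of `t` in the component
  have htb : proj x ⟨t, s.le_centralizer hx ht⟩ ∈
      (imA s.A x ⊓ centralizer (K : Set (Cq x))) ⊔ (imA s.A x ⊓ K) :=
    hK.sup.symm ▸ (mem_imA s hx hx1).2 ⟨t, ht, rfl⟩
  obtain ⟨c, hc, e, he, hce⟩ := Single.mem_sup_comm htb fun a ha b hb => hloc.comm ha.1 hb.1
  have he1 : e ≠ 1 := by
    intro e1
    rw [e1, mul_one] at hce
    have h1 : t ∈ dPart s.A x K := (Fus.Gold.mem_dPart_iff s hx hx1 ht).2 (hce ▸ hc.2)
    rw [hK.dpart] at h1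
    exact (Single.eq_or_of_mem_zpowers s hx h1).elim ht1 htx
  set E := (imA s.A x ⊓ K).subgroupOf K
  set φ : MulAut ↥K := MulAut.conjNormal yb with hφ
  have hφo : Odd (orderOf φ) := (hoddw y hy).of_dvd_nat (orderOf_map_dvd MulAut.conjNormal yb)
  have hfixE : ∀ v ∈ E, φ v = v := fun v hv => Subtype.ext (by
    rw [hφ, MulAut.conjNormal_apply, (himA y hy _ (mem_subgroupOf.1 hv).1).eq, mul_inv_cancel_right])
  have hφ1 : φ = 1 := by
    refine hK.four.aut φ hφo hfixE ⟨e, he.2⟩ (mem_subgroupOf.2 he) (fun e' => he1 (congrArg Subtype.val e'))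
      fun k hk => Subtype.ext ?_
    -- `k` centralises the image of `t`
    have hkt : (k : Cq x) ∈ centralizer ((((zpowers t).subgroupOf (centralizer ({x} : Set G))).map
        (proj x) : Subgroup (Cq x)) : Set (Cq x)) := by
      refine mem_centralizer_iff.2 fun z hz => ?_
      obtain ⟨⟨v, hv⟩, hvt, rfl⟩ := hz
      rcases Single.eq_or_of_mem_zpowers s ht (mem_subgroupOf.1 hvt) with e1 | e1
      · subst e1
        rw [show (⟨1, hv⟩ : ↥(centralizer ({x} : Set G))) = 1 from rfl, map_one, one_mul, mul_one]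
      · subst e1
        rw [← hce]
        have h1 : Commute (k : Cq x) c := mem_centralizer_iff.1 hc.2 k k.2
        exact (h1.mul_right (congrArg Subtype.val hk.eq :)).symm.eq
    obtain ⟨⟨c', hc'x⟩, hc't, hkc⟩ := map_centralizer_le s hx hx1 (zpowers_le.2 ht) hkt
    have hct : Commute c' t := (mem_centralizer_iff.1 (mem_subgroupOf.1 hc't) t (mem_zpowers t)).symm
    set w := y * c' * y⁻¹ * c'⁻¹ with hw
    have hwW : w ∈ coreCent t := by
      rw [hw, show y * c' * y⁻¹ * c'⁻¹ = y * (c' * y⁻¹ * c'⁻¹) by group]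
      exact mul_mem hy (conj_mem_coreCent hct (inv_mem hy))
    have hwval : proj x ⟨w, hCx w hwW⟩ = yb * k * yb⁻¹ * (k : Cq x)⁻¹ := by
      rw [← hkc, hyb, ← map_inv, ← map_inv, ← map_mul, ← map_mul, ← map_mul]
      rfl
    have hwK : proj x ⟨w, hCx w hwW⟩ ∈ K := by
      rw [hwval]
      exact K.mul_mem (hK.normal.conj_mem _ k.2 _) (K.inv_mem k.2)
    have hwE : (⟨_, hwK⟩ : ↥K) ∈ E := hK.four.centE _ fun v hv => Subtype.ext
      (himA w hwW _ (mem_subgroupOf.1 hv).1).eq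
    have hw2 := hloc.sq (mem_subgroupOf.1 hwE).1
    have hw1 : proj x ⟨w, hCx w hwW⟩ = 1 := CoreConsumers.PSLInvol.eq_one_of_sq (hoddw w hwW) hw2
    rw [hwval, mul_inv_eq_one] at hw1
    rw [hφ, MulAut.conjNormal_apply, hw1]
  have hyC : yb ∈ centralizer (K : Set (Cq x)) := mem_centralizer_iff.2 fun k hk => by
    have h1 := congrArg Subtype.val (DFunLike.congr_fun hφ1 ⟨k, hk⟩)
    rw [hφ, MulAut.conjNormal_apply] at h1
    exact (mul_inv_eq_iff_eq_mul.1 h1).symm
  have hy2 : yb * yb = 1 := by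
    have h1 := Subgroup.orderOf_dvd_natCard _ hyC
    rw [hK.card_cent] at h1
    rw [← pow_two]
    exact orderOf_dvd_iff_pow_eq_one.1 h1
  have hy1 : yb = 1 := CoreConsumers.PSLInvol.eq_one_of_sq (hoddw y hy) hy2
  exact ⟨⟨y, hCx y hy⟩, (QuotientGroup.eq_one_iff _).1 hy1, rfl⟩

/-- One more involution centralising a core: all cores of centralisers of involutions are trivial. -/
theorem coreCent_eq_bot_of_fixed {t₀ u₀ : G} (ht₀ : t₀ ∈ s.A) (ht₀1 : t₀ ≠ 1) (hu₀ : u₀ ∈ s.A)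
    (hu₀1 : u₀ ≠ 1) (hne : u₀ ≠ t₀) (hc : ∀ w ∈ coreCent t₀, Commute u₀ w) {t : G} (ht : t ∈ s.A)
    (ht1 : t ≠ 1) : coreCent t = ⊥ := by
  haveI := s.simple
  by_contra hW
  set W := coreCent t
  have heq : ∀ x ∈ s.A, x ≠ 1 → coreCent x = W := by
    intro x hx hx1
    have hle := h.coreCent_le ht hx hx1 ht1 (h.sylow_centralizes ht₀ ht₀1 hu₀ hu₀1 hne hc ht ht1)
    obtain ⟨n, hn, rfl⟩ := h.eight.trans t ht x hx ht1 hx1
    refine (eq_of_le_of_card_ge hle ?_).symm
    rw [coreCent_smul, Grp.card_conj_smul]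
  have hNtop := h.normalizer_ne_top hW (h.odd_ne_top (odd_card_oddOf _))
  refine h.nse (S1174.result s.S s.A s.ne_bot s.closed fun htop => hNtop (top_le_iff.1 (htop ▸ iSup_le ?_)))
  rintro ⟨x, hx, hx2⟩
  have hx1 : x ≠ 1 := fun e => by rw [e, orderOf_one] at hx2; omega
  intro c hc
  show c ∈ normalizer (W : Set G)
  rw [← heq x hx hx1]
  exact le_normalizer_oddOf _ hc

/-- With trivial core the centraliser of `t` is `⟨t⟩ × E`, `PSL(2, q)` normal in `E`, and maximal. -/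
theorem centralizer_shape {t : G} (ht : t ∈ s.A) (ht1 : t ≠ 1) (hcore : coreCent t = ⊥) :
    IsCoatom (centralizer ({t} : Set G)) ∧
      ∃ E : Subgroup G, Cfsg.IsInternalDirectProduct (zpowers t) E (centralizer ({t} : Set G)) ∧
        ∃ (F : Type) (_ : Field F) (_ : Fintype F), Odd (Fintype.card F) ∧ 3 < Fintype.card F ∧
          ∃ N : Subgroup ↥E, N.Normal ∧ Nonempty (↥N ≃* Matrix.ProjectiveSpecialLinearGroup (Fin 2) F) ∧
            centralizer (N : Set ↥E) = ⊥ := by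
  classical
  haveI := s.simple
  haveI : Fact (Nat.Prime 2) := ⟨Nat.prime_two⟩
  set C := centralizer ({t} : Set G) with hC
  have htC : t ∈ C := mem_centralizer_singleton_iff.2 rfl
  have hAC : s.A ≤ C := s.le_centralizer ht
  have hinj : Function.Injective (proj t) := by
    rw [← MonoidHom.ker_eq_bot_iff, QuotientGroup.ker_mk']
    exact (map_eq_bot_iff_of_injective _ C.subtype_injective).1 hcore
  obtain ⟨K, hK⟩ := h.exists_comp ht ht1
  haveI := hK.normal
  haveI := hK.simple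
  set K₀ := K.comap (proj t) with hK₀
  haveI hK₀n : K₀.Normal := hK.normal.comap _
  let f : ↥K₀ ≃* ↥K := MulEquiv.ofBijective ((proj t).subgroupComap K) ⟨fun a b e => Subtype.ext
    (hinj (congrArg Subtype.val e)), fun k => by
      obtain ⟨c, hc⟩ := QuotientGroup.mk'_surjective _ (k : Cq t)
      exact ⟨⟨c, mem_comap.2 (hc ▸ k.2)⟩, Subtype.ext hc⟩⟩
  -- the centraliser of the component
  have hcent : ∀ c : ↥C, (∀ k ∈ K₀, Commute c k) → c = 1 ∨ (c : G) = t := by
    intro c hc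
    have h1 : proj t c ∈ centralizer (K : Set (Cq t)) := mem_centralizer_iff.2 fun k hk => by
      obtain ⟨d, rfl⟩ := QuotientGroup.mk'_surjective _ k
      exact ((hc d hk).map (proj t)).symm.eq
    have h2 : proj t ⟨t, htC⟩ ∈ centralizer (K : Set (Cq t)) :=
      (Fus.Gold.mem_dPart_iff s ht ht1 ht).1 (Fus.Gold.mem_dPart s ht ht1)
    by_cases hc1 : c = 1
    · exact Or.inl hc1
    refine Or.inr (congrArg Subtype.val (hinj ?_ : c = ⟨t, htC⟩))
    by_contra hne
    have h3 : ({1, proj t ⟨t, htC⟩, proj t c} : Finset (Cq t)).card = 3 := by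
      rw [Finset.card_insert_of_notMem, Finset.card_insert_of_notMem, Finset.card_singleton]
      · rw [Finset.mem_singleton]; exact fun e => hne e.symm
      · simp only [Finset.mem_insert, Finset.mem_singleton]
        rintro (e | e)
        · exact ht1 (congrArg Subtype.val (hinj ((map_one (proj t)).trans e))).symm
        · exact hc1 (hinj ((map_one (proj t)).trans e)).symm
    have h4 : ({1, proj t ⟨t, htC⟩, proj t c} : Finset (Cq t)).card ≤
        Nat.card ↥(centralizer (K : Set (Cq t))) := by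
      rw [show Nat.card ↥(centralizer (K : Set (Cq t))) = (centralizer (K : Set (Cq t)) : Set (Cq t)).ncard from
        Nat.card_coe_set_eq _, ← Set.ncard_coe_finset]
      refine Set.ncard_le_ncard ?_ (Set.toFinite _)
      simp only [Finset.coe_insert, Finset.coe_singleton, Set.insert_subset_iff, Set.singleton_subset_iff]
      exact ⟨one_mem _, h2, h1⟩
    rw [h3, hK.card_cent] at h4
    omega
  -- a subgroup of index two
  obtain ⟨P, hP⟩ := h.sylow_eight hAC
  have hPc : IsMulCommutative ↥(P : Subgroup ↥C) := ⟨⟨fun a b => Subtype.ext (Subtype.ext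
    (s.comm (mem_subgroupOf.1 (hP.le a.2)) (mem_subgroupOf.1 (hP.le b.2))))⟩⟩
  set R := Cfsg.pResidual 2 ↥C with hR
  haveI : R.Normal := Subgroup.normal_of_characteristic _
  have hRP : R ⊔ (P : Subgroup ↥C) = ⊤ := by
    rw [← index_eq_one]
    obtain ⟨k, hk⟩ := Transfer.exists_pResidual_index (G := ↥C) 2
    have h1 : (R ⊔ (P : Subgroup ↥C)).index ∣ 2 ^ k := hk ▸ index_dvd_of_le le_sup_left
    have h2 : ¬ 2 ∣ (R ⊔ (P : Subgroup ↥C)).index := fun hd =>
      P.not_dvd_index (hd.trans (index_dvd_of_le le_sup_right))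
    exact Nat.eq_one_of_dvd_coprimes ((Nat.prime_two.coprime_iff_not_dvd.2 h2).pow_left k) h1 dvd_rfl
  have hsq : ∀ x : ↥C, x * x ∈ R := by
    intro x
    have hx : x ∈ ((R ⊔ (P : Subgroup ↥C) : Subgroup ↥C) : Set ↥C) := by rw [hRP]; exact mem_top x
    rw [normal_mul] at hx
    obtain ⟨r, hr, p, hp, rfl⟩ := hx
    have hp2 : p * p = 1 := Subtype.ext (s.sq (mem_subgroupOf.1 (hP.le hp)))
    rw [show r * p * (r * p) = r * (p * r * p⁻¹) * (p * p) by group, hp2, mul_one]
    exact mul_mem hr (‹R.Normal›.conj_mem r hr p)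
  have htR : (⟨t, htC⟩ : ↥C) ∉ R := by
    intro htR
    have htP : (⟨t, htC⟩ : ↥C) ∈ (P : Subgroup ↥C) := hP.ge (mem_subgroupOf.2 ht)
    have htZ : (⟨t, htC⟩ : ↥C) ∈ center ↥C := mem_center_iff.2 fun c =>
      Subtype.ext (mem_centralizer_singleton_iff.1 c.2)
    have h1 := Transfer.hall_inf_commutator_inf_center (P : Subgroup ↥C) hPc (by
      obtain ⟨m, hm⟩ := IsPGroup.iff_card.1 P.isPGroup'
      rw [hm]
      exact ((Nat.Prime.coprime_iff_not_dvd Nat.prime_two).2 P.not_dvd_index).pow_left m)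
    have h2 : (⟨t, htC⟩ : ↥C) ∈ (P : Subgroup ↥C) ⊓ commutator ↥C ⊓ center ↥C :=
      ⟨⟨htP, Transfer.sylow_inf_pResidual_le_commutator P ⟨htP, htR⟩⟩, htZ⟩
    rw [h1, mem_bot] at h2
    exact ht1 (congrArg Subtype.val h2)
  obtain ⟨E₁, ⟨hRE, htE⟩, hmax⟩ := Set.exists_max_image {E : Subgroup ↥C | R ≤ E ∧ (⟨t, htC⟩ : ↥C) ∉ E}
    (fun E => Nat.card E) (Set.toFinite _) ⟨R, le_rfl, htR⟩
  have hnormE : E₁.Normal := ⟨fun e he x => by
    rw [show x * e * x⁻¹ = x * e * (x * e) * (e⁻¹ * (x * x)⁻¹ * e⁻¹⁻¹) * e⁻¹ by group]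
    exact mul_mem (mul_mem (hRE (hsq _)) (hRE (‹R.Normal›.conj_mem _ (inv_mem (hsq x)) _))) (inv_mem he)⟩
  haveI := hnormE
  have hdec : ∀ x : ↥C, x ∈ E₁ ∨ (⟨t, htC⟩ : ↥C)⁻¹ * x ∈ E₁ := by
    intro x
    refine or_iff_not_imp_left.2 fun hx => ?_
    have hlt : (⟨t, htC⟩ : ↥C) ∈ E₁ ⊔ zpowers x := by
      by_contra hn
      exact hx (eq_of_le_of_card_ge (le_sup_left : E₁ ≤ E₁ ⊔ zpowers x)
        (hmax _ ⟨hRE.trans le_sup_left, hn⟩) ▸ mem_sup_right (mem_zpowers x))
    rw [← SetLike.mem_coe, normal_mul] at hlt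
    obtain ⟨e, he, z, ⟨i, rfl⟩, hez⟩ := hlt
    rcases Int.even_or_odd i with ⟨j, rfl⟩ | ⟨j, rfl⟩
    · exfalso
      refine htE (hez ▸ mul_mem he ?_)
      show x ^ (j + j) ∈ E₁
      rw [zpow_add, ← (Commute.refl x).mul_zpow]
      exact zpow_mem (hRE (hsq x)) j
    · have hj : (x * x) ^ j ∈ E₁ := zpow_mem (hRE (hsq x)) j
      have he' : x ^ (2 * j + 1) = (x * x) ^ j * x := by
        rw [zpow_add, zpow_one, zpow_mul, zpow_ofNat, pow_two]
      have htx : (⟨t, htC⟩ : ↥C) = e * (x * x) ^ j * x := by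
        rw [mul_assoc, ← he']; exact hez.symm
      rw [htx, mul_inv_rev]
      simpa [mul_assoc] using hnormE.conj_mem _ (inv_mem (mul_mem he hj)) x⁻¹
  -- the component lies in it
  have hK₀E : K₀ ≤ E₁ := by
    have hperf : ⁅K₀, K₀⁆ = K₀ := by
      haveI : IsSimpleGroup ↥K₀ := f.isSimpleGroup
      have hne : ¬ IsMulCommutative ↥K₀ := fun hc =>
        hK.nonab ⟨⟨fun a b => f.symm.injective (by rw [map_mul, map_mul]; exact hc.is_comm.comm _ _)⟩⟩
      have htop : commutator ↥K₀ = ⊤ := ((inferInstance : (commutator ↥K₀).Normal).eq_bot_or_eq_top).resolve_left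
        fun e => hne ⟨⟨fun a b => commutatorElement_eq_one_iff_mul_comm.1 (by
          have := commutator_mem_commutator (mem_top a) (mem_top b)
          rwa [← _root_.commutator_def, e, mem_bot] at this)⟩⟩
      calc ⁅K₀, K₀⁆ = (commutator ↥K₀).map K₀.subtype := (Subgroup.map_subtype_commutator K₀).symm
        _ = K₀ := by rw [htop, ← MonoidHom.range_eq_map, range_subtype]
    rw [← hperf, commutator_le]
    intro a _ b _
    rw [commutatorElement_def, show a * b * a⁻¹ * b⁻¹ = a * b * (a * b) * (b⁻¹ * (a * a)⁻¹ * b⁻¹⁻¹) * (b * b)⁻¹ by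
      group]
    exact hRE (mul_mem (mul_mem (hsq _) (‹R.Normal›.conj_mem _ (inv_mem (hsq a)) _)) (inv_mem (hsq b)))
  set E := E₁.map C.subtype with hE
  set E₀ := K₀.map C.subtype with hE₀
  have hEC : E ≤ C := map_subtype_le _
  have hE₀E : E₀ ≤ E := map_mono hK₀E
  have hE₀n : (E₀.subgroupOf E).Normal := by
    refine normal_subgroupOf_of_le_normalizer (hEC.trans fun c hc => mem_normalizer_fintype ?_)
    rintro _ ⟨k, hk, rfl⟩
    exact ⟨_, hK₀n.conj_mem k hk ⟨c, hc⟩, rfl⟩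
  have htE' : t ∉ E := fun ⟨e, he, het⟩ => htE ((show e = ⟨t, htC⟩ from Subtype.ext het) ▸ he)
  have hprod : Cfsg.IsInternalDirectProduct (zpowers t) E C := by
    refine ⟨zpowers_le.2 htC, hEC, fun a ha b hb => ?_, ?_, le_antisymm (sup_le (zpowers_le.2 htC) hEC) fun c hc => ?_⟩
    · obtain ⟨i, rfl⟩ := mem_zpowers_iff.1 ha
      exact ((show Commute t b from (mem_centralizer_singleton_iff.1 (hEC hb)).symm).zpow_left i).eq
    · rw [eq_bot_iff]
      rintro z ⟨hz1, hz2⟩
      rcases Single.eq_or_of_mem_zpowers s ht hz1 with rfl | rfl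
      · exact one_mem _
      · exact absurd hz2 htE'
    · rcases hdec ⟨c, hc⟩ with h1 | h1
      · exact mem_sup_right ⟨_, h1, rfl⟩
      · rw [show c = t * (t⁻¹ * c) by group]
        exact mul_mem (mem_sup_left (mem_zpowers t)) (mem_sup_right ⟨_, h1, rfl⟩)
  have hCE : E ⊓ centralizer (E₀ : Set G) = ⊥ := by
    rw [eq_bot_iff]
    rintro _ ⟨⟨c, hcE, rfl⟩, hc2⟩
    rcases hcent c (fun k hk => Subtype.ext (mem_centralizer_iff.1 hc2 k ⟨k, hk, rfl⟩).symm) with e | e
    · exact mem_bot.2 (congrArg Subtype.val e)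
    · exact absurd (show t ∈ E from ⟨c, hcE, e⟩) htE'
  obtain ⟨F, i1, i2, hFo, h5, ⟨e⟩⟩ := hK.iso
  let e' : ↥E₀ ≃* Matrix.ProjectiveSpecialLinearGroup (Fin 2) F :=
    (K₀.equivMapOfInjective C.subtype C.subtype_injective).symm.trans (f.trans e)
  refine ⟨CoreConsumers.s1245_of s.nonab s.S h.comm_sylow t (s.orderOf_eq ht ht1) E E₀ hprod hE₀E hE₀n
    ⟨F, i1, i2, hFo, ⟨e'⟩⟩ hCE fun M hM => absurd ⟨M, hM⟩ h.nse, E, hprod, F, i1, i2, hFo, by omega,
    E₀.subgroupOf E, hE₀n, ⟨(subgroupOfEquivOfLe hE₀E).trans e'⟩, ?_⟩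
  rw [eq_bot_iff]
  intro c hc
  have h1 : (c : G) ∈ E ⊓ centralizer (E₀ : Set G) := ⟨c.2, mem_centralizer_iff.2 fun k hk =>
    congrArg Subtype.val (mem_centralizer_iff.1 hc ⟨k, hE₀E hk⟩ hk)⟩
  rw [hCE, mem_bot] at h1
  exact mem_bot.2 (Subtype.ext h1)

/-- With trivial cores the configuration is tame. -/
theorem tame_of_core (hcore : ∀ t ∈ s.A, t ≠ 1 → coreCent t = ⊥) : Tame G := by
  intro v hv R hR hn
  haveI : Fact (Nat.Prime 2) := ⟨Nat.prime_two⟩
  obtain ⟨g, hg⟩ := Invol.exists_conj_mem_sylow (n := 1) (x := v) (by rw [hv, pow_one]) s.S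
  set t := g * v * g⁻¹ with ht
  have htA : t ∈ s.A := h.mem_sylow.1 hg
  have ht1 : t ≠ 1 := fun e => by rw [conj_eq_one_iff.1 e, orderOf_one] at hv; omega
  set R' := MulAut.conj g • R with hR'
  have hCR : centralizer ({t} : Set G) ≤ normalizer (R' : Set G) := by
    intro c hc
    have h1 : g⁻¹ * c * g ∈ centralizer ({v} : Set G) := mem_centralizer_singleton_iff.2 (by
      calc g⁻¹ * c * g * v = g⁻¹ * (c * t) * g := by rw [ht]; group
        _ = g⁻¹ * (t * c) * g := by rw [mem_centralizer_singleton_iff.1 hc]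
        _ = v * (g⁻¹ * c * g) := by rw [ht]; group)
    refine mem_normalizer_fintype fun x hx => ?_
    rw [SetLike.mem_coe, hR', Grp.mem_smul_conj] at hx ⊢
    have h2 := (mem_normalizer_iff.1 (hn h1) _).1 hx
    rwa [show g⁻¹ * c * g * (g⁻¹ * x * g) * (g⁻¹ * c * g)⁻¹ = g⁻¹ * (c * x * c⁻¹) * g by group] at h2
  have hR'odd : Odd (Nat.card ↥R') := by rw [hR', Grp.card_conj_smul]; exact hR
  have hbot : R' = ⊥ := by
    by_contra hne
    have hN := h.normalizer_ne_top hne (h.odd_ne_top hR'odd)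
    have heq := ((h.centralizer_shape htA ht1 (hcore t htA ht1)).1.le_iff.1 hCR).resolve_left hN
    exact hne (le_bot_iff.1 ((le_oddOf (heq ▸ le_normalizer) hCR hR'odd).trans (hcore t htA ht1).le))
  refine le_bot_iff.1 fun x hx => ?_
  have h1 : g * x * g⁻¹ ∈ R' := mem_conj.2 hx
  rw [hbot, mem_bot] at h1
  exact mem_bot.2 (conj_eq_one_iff.1 h1)

end Cfg

end Cfsg.Agent.Invol.AbelTwo
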