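import Cfsg.Agent.Lib.Invol.AbelTwo.Trichotomy
import Cfsg.Agent.S1644
import Cfsg.Agent.S2119

/-!
# The centraliser shape at `q = 5` is Janko's group
-/

set_option autoImplicit false
set_option linter.unusedSectionVars false
set_option linter.style.haveILetI false

namespace Cfsg.Agent.Invol.AbelTwo

open Subgroup

universe u

variable {G : Type u} [Group G] [Finite G]

/-- The orders in an internal direct product `⟨t⟩ × E` with `t` an involution. -/
theorem card_prod {t : G} (ht : orderOf t = 2) {E C : Subgroup G}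
    (h : Cfsg.IsInternalDirectProduct (zpowers t) E C) : Nat.card ↥C = 2 * Nat.card ↥E := by
  have hn : E ≤ normalizer (zpowers t : Set G) := fun e he => centralizer_le_normalizer _
    (mem_centralizer_iff.2 fun d hd => h.2.2.1 d hd e he)
  have h1 := Grp.card_sup_mul_card_inf (H := E) (N := zpowers t) hn
  rw [inf_comm, h.2.2.2.1, card_bot, mul_one, sup_comm, h.2.2.2.2, Nat.card_zpowers, ht] at h1
  rw [h1, mul_comm]

/-- `⟨t⟩ × E ≅ C₂ × E`. -/
theorem prod_equiv {t : G} (ht : orderOf t = 2) {E C : Subgroup G}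
    (h : Cfsg.IsInternalDirectProduct (zpowers t) E C) : Nonempty (↥C ≃* Multiplicative (ZMod 2) × ↥E) := by
  haveI : Fact (Nat.Prime 2) := ⟨Nat.prime_two⟩
  have hz : Nat.card ↥(zpowers t) = 2 := by rw [Nat.card_zpowers, ht]
  let e1 : Multiplicative (ZMod 2) ≃* ↥(zpowers t) :=
    mulEquivOfPrimeCardEq (p := 2) (by rw [Nat.card_congr Multiplicative.toAdd, Nat.card_zmod]) hz
  let φ : ↥(zpowers t) × ↥E →* ↥C :=
    { toFun := fun p => ⟨(p.1 : G) * p.2, mul_mem (h.1 p.1.2) (h.2.1 p.2.2)⟩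
      map_one' := Subtype.ext (by simp)
      map_mul' := fun p q => Subtype.ext (by
        have hc := h.2.2.1 _ q.1.2 _ p.2.2
        simp only [Prod.fst_mul, Prod.snd_mul, Subgroup.coe_mul]
        rw [mul_assoc, ← mul_assoc (q.1 : G), hc, mul_assoc, mul_assoc]) }
  have hinj : Function.Injective φ := by
    rw [injective_iff_map_eq_one]
    intro p hp
    have hp' : (p.1 : G) * p.2 = 1 := congrArg Subtype.val hp
    have h2 : (p.1 : G) ∈ zpowers t ⊓ E := mem_inf.2 ⟨p.1.2, by
      rw [mul_eq_one_iff_eq_inv.1 hp']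
      exact E.inv_mem p.2.2⟩
    rw [h.2.2.2.1, mem_bot] at h2
    rw [h2, one_mul] at hp'
    exact Prod.ext (Subtype.ext h2) (Subtype.ext hp')
  let _ := Fintype.ofFinite (↥(zpowers t) × ↥E)
  let _ := Fintype.ofFinite ↥C
  have hcard : Nat.card (↥(zpowers t) × ↥E) = Nat.card ↥C := by
    rw [Nat.card_prod, card_prod ht h, hz]
  refine ⟨((MulEquiv.prodCongr e1 (MulEquiv.refl ↥E)).trans (MulEquiv.ofBijective φ ⟨hinj, ?_⟩)).symm⟩
  exact ((Nat.bijective_iff_injective_and_card φ).2 ⟨hinj, hcard⟩).2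

/-- `JR` kind at five: Janko's first group. -/
theorem isoJ1_of_five [IsSimpleGroup G] (S : Sylow 2 G) (hS : IsMulCommutative ↥(S : Subgroup G))
    (h8 : Nat.card ↥(S : Subgroup G) = 8) {t : G} (ht : orderOf t = 2) {E : Subgroup G}
    (hE : Cfsg.IsInternalDirectProduct (zpowers t) E (centralizer ({t} : Set G))) {F : Type} [Field F] [Fintype F]
    (hF : Fintype.card F = 5) (N : Subgroup ↥E) [N.Normal]
    (hN : Nonempty (↥N ≃* Matrix.ProjectiveSpecialLinearGroup (Fin 2) F))
    (hcN : centralizer (N : Set ↥E) = ⊥) : Cfsg.Spor.IsoJ1 G := by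
  classical
  haveI : Fact (Nat.Prime 2) := ⟨Nat.prime_two⟩
  haveI := Classical.PSL_isSimple (F := F) (n := 2) le_rfl fun _ => by omega
  obtain ⟨e⟩ := hN
  have h60 : Nat.card (Matrix.ProjectiveSpecialLinearGroup (Fin 2) F) = 60 := by
    have h := Invol.GW.card_PSLTwo (F := F) (by rw [hF]; decide)
    rw [hF] at h
    omega
  obtain ⟨e5⟩ := Fus.alternating_five_of_card (G := Matrix.ProjectiveSpecialLinearGroup (Fin 2) F) h60
  let f : ↥N ≃* ↥(alternatingGroup (Fin 5)) := e.trans e5
  let ψ : ↥E →* MulAut ↥(alternatingGroup (Fin 5)) := (MulAut.congr f).toMonoidHom.comp MulAut.conjNormal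
  have hψ : Function.Injective ψ := by
    rw [← MonoidHom.ker_eq_bot_iff, ← hcN]
    ext x
    rw [MonoidHom.mem_ker, mem_centralizer_iff]
    show (MulAut.congr f) (MulAut.conjNormal x) = 1 ↔ _
    rw [MulEquiv.map_eq_one_iff]
    constructor
    · intro hx n hn
      have h1 : x * n * x⁻¹ = n := by
        have h2 := congrArg (fun φ : MulAut ↥N => ((φ ⟨n, hn⟩ : ↥N) : ↥E)) hx
        simp only [MulAut.conjNormal_apply, MulAut.one_apply] at h2
        exact h2
      exact (mul_inv_eq_iff_eq_mul.1 h1).symm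
    · intro hx
      refine MulEquiv.ext fun n => Subtype.ext ?_
      rw [MulAut.conjNormal_apply, MulAut.one_apply, ← hx n n.2, mul_inv_cancel_right]
  have hE120 : Nat.card ↥E ∣ 120 := by
    have hS5 : Nat.card (MulAut ↥(alternatingGroup (Fin 5))) = 120 := by
      rw [← Nat.card_eq_of_bijective _ (S2119.result 5 (by norm_num) (by norm_num)), Nat.card_perm, Nat.card_fin]
      rfl
    exact hS5 ▸ card_dvd_of_injective ψ hψ
  have hN60 : Nat.card ↥N = 60 := by rw [Nat.card_congr e.toEquiv, h60]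
  have h60E : 60 ∣ Nat.card ↥E := hN60 ▸ card_subgroup_dvd_card N
  have hnot : Nat.card ↥E ≠ 120 := fun h120 => by
    have h16 : 2 ^ 4 ∣ Nat.card G := (show 2 ^ 4 ∣ 2 * 120 by norm_num).trans
      (h120 ▸ card_prod ht hE ▸ card_subgroup_dvd_card _)
    have h3 : 2 ^ 4 ≤ 8 := by
      refine le_trans ?_ h8.le
      rw [Sylow.card_eq_multiplicity]
      exact Nat.pow_le_pow_right two_pos ((Nat.prime_two.pow_dvd_iff_le_factorization Nat.card_pos.ne').1 h16)
    omega
  have hE60 : Nat.card ↥E = 60 := by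
    obtain ⟨k, hk⟩ := h60E
    have hle := Nat.le_of_dvd (by norm_num) hE120
    have h0 : 0 < Nat.card ↥E := Nat.card_pos
    omega
  have htop : N = ⊤ := eq_top_of_card_eq _ (hN60.trans hE60.symm)
  obtain ⟨eC⟩ := prod_equiv ht hE
  let eE : ↥E ≃* ↥(alternatingGroup (Fin 5)) :=
    ((Subgroup.topEquiv (G := ↥E)).symm.trans (MulEquiv.subgroupCongr htop.symm)).trans f
  exact S1644.result S hS h8 t ht (eC.trans (MulEquiv.prodCongr (MulEquiv.refl _) eE))

end Cfsg.Agent.Invol.AbelTwo
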