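import Cfsg.Agent.Lib.Invol.AbelTwo.Shape

/-!
# No components over `O_r(M)`

A proper subgroup over `S` and `O_r(M)` has trivial layer: a component meets `S` in a four-group or in `S`, and
either makes an involution of `S` other than `t` centralise `O_r(M)`.
-/

set_option autoImplicit false
set_option linter.unusedSectionVars false
set_option linter.style.haveILetI false

namespace Cfsg.Agent.Invol.AbelTwo

open Subgroup Fus.Gold GW.Klein GW.ThreeClass
open scoped Pointwise commutatorElement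

universe u

variable {G : Type u} [Group G] [Finite G] {s : Setup G}

/-- In a cyclic `p`-group one of two elements is a power of the other. -/
theorem mem_zpowers_or {p : ℕ} [Fact p.Prime] {I : Subgroup G} [IsCyclic ↥I] (hI : IsPGroup p I) {c d : G}
    (hc : c ∈ I) (hd : d ∈ I) : c ∈ zpowers d ∨ d ∈ zpowers c := by
  have key : ∀ c d : G, c ∈ I → d ∈ I → ∀ i j : ℕ, orderOf c = p ^ i → orderOf d = p ^ j → i ≤ j →
      c ∈ zpowers d := by
    intro c d hc hd i j hi hj hij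
    set D := zpowers d ⊔ zpowers c
    have hDI : D ≤ I := sup_le (zpowers_le.2 hd) (zpowers_le.2 hc)
    haveI : IsCyclic ↥D := isCyclic_of_injective (inclusion hDI) (inclusion_injective hDI)
    have hexp : ∀ x : ↥D, x ^ p ^ j = 1 := by
      let K : Subgroup ↥I :=
        { carrier := {x | x ^ p ^ j = 1}
          one_mem' := one_pow _
          mul_mem' := fun {a b} ha hb => by
            show (a * b) ^ p ^ j = 1
            rw [Commute.mul_pow (show Commute a b from IsMulCommutative.is_comm.comm a b), show a ^ p ^ j = 1 from ha,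
              show b ^ p ^ j = 1 from hb, mul_one]
          inv_mem' := fun {a} ha => by show (a⁻¹) ^ p ^ j = 1; rw [inv_pow, show a ^ p ^ j = 1 from ha, inv_one] }
      have hle : D ≤ K.map I.subtype := sup_le
        (zpowers_le.2 ⟨⟨d, hd⟩, Subtype.ext (orderOf_dvd_iff_pow_eq_one.1 (dvd_of_eq hj)), rfl⟩)
        (zpowers_le.2 ⟨⟨c, hc⟩, Subtype.ext (orderOf_dvd_iff_pow_eq_one.1
          ((dvd_of_eq hi).trans (pow_dvd_pow p hij))), rfl⟩)
      intro x
      obtain ⟨y, hy, hyx⟩ := hle x.2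
      refine Subtype.ext ?_
      rw [SubgroupClass.coe_pow, ← hyx]
      exact congrArg Subtype.val hy
    have hcard : Nat.card ↥D ≤ Nat.card ↥(zpowers d) := by
      rw [Nat.card_zpowers, hj, ← IsCyclic.exponent_eq_card]
      exact Nat.le_of_dvd (pow_pos (Fact.out : p.Prime).pos j) (Monoid.exponent_dvd_of_forall_pow_eq_one hexp)
    exact (eq_of_le_of_card_ge le_sup_left hcard).ge (mem_sup_right (mem_zpowers c))
  obtain ⟨i, hi⟩ := IsPGroup.iff_orderOf.1 hI ⟨c, hc⟩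
  obtain ⟨j, hj⟩ := IsPGroup.iff_orderOf.1 hI ⟨d, hd⟩
  rw [Subgroup.orderOf_mk] at hi hj
  exact (le_total i j).imp (key c d hc hd i j hi hj) (key d c hd hc j i hj hi)

/-- A component `L` of a proper subgroup, normalised by `O_r(M)` and by `S`. -/
structure LComp (s : Setup G) (t : G) (M : Subgroup G) (r : ℕ) (L : Subgroup G) : Prop where
  ov : Over s t M
  good : Good s t M r
  qs : Cfsg.IsQuasisimple ↥L
  lt : Nat.card ↥L < Nat.card G
  sylow : ∃ P : Sylow 2 ↥L, (P : Subgroup ↥L) = s.A.subgroupOf L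
  normA : s.A ≤ normalizer (L : Set G)
  normP : Cfsg.pCoreOf r M ≤ normalizer (L : Set G)

namespace LComp

variable {t : G} {M L : Subgroup G} {r : ℕ} (c : LComp s t M r L)
include c

theorem normalize_core : s.A ≤ normalizer ((Cfsg.pCoreOf r M ⊓ L : Subgroup G) : Set G) :=
  Grp.le_normalizer_inf' (c.ov.sylow_le.trans (lg_le_normalizer_pCoreOf M)) c.normA

/-- What an element of `S ∩ L` inverts in `O_r(M)` lies in `L`. -/
theorem inverted_mem {v x : G} (hv : v ∈ L) (hx : x ∈ Cfsg.pCoreOf r M)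
    (hinv : v * x * v⁻¹ = x⁻¹) : x ∈ L := by
  obtain ⟨k, hk⟩ := exists_sqrt (GW.ThreeClass.odd_orderOf (c.ov.good_odd c.good) hx)
  have h1 : x * x ∈ L := by
    have h2 := L.mul_mem ((mem_normalizer_iff.1 (c.normP hx) v).1 hv) (L.inv_mem hv)
    rwa [show x * v * x⁻¹ * v⁻¹ = x * (v * x * v⁻¹)⁻¹ by group, hinv, inv_inv] at h2
  rw [← hk, ← (Commute.refl x).mul_pow]
  exact L.pow_mem h1 k

theorem center_inf : ∀ z : ↥L, z ∈ center ↥L → z * z = 1 → z = 1 := by
  intro z hz hz2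
  haveI : Fact (Nat.Prime 2) := ⟨Nat.prime_two⟩
  obtain ⟨P, hP⟩ := c.sylow
  have hPc : IsMulCommutative ↥(P : Subgroup ↥L) := ⟨⟨fun a b => Subtype.ext (Subtype.ext
    (s.comm (mem_subgroupOf.1 (hP.le a.2)) (mem_subgroupOf.1 (hP.le b.2))))⟩⟩
  have hn : (zpowers z).Normal := ⟨fun x hx g => by
    rwa [mem_center_iff.1 ((zpowers_le.2 hz) hx) g, mul_inv_cancel_right]⟩
  have hp : IsPGroup 2 ↥(zpowers z) := fun x => ⟨1, by
    obtain ⟨i, hi⟩ := mem_zpowers_iff.1 x.2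
    refine Subtype.ext ?_
    rw [pow_one, SubgroupClass.coe_pow, ← hi, ← zpow_natCast, ← zpow_mul, mul_comm, zpow_mul, zpow_natCast,
      pow_two, hz2, one_zpow]
    rfl⟩
  have hzP : z ∈ (P : Subgroup ↥L) := Grp.pCore_le_sylow P (Grp.le_pCore hn hp (mem_zpowers z))
  have h1 := Transfer.hall_inf_commutator_inf_center (P : Subgroup ↥L) hPc (by
    obtain ⟨m, hm⟩ := IsPGroup.iff_card.1 P.isPGroup'
    rw [hm]
    exact ((Nat.Prime.coprime_iff_not_dvd Nat.prime_two).2 P.not_dvd_index).pow_left m)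
  rw [c.qs.1.commutator_eq_top, inf_top_eq] at h1
  exact mem_bot.1 (h1 ▸ (⟨hzP, hz⟩ : z ∈ (P : Subgroup ↥L) ⊓ center ↥L))

theorem four_le : 4 ≤ Nat.card ↥(s.A ⊓ L) := by
  haveI := Grp.IsQuasisimple.nontrivial c.qs
  obtain ⟨P, hP⟩ := c.sylow
  have h := four_le_sylow c.qs.1.commutator_eq_top P ⟨⟨fun a b => Subtype.ext (Subtype.ext
    (s.comm (mem_subgroupOf.1 (hP.le a.2)) (mem_subgroupOf.1 (hP.le b.2))))⟩⟩
  rwa [hP, ← inf_subgroupOf_right, Nat.card_congr (subgroupOfEquivOfLe (inf_le_right : s.A ⊓ L ≤ L)).toEquiv] at h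

theorem quotient_facts : ¬ IsMulCommutative (↥L ⧸ center ↥L) := by
  intro hc
  refine Grp.IsQuasisimple.center_ne_top c.qs (eq_top_iff.2 ?_)
  rw [← c.qs.1.commutator_eq_top, _root_.commutator_def, commutator_le]
  intro x _ y _
  refine (QuotientGroup.eq_one_iff _).1 (show QuotientGroup.mk' (center ↥L) ⁅x, y⁆ = 1 from ?_)
  rw [map_commutatorElement, commutatorElement_eq_one_iff_mul_comm]
  exact hc.is_comm.comm _ _

/-- The image of a Sylow subgroup modulo the centre. -/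
theorem image_sylow : ∃ P : Sylow 2 (↥L ⧸ center ↥L),
    (P : Subgroup (↥L ⧸ center ↥L)) = ((s.A ⊓ L).subgroupOf L).map (QuotientGroup.mk' (center ↥L)) ∧
    Nat.card ↥(P : Subgroup (↥L ⧸ center ↥L)) = Nat.card ↥(s.A ⊓ L) ∧
    ∀ y ∈ (P : Subgroup (↥L ⧸ center ↥L)), y * y = 1 := by
  haveI : Fact (Nat.Prime 2) := ⟨Nat.prime_two⟩
  obtain ⟨P, hP⟩ := c.sylow
  refine ⟨P.mapSurjective (QuotientGroup.mk'_surjective _), by rw [Sylow.coe_mapSurjective, hP, inf_subgroupOf_right],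
    ?_, ?_⟩
  · rw [Sylow.coe_mapSurjective, hP, ← inf_subgroupOf_right,
      ← Nat.card_congr (subgroupOfEquivOfLe (inf_le_right : s.A ⊓ L ≤ L)).toEquiv]
    refine (Nat.card_congr (Equiv.ofBijective
      (fun k : ↥((s.A ⊓ L).subgroupOf L) => (⟨_, mem_map_of_mem (QuotientGroup.mk' (center ↥L)) k.2⟩ :
        ↥(((s.A ⊓ L).subgroupOf L).map (QuotientGroup.mk' (center ↥L)))))
      ⟨fun a b e => Subtype.ext ?_, fun y => ?_⟩)).symm
    · have h1 := (QuotientGroup.eq).1 (congrArg Subtype.val e :)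
      refine inv_mul_eq_one.1 (c.center_inf _ h1 (Subtype.ext ?_))
      exact s.sq (s.A.mul_mem (s.A.inv_mem (mem_subgroupOf.1 a.2).1) (mem_subgroupOf.1 b.2).1)
    · obtain ⟨k, hk, e⟩ := y.2
      exact ⟨⟨k, hk⟩, Subtype.ext e⟩
  · rw [Sylow.coe_mapSurjective]
    rintro _ ⟨k, hk, rfl⟩
    rw [← map_mul, show k * k = 1 from Subtype.ext (s.sq (mem_subgroupOf.1 (hP.le hk))), map_one]

/-- No component meets `S` in a four-group. -/
theorem not_four (h4 : Nat.card ↥(s.A ⊓ L) = 4) : False := by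
  haveI := Fact.mk c.good.1
  set π := QuotientGroup.mk' (center ↥L)
  haveI := c.qs.2
  obtain ⟨P, hP, hPcard, hPsq⟩ := c.image_sylow
  have hklein : IsKleinFour ↥(P : Subgroup (↥L ⧸ center ↥L)) := by
    refine ⟨hPcard.trans h4, Nat.dvd_antisymm (Monoid.exponent_dvd_of_forall_pow_eq_one fun y =>
      Subtype.ext (by rw [SubgroupClass.coe_pow, pow_two]; exact hPsq y y.2)) ?_⟩
    haveI : Fact (Nat.Prime 2) := ⟨Nat.prime_two⟩
    obtain ⟨y, hy⟩ := exists_prime_orderOf_dvd_card' (G := ↥(P : Subgroup (↥L ⧸ center ↥L))) 2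
      (by rw [hPcard, h4]; norm_num)
    have h3 := Monoid.order_dvd_exponent y
    rwa [hy] at h3
  set Pr := Cfsg.pCoreOf r M
  set R := Pr ⊓ L
  have hPr : IsPGroup r ↥Pr := lg_isPGroup_pCoreOf M
  have hPodd := c.ov.good_odd c.good
  set Rb := (R.subgroupOf L).map π
  haveI hcyc : IsCyclic ↥Rb := by
    refine (fourSimple c.quotient_facts P hklein).cyclic Rb r ?_ ?_ ?_
    · exact ((hPr.to_le inf_le_left).of_equiv (subgroupOfEquivOfLe (inf_le_right : R ≤ L)).symm).map π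
    · refine (hPodd.of_dvd_nat (card_dvd_of_le (inf_le_left : R ≤ Pr))).of_dvd_nat ?_
      rw [← Nat.card_congr (subgroupOfEquivOfLe (inf_le_right : R ≤ L)).toEquiv]
      exact card_map_dvd _ π
    · rw [hP]
      refine (map_mono fun x hx => ?_).trans (le_normalizer_map π)
      refine mem_normalizer_fintype fun y hy => mem_subgroupOf.2 ?_
      exact (mem_normalizer_iff.1 (c.normalize_core (mem_subgroupOf.1 hx).1) y).1 hy
  have hRcomm : ∀ x ∈ R, ∀ y ∈ R, Commute x y := by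
    intro x hx y hy
    let f : ↥(R.subgroupOf L) →* ↥Rb := π.subgroupMap (R.subgroupOf L)
    have h1 := (f.isMulCommutative_of_isCyclic_of_ker_le_center (fun z hz => mem_center_iff.2 fun w => Subtype.ext
      (mem_center_iff.1 ((QuotientGroup.eq_one_iff _).1 (congrArg Subtype.val (MonoidHom.mem_ker.1 hz))) w))).is_comm.comm
      ⟨⟨x, hx.2⟩, mem_subgroupOf.2 hx⟩ ⟨⟨y, hy.2⟩, mem_subgroupOf.2 hy⟩
    exact congrArg (fun z : ↥(R.subgroupOf L) => ((z : ↥L) : G)) h1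
  -- one of the three involutions lies in `L`
  obtain ⟨a₀, g, T₀⟩ := c.ov.cfg.exists_turn c.ov.tA c.ov.t1
  obtain ⟨a, T, haL⟩ : ∃ a, Turn s.A t a g ∧ a ∈ L := by
    obtain ⟨v, hv, hvL⟩ : ∃ v, (v = a₀ ∨ v = g * a₀ * g⁻¹ ∨ v = a₀ * (g * a₀ * g⁻¹)) ∧ v ∈ L := by
      classical
      obtain ⟨u, hu, hu1, hut⟩ : ∃ u ∈ s.A ⊓ L, u ≠ 1 ∧ u ≠ t := by
        by_contra hno
        push Not at hno
        have hsub : ((s.A ⊓ L : Subgroup G) : Set G) ⊆ {1, t} := fun u hu => by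
          by_cases hu1 : u = 1
          · exact Or.inl hu1
          · exact Or.inr (hno u hu hu1)
        have h2 := (Set.ncard_le_ncard hsub (Set.toFinite _)).trans (Set.ncard_insert_le _ _)
        rw [Set.ncard_singleton, ← Nat.card_coe_set_eq] at h2
        exact absurd (h4.symm.le.trans h2) (by norm_num)
      by_contra hno
      push Not at hno
      have hnoU : ∀ w, (w = a₀ ∨ w = g * a₀ * g⁻¹ ∨ w = a₀ * (g * a₀ * g⁻¹)) → w ∈ L → False :=
        fun w hw hwL => hno w hw hwL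
      have hcases : ∀ w ∈ s.A ⊓ L, w ≠ 1 → ∃ v, (v = 1 ∨ v = a₀ ∨ v = g * a₀ * g⁻¹ ∨ v = a₀ * (g * a₀ * g⁻¹)) ∧
          w = t * v := by
        intro w hw hw1
        obtain ⟨v, hv, e | e⟩ := T₀.cases w hw.1
        · subst e
          rcases hv with rfl | hv
          · exact absurd rfl hw1
          · exact (hnoU w hv hw.2).elim
        · exact ⟨v, hv, e⟩
      -- three nontrivial elements give one
      have hsub : ((s.A ⊓ L : Subgroup G) : Set G) ⊆ {1, u} := fun w hw => by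
        by_cases hw1 : w = 1
        · exact Or.inl hw1
        refine Or.inr (by_contra fun hwu => ?_)
        obtain ⟨v, hv, rfl⟩ := hcases w hw hw1
        obtain ⟨v', hv', rfl⟩ := hcases u hu hu1
        have hvA : ∀ v, (v = 1 ∨ v = a₀ ∨ v = g * a₀ * g⁻¹ ∨ v = a₀ * (g * a₀ * g⁻¹)) → v ∈ s.A := by
          rintro v (rfl | rfl | rfl | rfl)
          exacts [one_mem _, T₀.aS, T₀.bS, T₀.abS]
        have hprod : v * v' ∈ L := by
          have h1 := L.mul_mem hw.2 hu.2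
          rwa [mul_assoc t, ← mul_assoc v t, ← s.comm T₀.tS (hvA v hv), mul_assoc t v, ← mul_assoc t t, s.sq T₀.tS,
            one_mul] at h1
        have hne : v ≠ v' := fun e => hwu (e ▸ rfl)
        set b₀ := g * a₀ * g⁻¹ with hb₀
        have hab : a₀ * b₀ = b₀ * a₀ := s.comm T₀.aS T₀.bS
        have haa := s.sq T₀.aS
        have hbb : b₀ * b₀ = 1 := s.sq T₀.bS
        refine hnoU (v * v') ?_ hprod
        rcases hv with rfl | rfl | rfl | rfl <;> rcases hv' with rfl | rfl | rfl | rfl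
        all_goals first
          | exact absurd rfl hne
          | (left; rfl)
          | (simp only [one_mul, mul_one]; tauto)
          | (right; right; first | rfl | exact hab.symm)
          | (left; rw [mul_assoc, hbb, mul_one])
          | (right; left; rw [← mul_assoc, haa, one_mul])
          | (left; rw [hab, ← mul_assoc, hbb, one_mul])
          | (right; left; rw [hab, mul_assoc, haa, mul_one])
      have h2 := (Set.ncard_le_ncard hsub (Set.toFinite _)).trans (Set.ncard_insert_le _ _)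
      rw [Set.ncard_singleton, ← Nat.card_coe_set_eq] at h2
      exact absurd (h4.symm.le.trans h2) (by norm_num)
    rcases hv with rfl | rfl | rfl
    · exact ⟨_, T₀, hvL⟩
    · exact ⟨_, T₀.next, hvL⟩
    · exact ⟨_, T₀.next.next, by rwa [T₀.gb]⟩
  -- what `a` inverts
  have hcl : ∀ x y : G, x ∈ R → y ∈ R → a * x * a⁻¹ = x⁻¹ → a * y * a⁻¹ = y⁻¹ →
      a * (x * y) * a⁻¹ = (x * y)⁻¹ := fun x y hx hy hx' hy' => by
    rw [show a * (x * y) * a⁻¹ = a * x * a⁻¹ * (a * y * a⁻¹) by group, hx', hy', (hRcomm x hx y hy).eq,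
      _root_.mul_inv_rev]
  let I : Subgroup G :=
    { carrier := {x | x ∈ R ∧ a * x * a⁻¹ = x⁻¹}
      one_mem' := ⟨one_mem _, by group⟩
      mul_mem' := fun {x y} hx hy => ⟨mul_mem hx.1 hy.1, hcl x y hx.1 hy.1 hx.2 hy.2⟩
      inv_mem' := fun {x} hx => ⟨inv_mem hx.1, by
        rw [show a * x⁻¹ * a⁻¹ = (a * x * a⁻¹)⁻¹ by group, hx.2]⟩ }
  have hIR : I ≤ R := fun x hx => hx.1
  have hIodd : Odd (Nat.card ↥I) := hPodd.of_dvd_nat (card_dvd_of_le (hIR.trans inf_le_left))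
  haveI : IsCyclic ↥I := by
    let f : ↥I →* ↥Rb :=
      (π.subgroupMap (R.subgroupOf L)).comp
        (((inclusion (hIR.trans inf_le_right : I ≤ L))).codRestrict (R.subgroupOf L) fun x => mem_subgroupOf.2 (hIR x.2))
    refine isCyclic_of_injective f ((injective_iff_map_eq_one f).2 fun x hx => ?_)
    have hz : (⟨(x : G), (hIR x.2).2⟩ : ↥L) ∈ center ↥L :=
      (QuotientGroup.eq_one_iff _).1 (congrArg Subtype.val hx :)
    have h1 := congrArg Subtype.val (mem_center_iff.1 hz ⟨a, haL⟩)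
    have h2 : (x : G) = (x : G)⁻¹ := by rw [← x.2.2]; exact (eq_mul_inv_iff_mul_eq.2 h1.symm)
    exact Subtype.ext (GW.Klein.eq_one_of_odd hIodd x.2 (mul_eq_one_iff_eq_inv.2 h2))
  have hIp : IsPGroup r ↥I := hPr.to_le (hIR.trans inf_le_left)
  set b := g * a * g⁻¹ with hb
  have hgP : ∀ x ∈ Pr, g * x * g⁻¹ ∈ Pr := fun x hx =>
    (mem_normalizer_iff.1 (lg_le_normalizer_pCoreOf M (c.ov.commute_mem T.gt)) x).1 hx
  have hmemI : ∀ x ∈ Pr, a * x * a⁻¹ = x⁻¹ → x ∈ I := fun x hx hax => ⟨⟨hx, c.inverted_mem haL hx hax⟩, hax⟩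
  have hshift : ∀ (v x : G) (y : G), v * x * v⁻¹ = y → (g * v * g⁻¹) * (g * x * g⁻¹) * (g * v * g⁻¹)⁻¹ = g * y * g⁻¹ :=
    fun v x y h => by rw [← h]; group
  have hab : a * b = b * a := s.comm T.aS T.bS
  -- a fixed and an inverted element cannot both be nontrivial
  have hnot : ∀ x ∈ I, ∀ y ∈ I, b * x * b⁻¹ = x → b * y * b⁻¹ = y⁻¹ → x = 1 ∨ y = 1 := by
    intro x hx y hy hbx hby
    rcases mem_zpowers_or hIp hx hy with h | h
    · left
      obtain ⟨i, rfl⟩ := mem_zpowers_iff.1 h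
      have h1 : b * y ^ i * b⁻¹ = (y ^ i)⁻¹ := by rw [← conj_zpow, hby, inv_zpow]
      rw [hbx] at h1
      exact GW.Klein.eq_one_of_odd hIodd hx (mul_eq_one_iff_eq_inv.2 h1)
    · right
      obtain ⟨i, rfl⟩ := mem_zpowers_iff.1 h
      have h1 : b * x ^ i * b⁻¹ = x ^ i := by rw [← conj_zpow, hbx]
      rw [hby] at h1
      exact GW.Klein.eq_one_of_odd hIodd hy (mul_eq_one_iff_eq_inv.2 h1.symm)
  have hbI : b ∈ normalizer (I : Set G) := mem_normalizer_fintype fun x hx => by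
    refine ⟨(mem_normalizer_iff.1 (c.normalize_core T.bS) x).1 hx.1, ?_⟩
    calc a * (b * x * b⁻¹) * a⁻¹ = (a * b) * x * (a * b)⁻¹ := by group
      _ = b * (a * x * a⁻¹) * b⁻¹ := by rw [hab]; group
      _ = (b * x * b⁻¹)⁻¹ := by rw [hx.2]; group
  have hfixI : ∀ x ∈ I, b * x * b⁻¹ = x → x = 1 := by
    intro x hx hbx
    set y := g * x * g⁻¹ with hy
    have hyb : b * y * b⁻¹ = y⁻¹ := by rw [hy, hb, hshift a x x⁻¹ hx.2]; group
    have hya : a * y * a⁻¹ = y⁻¹ := by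
      have h1 := hshift b x x hbx
      rw [show g * b * g⁻¹ = a * b from T.gb] at h1
      have h2 : a * (b * y * b⁻¹) * a⁻¹ = y := by
        calc a * (b * y * b⁻¹) * a⁻¹ = (a * b) * y * (a * b)⁻¹ := by group
          _ = y := h1
      rw [hyb] at h2
      calc a * y * a⁻¹ = (a * y⁻¹ * a⁻¹)⁻¹ := by group
        _ = y⁻¹ := by rw [h2]
    rcases hnot x hx y (hmemI y (hgP x hx.1.1) hya) hbx hyb with h | h
    · exact h
    · exact conj_eq_one_iff.1 h
  have hinvI : ∀ x ∈ I, b * x * b⁻¹ = x⁻¹ → x = 1 := by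
    intro x hx hbx
    set z := g * (g * x * g⁻¹) * g⁻¹ with hz
    have hza : a * z * a⁻¹ = z⁻¹ := by
      have h1 := hshift (g * b * g⁻¹) (g * x * g⁻¹) _ (hshift b x x⁻¹ hbx)
      rw [show g * b * g⁻¹ = a * b from T.gb, show g * (a * b) * g⁻¹ = a from T.gab] at h1
      rw [hz, h1]; simp only [mul_assoc, mul_inv_rev, inv_inv]
    have hzb : b * z * b⁻¹ = z := by
      have hxab : (a * b) * x * (a * b)⁻¹ = x := by
        rw [show (a * b) * x * (a * b)⁻¹ = a * (b * x * b⁻¹) * a⁻¹ by group, hbx,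
          show a * x⁻¹ * a⁻¹ = (a * x * a⁻¹)⁻¹ by group, hx.2, inv_inv]
      have h1 := hshift (g * (a * b) * g⁻¹) (g * x * g⁻¹) _ (hshift (a * b) x x hxab)
      rwa [show g * (a * b) * g⁻¹ = a from T.gab] at h1
    rcases hnot z (hmemI z (hgP _ (hgP x hx.1.1)) hza) x hx hzb hbx with h | h
    · exact conj_eq_one_iff.1 (conj_eq_one_iff.1 h)
    · exact h
  refine (c.good.2 a T.aS fun x hx => GW.ThreeClass.commute_of_no_inverted (s.sq T.aS) hPodd
    (lg_le_normalizer_pCoreOf M (c.ov.sylow_le T.aS)) (fun w hw hw' => ?_) hx).elim T.a1 (Ne.symm T.ne_a)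
  obtain ⟨f, hf, k, hk, hbf, hbk, rfl⟩ := GW.ThreeClass.decomp (s.sq T.bS) hIodd hbI (hmemI w hw hw')
  rw [hfixI f hf (mul_inv_eq_iff_eq_mul.2 hbf), hinvI k hk hbk, one_mul]

/-- No component contains `S`. -/
theorem not_eight (hAL : s.A ≤ L) : False := by
  haveI := Fact.mk c.good.1
  haveI : Fact (Nat.Prime 2) := ⟨Nat.prime_two⟩
  set π := QuotientGroup.mk' (center ↥L)
  haveI := c.qs.2
  obtain ⟨P, hP, hPcard, hPsq⟩ := c.image_sylow
  rw [inf_eq_left.2 hAL, c.ov.cfg.eight.card] at hPcard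
  have hPcomm : IsMulCommutative ↥(P : Subgroup (↥L ⧸ center ↥L)) := by
    refine ⟨⟨fun x y => Subtype.ext ?_⟩⟩
    have hi : ∀ w ∈ (P : Subgroup (↥L ⧸ center ↥L)), w⁻¹ = w := fun w hw => inv_eq_of_mul_eq_one_right (hPsq w hw)
    show (x : ↥L ⧸ center ↥L) * y = y * x
    rw [← hi _ (mul_mem x.2 y.2), mul_inv_rev, hi _ y.2, hi _ x.2]
  have htame := c.ov.cfg.tame (↥L ⧸ center ↥L) (lt_of_le_of_lt
    (Nat.le_of_dvd Nat.card_pos (card_quotient_dvd_card _)) c.lt) c.qs.2 c.quotient_facts P hPcard hPcomm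
  set Pr := Cfsg.pCoreOf r M
  set R := Pr ⊓ L
  have hPodd := c.ov.good_odd c.good
  set tl : ↥L := ⟨t, hAL c.ov.tA⟩
  have htl1 : π tl ≠ 1 := fun e => c.ov.t1 (congrArg Subtype.val
    (c.center_inf tl ((QuotientGroup.eq_one_iff _).1 e) (Subtype.ext c.ov.tt)))
  have hbot : (R.subgroupOf L).map π = ⊥ := by
    refine htame (π tl) (orderOf_eq_prime (by rw [pow_two, ← map_mul,
      show tl * tl = 1 from Subtype.ext c.ov.tt, map_one]) htl1) _ ?_ ?_
    · refine (hPodd.of_dvd_nat (card_dvd_of_le (inf_le_left : R ≤ Pr))).of_dvd_nat ?_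
      rw [← Nat.card_congr (subgroupOfEquivOfLe (inf_le_right : R ≤ L)).toEquiv]
      exact card_map_dvd _ π
    · intro y hy
      obtain ⟨d, rfl⟩ := QuotientGroup.mk'_surjective _ y
      have hz : tl * d * tl⁻¹ * d⁻¹ ∈ center ↥L := (QuotientGroup.eq_one_iff _).1 (show π _ = 1 by
        rw [map_mul, map_mul, map_mul, map_inv, map_inv, ← mem_centralizer_singleton_iff.1 hy,
          mul_inv_cancel_right, mul_inv_cancel])
      have hinv : tl⁻¹ = tl := inv_eq_of_mul_eq_one_right (Subtype.ext c.ov.tt)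
      have hsq : (tl * d * tl⁻¹ * d⁻¹) * (tl * d * tl⁻¹ * d⁻¹) = 1 := by
        set z := tl * d * tl⁻¹ * d⁻¹ with hzdef
        have h1 : tl * d * tl⁻¹ = z * d := by rw [hzdef]; group
        have h2 : tl * (z * d) * tl⁻¹ = d := by
          rw [← h1, hinv, show tl * (tl * d * tl) * tl = (tl * tl) * d * (tl * tl) by group,
            show tl * tl = 1 from Subtype.ext c.ov.tt, one_mul, mul_one]
        rw [show tl * (z * d) * tl⁻¹ = (tl * z * tl⁻¹) * (tl * d * tl⁻¹) by group,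
          mem_center_iff.1 hz tl, mul_inv_cancel_right, h1, ← mul_assoc] at h2
        exact mul_eq_right.1 h2
      have h1 := c.center_inf _ hz hsq
      have hdt : Commute (d : G) t := by
        have h2 : tl * d * tl⁻¹ * d⁻¹ = 1 := h1
        rw [mul_inv_eq_one, mul_inv_eq_iff_eq_mul] at h2
        exact (congrArg Subtype.val h2).symm
      refine le_normalizer_map π (mem_map_of_mem π (mem_normalizer_fintype fun x hx => mem_subgroupOf.2 ⟨?_, ?_⟩))
      · exact (mem_normalizer_iff.1 (lg_le_normalizer_pCoreOf M (c.ov.commute_mem hdt)) _).1 (mem_subgroupOf.1 hx).1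
      · exact L.mul_mem (L.mul_mem d.2 x.2) (L.inv_mem d.2)
  have hRZ : R.subgroupOf L ≤ center ↥L := by
    rwa [Subgroup.map_eq_bot_iff, QuotientGroup.ker_mk'] at hbot
  obtain ⟨v, hv, hv1, hvt⟩ := c.ov.cfg.exists_ne (t := t)
  refine (c.good.2 v hv fun x hx => GW.ThreeClass.commute_of_no_inverted (s.sq hv) hPodd
    (lg_le_normalizer_pCoreOf M (c.ov.sylow_le hv)) (fun w hw hw' => ?_) hx).elim hv1 hvt
  have hwR : w ∈ R := ⟨hw, c.inverted_mem (hAL hv) hw hw'⟩
  have h1 := congrArg Subtype.val (mem_center_iff.1 (hRZ (x := ⟨w, hwR.2⟩) (mem_subgroupOf.2 hwR)) ⟨v, hAL hv⟩)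
  have h2 : v * w * v⁻¹ = w := mul_inv_eq_iff_eq_mul.2 h1
  rw [hw'] at h2
  exact GW.Klein.eq_one_of_odd hPodd hw (mul_eq_one_iff_eq_inv.2 h2.symm)

theorem false : False := by
  have h4 := c.four_le
  have hdvd : Nat.card ↥(s.A ⊓ L) ∣ 8 := c.ov.cfg.eight.card ▸ card_dvd_of_le inf_le_left
  have hle := Nat.le_of_dvd (by norm_num) hdvd
  rcases (show Nat.card ↥(s.A ⊓ L) = 4 ∨ Nat.card ↥(s.A ⊓ L) = 8 by
    obtain ⟨k, hk, he⟩ := (Nat.dvd_prime_pow Nat.prime_two).1 (show Nat.card ↥(s.A ⊓ L) ∣ 2 ^ 3 from hdvd)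
    interval_cases k <;> omega) with h | h
  · exact c.not_four h
  · exact c.not_eight (inf_eq_left.1 (eq_of_le_of_card_ge inf_le_left (by rw [h, c.ov.cfg.eight.card])))

end LComp

/-- A proper subgroup over `S` and `O_r(M)` has trivial layer. -/
theorem Over.lay_eq_bot {t : G} {M : Subgroup G} (o : Over s t M) {r : ℕ} (hr : Good s t M r) {H : Subgroup G}
    (hH : H ≠ ⊤) (hAH : s.A ≤ H) (hPH : Cfsg.pCoreOf r M ≤ H) : BenderPush.lay H = ⊥ := by
  haveI : Fact (Nat.Prime 2) := ⟨Nat.prime_two⟩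
  rw [BenderPush.lay, map_eq_bot_iff_of_injective _ H.subtype_injective, Cfsg.layer, sSup_eq_bot]
  intro K hK
  exfalso
  obtain ⟨Q, hQ⟩ := o.cfg.sylow_eight hAH
  set L := K.map H.subtype with hL
  have hLH : L ≤ H := map_subtype_le _
  have hqs : Cfsg.IsQuasisimple ↥L := (Grp.isQuasisimple_map_iff H.subtype_injective K).2 hK.2
  have hlt : Nat.card ↥L < Nat.card G := lt_of_le_of_lt (Nat.le_of_dvd Nat.card_pos (card_dvd_of_le hLH))
    (lt_of_le_of_ne (card_le_card_group H) fun e => hH ((card_eq_iff_eq_top H).1 e))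
  have hsyl : ∃ P : Sylow 2 ↥L, (P : Subgroup ↥L) = s.A.subgroupOf L := by
    have hp : IsPGroup 2 ↥(s.A.subgroupOf L) :=
      (Grp.elemAb_isPGroup s.elem).comap_of_injective _ (subtype_injective _)
    refine ⟨hp.toSylow ?_, rfl⟩
    have h1 := Grp.not_dvd_relIndex_sylow Q hK.1
    rw [hQ, ← relIndex_map_map_of_injective _ _ H.subtype_injective, map_subgroupOf_eq_of_le hAH] at h1
    exact h1
  -- a moved component commutes with `L`
  have hmove : ∀ g (hg : g ∈ H), K.map (MulAut.conj (⟨g, hg⟩ : ↥H)).toMonoidHom ≠ K →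
      ∀ x ∈ L, ∀ w ∈ L, Commute x (g * w * g⁻¹) := by
    intro g hg hne x hx w hw
    obtain ⟨x₀, hx₀, rfl⟩ := hx
    obtain ⟨w₀, hw₀, rfl⟩ := hw
    have h1 := Grp.IsComponent.commute hK (Grp.IsComponent.map_iso (MulAut.conj (⟨g, hg⟩ : ↥H)) hK) (Ne.symm hne) hx₀
    exact (congrArg Subtype.val (mem_centralizer_iff.1 h1 _ ⟨w₀, hw₀, rfl⟩)).symm
  have hcen : ∀ v ∈ s.A, v ∈ L → (∀ x ∈ L, Commute x v) → v = 1 := by
    intro v hv hvL hc
    obtain ⟨P, hP⟩ := hsyl
    have hPc : IsMulCommutative ↥(P : Subgroup ↥L) := ⟨⟨fun a b => Subtype.ext (Subtype.ext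
      (s.comm (mem_subgroupOf.1 (hP.le a.2)) (mem_subgroupOf.1 (hP.le b.2))))⟩⟩
    have h1 := Transfer.hall_inf_commutator_inf_center (P : Subgroup ↥L) hPc (by
      obtain ⟨m, hm⟩ := IsPGroup.iff_card.1 P.isPGroup'
      rw [hm]
      exact ((Nat.Prime.coprime_iff_not_dvd Nat.prime_two).2 P.not_dvd_index).pow_left m)
    rw [hqs.1.commutator_eq_top, inf_top_eq] at h1
    have h2 : (⟨v, hvL⟩ : ↥L) ∈ (P : Subgroup ↥L) ⊓ center ↥L :=
      ⟨hP.ge (mem_subgroupOf.2 hv), mem_center_iff.2 fun x => Subtype.ext (hc x x.2).eq⟩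
    rw [h1, mem_bot] at h2
    exact congrArg Subtype.val h2
  have hnorm : ∀ g, g ∈ H → (∃ v ∈ s.A, v ∈ L ∧ v ≠ 1 ∧ ((∀ x ∈ L, Commute x (g * v * g⁻¹)) → g * v * g⁻¹ = v)) →
      g ∈ normalizer (L : Set G) := by
    rintro g hg ⟨v, hv, hvL, hv1, hgv⟩
    by_cases hne : K.map (MulAut.conj (⟨g, hg⟩ : ↥H)).toMonoidHom = K
    · refine mem_normalizer_fintype fun x hx => ?_
      obtain ⟨x₀, hx₀, rfl⟩ := hx
      exact ⟨⟨g, hg⟩ * x₀ * ⟨g, hg⟩⁻¹, hne.le ⟨x₀, hx₀, rfl⟩, rfl⟩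
    · exfalso
      have h1 : ∀ x ∈ L, Commute x (g * v * g⁻¹) := fun x hx => hmove g hg hne x hx v hvL
      refine hv1 (hcen v hv hvL fun x hx => ?_)
      rw [← hgv h1]
      exact h1 x hx
  obtain ⟨v, hv, hvL, hv1⟩ : ∃ v ∈ s.A, v ∈ L ∧ v ≠ 1 := by
    by_contra hno
    push Not at hno
    obtain ⟨P, hP⟩ := hsyl
    haveI := Grp.IsQuasisimple.nontrivial hqs
    have h4 := four_le_sylow hqs.1.commutator_eq_top P ⟨⟨fun a b => Subtype.ext (Subtype.ext
      (s.comm (mem_subgroupOf.1 (hP.le a.2)) (mem_subgroupOf.1 (hP.le b.2))))⟩⟩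
    have hbot : (P : Subgroup ↥L) = ⊥ := (Subgroup.eq_bot_iff_forall _).2 fun x hx =>
      Subtype.ext (hno x (mem_subgroupOf.1 (hP.le hx)) x.2)
    rw [hbot, card_bot] at h4
    omega
  have hAL : s.A ≤ normalizer (L : Set G) := fun u hu => hnorm u (hAH hu)
    ⟨v, hv, hvL, hv1, fun _ => by rw [s.comm hu hv, mul_inv_cancel_right]⟩
  refine LComp.false (t := t) (M := M) (r := r) (L := L)
    ⟨o, hr, hqs, hlt, hsyl, hAL, fun f hf => hnorm f (hPH hf) ⟨v, hv, hvL, hv1, fun hcv => ?_⟩⟩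
  have h1 : f * v * f⁻¹ * v⁻¹ ∈ Cfsg.pCoreOf r M := by
    rw [show f * v * f⁻¹ * v⁻¹ = f * (v * f⁻¹ * v⁻¹) by group]
    exact mul_mem hf ((mem_normalizer_iff.1 (lg_le_normalizer_pCoreOf M (o.sylow_le hv)) _).1 (inv_mem hf))
  have h2 : (f * v * f⁻¹ * v⁻¹) * (f * v * f⁻¹ * v⁻¹) = 1 := by
    have hvv := s.sq hv
    have hc : Commute (f * v * f⁻¹) v := (hcv v hvL).symm
    rw [show v⁻¹ = v from inv_eq_of_mul_eq_one_right hvv]
    calc f * v * f⁻¹ * v * (f * v * f⁻¹ * v) = f * v * f⁻¹ * (v * (f * v * f⁻¹)) * v := by group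
      _ = f * v * f⁻¹ * ((f * v * f⁻¹) * v) * v := by rw [hc.eq]
      _ = f * (v * v) * f⁻¹ * (v * v) := by group
      _ = 1 := by rw [hvv]; group
  exact mul_inv_eq_one.1 (GW.Klein.eq_one_of_odd (o.good_odd hr) h1 h2)

end Cfsg.Agent.Invol.AbelTwo
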