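import Cfsg.Agent.Lib.Invol.AbelTwo.Basic
import Cfsg.Agent.Lib.Fus.Goldschmidt.SingleLocal
import Cfsg.Agent.Lib.Grp.ComponentBalance

/-!
# The centraliser of an involution modulo its core

A normal simple component with the four-group as Sylow 2-subgroup, its centraliser of order two.
-/

set_option autoImplicit false
set_option linter.unusedSectionVars false
set_option linter.style.haveILetI false

namespace Cfsg.Agent.Invol.AbelTwo

open Subgroup Fus.Gold Cfsg.Agent.Grp

universe u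

/-- A subgroup of order at most two is centralised by its normaliser. -/
theorem conj_eq_of_card_le_two {L : Type u} [Group L] [Finite L] {X : Subgroup L} (hX : Nat.card ↥X ≤ 2) {n y : L}
    (hn : n * y * n⁻¹ ∈ X) (hy : y ∈ X) : n * y * n⁻¹ = y := by
  classical
  by_cases hy1 : y = 1
  · rw [hy1, mul_one, mul_inv_cancel]
  by_contra hne
  have h3 : ({1, y, n * y * n⁻¹} : Finset L).card = 3 := by
    rw [Finset.card_insert_of_notMem, Finset.card_insert_of_notMem, Finset.card_singleton]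
    · rw [Finset.mem_singleton]; exact fun e => hne e.symm
    · simp only [Finset.mem_insert, Finset.mem_singleton]
      rintro (e | e)
      exacts [hy1 e.symm, hy1 (conj_eq_one_iff.1 e.symm)]
  have h4 : ({1, y, n * y * n⁻¹} : Finset L).card ≤ Nat.card ↥X := by
    rw [show Nat.card ↥X = (X : Set L).ncard from Nat.card_coe_set_eq _, ← Set.ncard_coe_finset]
    refine Set.ncard_le_ncard ?_ (Set.toFinite _)
    simp only [Finset.coe_insert, Finset.coe_singleton, Set.insert_subset_iff, Set.singleton_subset_iff]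
    exact ⟨one_mem _, hy, hn⟩
  omega

/-- A nontrivial perfect group with abelian Sylow 2-subgroups has Sylow 2-subgroups of order at least four. -/
theorem four_le_sylow {L : Type u} [Group L] [Finite L] [Nontrivial L] (hperf : commutator L = ⊤)
    (P : Sylow 2 L) (hP : IsMulCommutative ↥(P : Subgroup L)) : 4 ≤ Nat.card ↥(P : Subgroup L) := by
  haveI : Fact (Nat.Prime 2) := ⟨Nat.prime_two⟩
  obtain ⟨k, hk⟩ := IsPGroup.iff_card.1 P.isPGroup'
  rcases Nat.lt_or_ge k 2 with hlt | hge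
  swap
  · rw [hk]; exact (Nat.pow_le_pow_right two_pos hge : 2 ^ 2 ≤ 2 ^ k)
  exfalso
  -- the normaliser centralises a group of order at most two
  have hc : ∀ n ∈ normalizer (P : Set L), ∀ x ∈ (P : Subgroup L), x * n = n * x := by
    intro n hn x hx
    have h2 : Nat.card ↥(P : Subgroup L) ≤ 2 := by
      rw [hk]; exact (Nat.pow_le_pow_right two_pos (Nat.le_of_lt_succ hlt) : 2 ^ k ≤ 2 ^ 1)
    exact (mul_inv_eq_iff_eq_mul.1 (conj_eq_of_card_le_two h2 ((mem_normalizer_iff.1 hn x).1 hx) hx)).symm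
  have hbot : (P : Subgroup L) = ⊥ := by
    have h1 := (Transfer.abelian_sylow_inf_commutator P hP).1
    rw [hperf, top_inf_eq, commutator_eq_bot_iff_le_centralizer.2
      (fun x hx => mem_centralizer_iff.2 fun n hn => (hc n hn x hx).symm), le_bot_iff] at h1
    exact h1
  have hodd : Odd (Nat.card L) := by
    rw [← Nat.not_even_iff_odd, even_iff_two_dvd]
    intro hd
    refine P.not_dvd_index ?_
    rwa [hbot, index_bot]
  haveI := S0205.result hodd
  exact (Group.IsSolvable.commutator_lt_top_of_nontrivial (G := L)).ne hperf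

variable {G : Type u} [Group G] [Finite G] {s : Setup G}

/-- The component at `x`. -/
structure Comp (s : Setup G) (x : G) (K : Subgroup (Cq x)) : Prop where
  moved : Moved s.A x K
  dpart : dPart s.A x K = zpowers x
  normal : K.Normal
  simple : IsSimpleGroup ↥K
  nonab : ¬ IsMulCommutative ↥K
  four : FourSimple ↥K ((imA s.A x ⊓ K).subgroupOf K)
  iso : ∃ (F : Type) (_ : Field F) (_ : Fintype F), Odd (Fintype.card F) ∧ 5 ≤ Fintype.card F ∧
    Nonempty (↥K ≃* Matrix.ProjectiveSpecialLinearGroup (Fin 2) F)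
  card_cent : Nat.card ↥(centralizer (K : Set (Cq x))) = 2
  sup : (imA s.A x ⊓ centralizer (K : Set (Cq x))) ⊔ (imA s.A x ⊓ K) = imA s.A x

theorem Cfg.exists_comp (h : Cfg s) {x : G} (hx : x ∈ s.A) (hx1 : x ≠ 1) : ∃ K, Comp s x K := by
  classical
  haveI : Fact (Nat.Prime 2) := ⟨Nat.prime_two⟩
  obtain ⟨K, hK, hD⟩ := h.eight.fac x hx hx1
  have hSA := h.sylow_le_centralizer
  obtain ⟨T, hT⟩ := Single.exists_sylow s hx hx1 hSA
  have d := Single.data s hx hx1 hSA h.eight.card hK hD hT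
  have hTA : (T : Subgroup (Cq x)) = imA s.A x := by
    refine le_antisymm (fun y hy => ?_) d.le
    obtain ⟨u, hu, rfl⟩ := hT.ge hy
    exact ⟨⟨u, Single.le_C s hx hx1 u.2⟩, mem_subgroupOf.2 (h.mem_sylow.1 hu), rfl⟩
  set Ab := imA s.A x
  set C := centralizer (K : Set (Cq x)) with hCdef
  have hAbC : Nat.card ↥(Ab ⊓ C) = 2 := by
    rw [card_inf_pre s hx hx1, show s.A ⊓ pre x C = dPart s.A x K from rfl, hD, Nat.card_zpowers,
      s.orderOf_eq hx hx1]
  -- a Sylow subgroup of a component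
  have hsyl : ∀ L : Subgroup (Cq x), Cfsg.IsComponent L → ∃ P : Sylow 2 ↥L,
      (P : Subgroup ↥L) = (Ab ⊓ L).subgroupOf L := by
    intro L hL
    obtain ⟨P, hP⟩ := exists_sylow_component (T := T) hL
    exact ⟨P, by rw [hP, hTA, inf_subgroupOf_right]⟩
  have hcomm : ∀ (L : Subgroup (Cq x)) (P : Sylow 2 ↥L), (P : Subgroup ↥L) = (Ab ⊓ L).subgroupOf L →
      IsMulCommutative ↥(P : Subgroup ↥L) := fun L P hP => ⟨⟨fun a b => Subtype.ext (Subtype.ext
    (d.loc.comm (mem_subgroupOf.1 (hP.le a.2)).1 (mem_subgroupOf.1 (hP.le b.2)).1))⟩⟩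
  -- the component is normal
  have hnormal : K.Normal := by
    refine ⟨fun k hk g => ?_⟩
    suffices K.map (MulAut.conj g).toMonoidHom = K from this.le ⟨k, hk, rfl⟩
    by_contra hne
    have hK' : Cfsg.IsComponent (K.map (MulAut.conj g).toMonoidHom) := Grp.IsComponent.map_iso (MulAut.conj g) hK.1
    set K' := K.map (MulAut.conj g).toMonoidHom
    have hle : K' ≤ C := Grp.IsComponent.commute hK' hK.1 hne
    obtain ⟨P, hP⟩ := hsyl K' hK'
    haveI := Grp.IsQuasisimple.nontrivial hK'.2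
    have h4 := four_le_sylow hK'.2.1.commutator_eq_top P (hcomm _ P hP)
    rw [hP, Nat.card_congr (subgroupOfEquivOfLe (inf_le_right : Ab ⊓ K' ≤ K')).toEquiv] at h4
    have h2 := card_le_of_le (inf_le_inf_left Ab hle : Ab ⊓ K' ≤ Ab ⊓ C)
    omega
  haveI := hnormal
  -- the component is simple
  obtain ⟨P, hP⟩ := hsyl K hK.1
  have hPc := hcomm K P hP
  have hZ : center ↥K = ⊥ := by
    have hle : center ↥K ≤ (P : Subgroup ↥K) := fun z hz => by
      rw [Fus.Gold.center_eq hK.1, mem_subgroupOf] at hz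
      rw [hP, mem_subgroupOf]
      exact ⟨hTA ▸ center_le_sylow d.loc d.le hK.1 hz, z.2⟩
    have h1 := Transfer.hall_inf_commutator_inf_center (P : Subgroup ↥K) hPc (by
      obtain ⟨m, hm⟩ := IsPGroup.iff_card.1 P.isPGroup'
      rw [hm]
      exact ((Nat.Prime.coprime_iff_not_dvd Nat.prime_two).2 P.not_dvd_index).pow_left m)
    rwa [hK.1.2.1.commutator_eq_top, inf_top_eq, inf_eq_right.2 hle] at h1
  let e₀ : ↥K ≃* ↥K ⧸ center ↥K :=
    ((QuotientGroup.quotientMulEquivOfEq hZ).trans QuotientGroup.quotientBot).symm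
  haveI hsimple : IsSimpleGroup ↥K := by
    haveI := hK.1.2.2
    exact e₀.isSimpleGroup
  have hna : ¬ IsMulCommutative ↥K := fun hc => not_comm_quotient hK.1
    ⟨⟨fun a b => e₀.symm.injective (by rw [map_mul, map_mul]; exact hc.is_comm.comm _ _)⟩⟩
  have hklein : IsKleinFour ↥(P : Subgroup ↥K) := by
    have h4 : Nat.card ↥(P : Subgroup ↥K) = 4 := by
      rw [hP, Nat.card_congr (subgroupOfEquivOfLe (inf_le_right : Ab ⊓ K ≤ K)).toEquiv]
      exact d.four
    refine ⟨h4, Nat.dvd_antisymm (Monoid.exponent_dvd_of_forall_pow_eq_one fun y =>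
      Subtype.ext (Subtype.ext (d.loc.elem.2 _ (mem_subgroupOf.1 (hP.le y.2)).1))) ?_⟩
    have h2 : 2 ∣ Nat.card ↥(P : Subgroup ↥K) := by rw [h4]; norm_num
    obtain ⟨y, hy⟩ := exists_prime_orderOf_dvd_card' (G := ↥(P : Subgroup ↥K)) 2 h2
    have h3 := Monoid.order_dvd_exponent y
    rwa [hy] at h3
  have hfour : FourSimple ↥K ((Ab ⊓ K).subgroupOf K) := hP ▸ fourSimple hna P hklein
  obtain ⟨F, i1, i2, ho, h5, -, he⟩ := exists_psl hna P hklein
  refine ⟨K, hK, hD, hnormal, hsimple, hna, hfour, ⟨F, i1, i2, ho, h5, he⟩, ?_, d.sup_eq⟩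
  -- the centraliser of the component
  haveI hCn : C.Normal := Subgroup.normal_centralizer
  obtain ⟨Q, hQ⟩ : ∃ Q : Sylow 2 ↥C, (Q : Subgroup ↥C) = (Ab ⊓ C).subgroupOf C := by
    have hp : IsPGroup 2 ((T : Subgroup (Cq x)).subgroupOf C) :=
      T.isPGroup'.comap_of_injective _ (subtype_injective _)
    refine ⟨hp.toSylow (not_dvd_relIndex_sylow T (Subgroup.Normal.isSubnormal hCn)), ?_⟩
    show (T : Subgroup (Cq x)).subgroupOf C = _
    rw [hTA, inf_subgroupOf_right]
  have hQc : IsMulCommutative ↥(Q : Subgroup ↥C) := ⟨⟨fun a b => Subtype.ext (Subtype.ext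
    (d.loc.comm (mem_subgroupOf.1 (hQ.le a.2)).1 (mem_subgroupOf.1 (hQ.le b.2)).1))⟩⟩
  have hQ2 : Nat.card ↥(Q : Subgroup ↥C) = 2 := by
    rw [hQ, Nat.card_congr (subgroupOfEquivOfLe (inf_le_right : Ab ⊓ C ≤ C)).toEquiv, hAbC]
  obtain ⟨N, hN, hNodd, k, hk⟩ := Transfer.hasNormalPComplement_iff_exists.1
    (Transfer.hasNormalPComplement_of_prime_elements Q hQc fun q hq _ g hg hgo y hy =>
      conj_eq_of_card_le_two hQ2.le ((mem_normalizer_iff.1 hg y).1 hy) hy)
  have hN1 : N = ⊥ := by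
    have hsub : (N.map C.subtype).IsSubnormal := (hN.isSubnormal).trans' (Subgroup.Normal.isSubnormal hCn)
    have h1 := Grp.le_pPrimeCore_of_isSubnormal (p := 2) hsub
      (by rw [card_map_of_injective C.subtype_injective]; exact (Nat.prime_two.coprime_iff_not_dvd.2 hNodd).symm)
    rw [d.loc.core, le_bot_iff] at h1
    exact (map_eq_bot_iff_of_injective _ C.subtype_injective).1 h1
  rw [hN1, index_bot] at hk
  have h1 := Sylow.card_eq_multiplicity Q
  rw [hQ2, hk, Nat.prime_two.factorization_pow, Finsupp.single_eq_same] at h1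
  rw [hk, ← h1]

end Cfsg.Agent.Invol.AbelTwo
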