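import Cfsg.Agent.Lib.Invol.GW.Klein.LinearPSL
import Cfsg.Agent.Lib.Invol.GW.Klein.Cores
import Cfsg.Agent.Lib.Fus.Goldschmidt.Bender
import Cfsg.Agent.Lib.Invol.CentRank.Models
import Cfsg.Agent.Lib.Local.CoreConsumers.PSLInvolution
import Cfsg.Agent.Lib.Local.CoreConsumers.Main
import Cfsg.Agent.Lib.Fus.KleinAutPSL
import Cfsg.Agent.S0483

/-!
# Simple groups with a four-group as Sylow 2-subgroup

They are `PSL(2, q)`, `q` congruent to `3` or `5` modulo `8`.  What is used about them: the four-group is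
self-centralising, its invariant subgroups of odd prime power order are cyclic, and an automorphism of odd order
fixing the centraliser of an involution pointwise is trivial.
-/

set_option autoImplicit false
set_option linter.unusedSectionVars false
set_option linter.style.haveILetI false

namespace Cfsg.Agent.Invol.AbelTwo

open Subgroup Cfsg.Agent.Dickson Cfsg.Agent.Grp.SL2 Cfsg.Agent.PSL2Spec Cfsg.Agent.Classical
open Cfsg.Agent.Classical.PSLAut

section PSL

variable {F : Type} [Field F] [Fintype F]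

local notation "SL₂" => Matrix.SpecialLinearGroup (Fin 2) F
local notation "PSL₂" => Matrix.ProjectiveSpecialLinearGroup (Fin 2) F

theorem psl_centralizer_four (hodd : Odd (Fintype.card F)) {V : Subgroup PSL₂} (hV : IsKleinFour V)
    {g : PSL₂} (hg : ∀ v ∈ V, Commute g v) : g ∈ V := by
  obtain ⟨x, y, h, rfl⟩ := exists_quat_of_isKleinFour hodd hV
  exact h.centralizer (two_ne_zero_of_odd_card hodd) (hg _ (Or.inr (Or.inl rfl)))
    (hg _ (Or.inr (Or.inr (Or.inl rfl))))

/-- The normaliser of a four-group moves each involution of it to each other one. -/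
theorem psl_transitive (hodd : Odd (Fintype.card F)) {V : Subgroup PSL₂} (hV : IsKleinFour V) {a b : PSL₂}
    (ha : a ∈ V) (hb : b ∈ V) (ha1 : a ≠ 1) (hb1 : b ≠ 1) :
    ∃ n ∈ normalizer (V : Set PSL₂), n * a * n⁻¹ = b := by
  obtain ⟨x, y, h, rfl⟩ := exists_quat_of_isKleinFour hodd hV
  obtain ⟨t, -, htN, e1, e2⟩ := exists_three hodd h
  have hyy := Quat.sq_proj (F := F) h.yy
  have e3 : t * (proj x * proj y) * t⁻¹ = proj y := by
    rw [← conj_mul, e1, e2, mul_assoc, h.comm, ← mul_assoc, Quat.sq_proj h.xx, one_mul]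
  have key : ∀ v ∈ h.klein, v ≠ 1 → ∃ n ∈ normalizer (h.klein : Set PSL₂), n * proj x * n⁻¹ = v := by
    intro v hv hv1
    rcases hv with rfl | rfl | rfl | rfl
    · exact absurd rfl hv1
    · exact ⟨1, one_mem _, by group⟩
    · refine ⟨t * t, mul_mem htN htN, ?_⟩
      rw [show t * t * proj x * (t * t)⁻¹ = t * (t * proj x * t⁻¹) * t⁻¹ by group, e1, e3]
    · exact ⟨t, htN, e1⟩
  obtain ⟨m, hm, rfl⟩ := key a ha ha1
  obtain ⟨k, hk, rfl⟩ := key b hb hb1
  exact ⟨k * m⁻¹, mul_mem hk (inv_mem hm), by group⟩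

/-- Invariant subgroups of odd prime power order of a four-group are cyclic. -/
theorem psl_cyclic (hodd : Odd (Fintype.card F)) {V : Subgroup PSL₂} (hV : IsKleinFour V)
    {R : Subgroup PSL₂} {r : ℕ} [Fact r.Prime] (hr : IsPGroup r R) (hRodd : Odd (Nat.card R))
    (hVR : V ≤ normalizer (R : Set PSL₂)) : IsCyclic R := by
  haveI := hV
  rcases eq_or_ne R ⊥ with rfl | hne
  · infer_instance
  haveI : IsMulCommutative V :=
    ⟨⟨mul_comm_of_exponent_two IsKleinFour.exponent_two⟩⟩
  set Z := GW.Klein.omZ r R with hZ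
  haveI : IsMulCommutative Z := ⟨⟨fun a b => Subtype.ext (a.2.2.1 b b.2.1).eq⟩⟩
  have hnc : ¬ IsCyclic V := IsKleinFour.not_isCyclic
  obtain ⟨v, hv, hv1, hZv⟩ := Grp.exists_centralizer_ne_bot V Z hnc (GW.Klein.omZ_ne_bot hr hne)
    (hVR.trans (GW.Klein.normalizer_le_omZ r R))
  obtain ⟨⟨y, hy⟩, hy1⟩ := ne_bot_iff_exists_ne_one.1 hZv
  have hy1' : y ≠ 1 := fun e => hy1 (Subtype.ext e)
  have hv2 : orderOf v = 2 := orderOf_eq_prime (by
    rw [pow_two]; exact congrArg Subtype.val (IsKleinFour.mul_self (⟨v, hv⟩ : V))) hv1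
  obtain ⟨hyZ, hyv⟩ := mem_inf.1 hy
  have hyR := GW.Klein.omZ_le r R hyZ
  have hvy : Commute v y := (mem_centralizer_singleton_iff.1 hyv).symm
  obtain ⟨T, hTc, -, hmax, -⟩ := GW.Klein.PSL.exists_torus hodd hv2
  have hRT : R ≤ T := fun x hx => by
    refine hmax x (hRodd.of_dvd_nat (Subgroup.orderOf_dvd_natCard R hx)) ?_
    exact ((CoreConsumers.PSLInvol.key hodd (hRodd.of_dvd_nat (Subgroup.orderOf_dvd_natCard R hyR)) hy1' hv2
      hvy).1 x (hyZ.2.1 x hx).symm).symm
  haveI := hTc
  exact isCyclic_of_injective (Subgroup.inclusion hRT) (Subgroup.inclusion_injective hRT)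

/-- For `q = 5` an automorphism of odd order fixing a four-group pointwise is trivial. -/
theorem psl_aut_five (h5 : Fintype.card F = 5) {V : Subgroup PSL₂} (hV : IsKleinFour V) {β : MulAut PSL₂}
    (hβ : Odd (orderOf β)) (hfix : ∀ v ∈ V, β v = v) : β = 1 := by
  haveI := hV
  have hodd : Odd (Fintype.card F) := by rw [h5]; decide
  obtain ⟨p, hc⟩ := CharP.exists F
  haveI : Fact p.Prime := ⟨CharP.char_is_prime F p⟩
  obtain ⟨f, -, hF⟩ := FiniteField.card F p
  have hf1 : (f : ℕ) = 1 := ((Nat.Prime.pow_eq_iff Nat.prime_five).1 (hF.symm.trans h5)).2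
  obtain ⟨-, hcard⟩ := PSLAut.card_ringAut hF
  obtain ⟨Ψ, hker, -, hn2⟩ := PSLAut.exists_fieldGraphHom (p := p) (F := F) (n := 2) le_rfl
  have hfield : (Ψ β).1 = 1 := by
    have : orderOf (Ψ β).1 ∣ (f : ℕ) := hcard ▸ orderOf_dvd_natCard _
    rw [hf1, Nat.dvd_one, orderOf_eq_one_iff] at this
    exact this
  obtain ⟨g, hg⟩ : β ∈ (inndiagHom 2 F).range := by
    rw [← hker, MonoidHom.mem_ker]
    exact Prod.ext hfield ((hn2 rfl).1 β)
  -- the square of `β` is inner
  set d := Matrix.GeneralLinearGroup.det g with hd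
  set z := Matrix.GeneralLinearGroup.scalar (Fin 2) d⁻¹ * (g * g) with hz
  have hzdet : ((z : GL (Fin 2) F) : Matrix (Fin 2) (Fin 2) F).det = 1 := by
    rw [← Matrix.GeneralLinearGroup.val_det_apply, hz, map_mul, map_mul, Units.val_mul, ← hd]
    have : Matrix.GeneralLinearGroup.det (Matrix.GeneralLinearGroup.scalar (Fin 2) d⁻¹) = d⁻¹ * d⁻¹ :=
      Units.ext (by simp [Matrix.GeneralLinearGroup.coe_scalar, pow_two])
    rw [this]
    simp
    field_simp
  let s : SL₂ := ⟨_, hzdet⟩
  have hs : Matrix.SpecialLinearGroup.toGL s = z := Units.ext rfl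
  have hsc : inndiagHom 2 F (Matrix.GeneralLinearGroup.scalar (Fin 2) d⁻¹) = 1 := by
    rw [inndiagHom_apply, pslSemi_eq_one_iff le_rfl]
    exact ⟨rfl, _, rfl⟩
  set c := slToPSL 2 F s with hcdef
  have hsq : β * β = MulAut.conj c := by
    rw [hcdef, conj_eq_pslSemi, ← inndiagHom_apply, hs, hz, map_mul, hsc, one_mul, map_mul, hg]
  have hcV : c ∈ V := psl_centralizer_four hodd hV fun v hv => by
    have h := DFunLike.congr_fun hsq v
    rw [MulAut.mul_apply, hfix v hv, hfix v hv, MulAut.conj_apply, eq_comm, mul_inv_eq_iff_eq_mul] at h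
    exact h
  have h4 : β ^ 4 = 1 := by
    rw [show (4 : ℕ) = 2 * 2 from rfl, pow_mul, pow_two, pow_two, hsq, ← map_mul,
      show c * c = 1 from congrArg Subtype.val (IsKleinFour.mul_self (⟨c, hcV⟩ : V)), map_one]
  exact orderOf_eq_one_iff.1 (Nat.eq_one_of_dvd_coprimes (Nat.Coprime.pow_left 2 (Nat.coprime_two_left.2 hβ))
    (orderOf_dvd_of_pow_eq_one (n := 2 ^ 2) h4) dvd_rfl)

end PSL

universe u

/-- What is used about a simple group with a four-group `E` as Sylow 2-subgroup. -/
structure FourSimple (K : Type u) [Group K] [Finite K] (E : Subgroup K) : Prop where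
  centE : ∀ g : K, (∀ v ∈ E, Commute g v) → g ∈ E
  aut : ∀ φ : MulAut K, Odd (orderOf φ) → (∀ v ∈ E, φ v = v) →
    ∀ e ∈ E, e ≠ 1 → (∀ x, Commute x e → φ x = x) → φ = 1
  cyclic : ∀ (R : Subgroup K) (r : ℕ) [Fact r.Prime], IsPGroup r R → Odd (Nat.card R) →
    E ≤ normalizer (R : Set K) → IsCyclic R

variable {K : Type u} [Group K] [Finite K]

/-- A simple group with a four-group as Sylow 2-subgroup is `PSL(2, q)`, `q` being `3` or `5` modulo `8`. -/
theorem exists_psl [IsSimpleGroup K] (hK : ¬ IsMulCommutative K) (P : Sylow 2 K)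
    (hP : IsKleinFour (P : Subgroup K)) :
    ∃ (F : Type) (_ : Field F) (_ : Fintype F), Odd (Fintype.card F) ∧ 5 ≤ Fintype.card F ∧
      (Fintype.card F % 8 = 3 ∨ Fintype.card F % 8 = 5) ∧
      Nonempty (K ≃* Matrix.ProjectiveSpecialLinearGroup (Fin 2) F) := by
  haveI : Fact (Nat.Prime 2) := ⟨Nat.prime_two⟩
  have hperf : Group.IsPerfect K := ⟨((inferInstance : (commutator K).Normal).eq_bot_or_eq_top).resolve_left
    fun h => hK ⟨⟨fun a b => commutatorElement_eq_one_iff_mul_comm.1 (by
      have := commutator_mem_commutator (mem_top a) (mem_top b)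
      rwa [← _root_.commutator_def, h, mem_bot] at this)⟩⟩⟩
  haveI := hperf
  haveI := hP
  have h4 : Nat.card (P : Subgroup K) = 4 := IsKleinFour.card_four
  have h2 : 2 ∣ Nat.card K := (dvd_trans (by norm_num) (dvd_of_eq h4.symm)).trans (card_subgroup_dvd_card _)
  have hcore : Cfsg.oddCore K = ⊥ := Invol.GW.CentralFour.pPrimeCore_eq_bot h2
  have h8 : ¬ 8 ∣ Nat.card K := fun h => by
    have := Sylow.card_eq_multiplicity P
    rw [h4] at this
    have h3 := (Nat.prime_two.pow_dvd_iff_le_factorization Nat.card_pos.ne').1 (show 2 ^ 3 ∣ Nat.card K from h)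
    have h5 := Nat.pow_le_pow_right two_pos h3
    omega
  let e₀ : K ⧸ Cfsg.oddCore K ≃* K :=
    (QuotientGroup.quotientMulEquivOfEq hcore).trans QuotientGroup.quotientBot
  rcases S0483.result P 2 le_rfl IsKleinFour.nonempty_mulEquiv with ⟨F, i1, i2, ho, h3, ⟨e⟩⟩ | ⟨⟨e⟩⟩
  · have e' := e₀.symm.trans e
    refine ⟨F, i1, i2, ho, ?_, GW.Klein.PSL.mod_eight ho (Nat.card_congr e'.toEquiv ▸ h8), ⟨e'⟩⟩
    obtain ⟨k, hk⟩ := ho
    omega
  · exfalso
    refine h8 (Nat.card_congr (e₀.symm.trans e).toEquiv ▸ ?_)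
    rw [nat_card_alternatingGroup, Nat.card_fin]
    decide

theorem fourSimple [IsSimpleGroup K] (hK : ¬ IsMulCommutative K) (P : Sylow 2 K)
    (hP : IsKleinFour (P : Subgroup K)) : FourSimple K (P : Subgroup K) := by
  haveI : Fact (Nat.Prime 2) := ⟨Nat.prime_two⟩
  obtain ⟨F, i1, i2, ho, h5, hm, ⟨e⟩⟩ := exists_psl hK P hP
  haveI := hP
  set E := (P : Subgroup K) with hE
  set V := E.map e.toMonoidHom with hVdef
  have hV : IsKleinFour V :=
    ⟨by rw [card_map_of_injective (f := e.toMonoidHom) e.injective]; exact IsKleinFour.card_four,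
      by rw [← Monoid.exponent_eq_of_mulEquiv (E.equivMapOfInjective e.toMonoidHom e.injective)]
         exact IsKleinFour.exponent_two⟩
  have hmem : ∀ v ∈ E, e v ∈ V := fun v hv => mem_map_of_mem e.toMonoidHom hv
  have hcent : ∀ g : K, (∀ v ∈ E, Commute g v) → g ∈ E := by
    intro g hg
    obtain ⟨w, hw, hwe⟩ : e g ∈ V := psl_centralizer_four ho hV (by
      rintro _ ⟨v, hv, rfl⟩
      exact (hg v hv).map e.toMonoidHom)
    exact e.injective hwe ▸ hw
  refine ⟨hcent, fun φ hφ hfix x₀ hx₀ hx₀1 hC => ?_, fun R r _ hr hRodd hER => ?_⟩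
  · -- the fixed subgroup holds the centralisers of the involutions and the normaliser of `E`
    set H : Subgroup K := φ.toMonoidHom.eqLocus (MonoidHom.id K) with hH
    have hmemH : ∀ x, x ∈ H ↔ φ x = x := fun x => Iff.rfl
    have hN : normalizer (E : Set K) ≤ H := by
      intro n hn
      have hpow : ∀ (j : ℕ) (v : K), v ∈ E → (φ ^ j) v = v := by
        intro j
        induction j with
        | zero => intro v _; rfl
        | succ j ih => intro v hv; rw [pow_succ', MulAut.mul_apply, ih v hv, hfix v hv]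
      set w := n⁻¹ * φ n with hw
      have hwE : w ∈ E := hcent w fun v hv => by
        have h1 : φ (n * v * n⁻¹) = n * v * n⁻¹ := hfix _ ((mem_normalizer_iff.1 hn v).1 hv)
        rw [map_mul, map_mul, map_inv, hfix v hv] at h1
        show w * v = v * w
        rw [hw]
        calc n⁻¹ * φ n * v = n⁻¹ * (φ n * v * (φ n)⁻¹) * φ n := by group
          _ = v * (n⁻¹ * φ n) := by rw [h1]; group
      have hiter : ∀ j : ℕ, (φ ^ j) n = n * w ^ j := by
        intro j
        induction j with
        | zero => simp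
        | succ j ih =>
          rw [pow_succ', MulAut.mul_apply, ih, map_mul, map_pow, hfix w hwE, pow_succ' w, ← mul_assoc n w, hw,
            mul_inv_cancel_left]
      have h1 := hiter (orderOf φ)
      rw [pow_orderOf_eq_one, MulAut.one_apply, left_eq_mul] at h1
      have h2 : w * w = 1 := congrArg Subtype.val (IsKleinFour.mul_self (⟨w, hwE⟩ : E))
      have h3 : w = 1 := by
        obtain ⟨k, hk⟩ := hφ
        rw [hk, pow_succ, pow_mul, pow_two, h2, one_pow, one_mul] at h1
        exact h1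
      rw [hmemH]
      exact (inv_mul_eq_one.1 h3).symm
    have hCH : ∀ v ∈ E, v ≠ 1 → centralizer ({v} : Set K) ≤ H := by
      intro v hv hv1 c hc
      obtain ⟨m, hm, hmv⟩ := psl_transitive ho hV (hmem x₀ hx₀) (hmem v hv) (fun h => hx₀1 (e.map_eq_one_iff.1 h))
        fun h => hv1 (e.map_eq_one_iff.1 h)
      set n := e.symm m with hn
      have hnE : n ∈ normalizer (E : Set K) := mem_normalizer_fintype fun y hy => by
        obtain ⟨y', hy', hye⟩ := (mem_normalizer_iff.1 hm (e y)).1 (hmem y hy)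
        have h1 : e (n * y * n⁻¹) = e y' := by
          rw [map_mul, map_mul, map_inv, hn, e.apply_symm_apply]
          exact hye.symm
        rw [SetLike.mem_coe, e.injective h1]
        exact hy'
      have hnv : n * x₀ * n⁻¹ = v := e.injective (by rw [map_mul, map_mul, map_inv, hn, e.apply_symm_apply, hmv])
      have h1 : Commute (n⁻¹ * c * n) x₀ := by
        have h2 : Commute c v := mem_centralizer_singleton_iff.1 hc
        rw [← hnv] at h2
        have h3 := h2.map (MulAut.conj n⁻¹).toMonoidHom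
        simpa [mul_assoc] using h3
      have h4 := H.mul_mem (H.mul_mem (hN hnE) ((hmemH _).2 (hC _ h1))) (H.inv_mem (hN hnE))
      rwa [show n * (n⁻¹ * c * n) * n⁻¹ = c by group] at h4
    by_contra hφ1
    have hHtop : H ≠ ⊤ := fun h => hφ1 (MulEquiv.ext fun x => (hmemH x).1 (h ▸ mem_top x))
    have hse := CoreConsumers.isStronglyEmbedded_of_centralizers hHtop P hN
      (fun h => hx₀1 (mem_bot.1 (h ▸ hx₀)))
      fun v hv hv2 => hCH v hv fun h => by rw [h, orderOf_one] at hv2; omega
    obtain ⟨hB, -⟩ := Fus.Gold.bender_of_se hK hse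
    have h4 : Nat.card E = 4 := IsKleinFour.card_four
    have h60 : Nat.card K = 60 := by
      rcases CentRank.small_bender hB P (by
        rw [← h4, ← Nat.card_coe_set_eq]
        exact Nat.card_le_card_of_injective (fun x => (⟨x.1, x.2.1⟩ : ↥E))
          fun a b h => Subtype.ext (congrArg (fun z : ↥E => (z : K)) h :)) with ⟨h, -⟩ | h
      · exact h
      · have := h.card
        rw [← hE, h4] at this
        omega
    have hq : Fintype.card F = 5 := by
      have h := GW.Klein.PSL.card_mul (F := F) ho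
      rw [← Nat.card_congr e.toEquiv, h60] at h
      rcases Nat.lt_or_ge (Fintype.card F) 6 with h6 | h6
      · omega
      · exfalso
        have h7 : 6 * (5 * 7) ≤ Fintype.card F * ((Fintype.card F - 1) * (Fintype.card F + 1)) :=
          Nat.mul_le_mul h6 (Nat.mul_le_mul (by omega) (by omega))
        omega
    have h1 := psl_aut_five hq hV (β := MulAut.congr e φ) (by rwa [MulEquiv.orderOf_eq]) (by
      rintro _ ⟨v, hv, rfl⟩
      show e (φ (e.symm (e v))) = e v
      rw [e.symm_apply_apply, hfix v hv])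
    exact hφ1 ((MulAut.congr e).map_eq_one_iff.1 h1)
  · set R' := R.map e.toMonoidHom
    have hVR : V ≤ normalizer (R' : Set (Matrix.ProjectiveSpecialLinearGroup (Fin 2) F)) :=
      (map_mono hER).trans (Subgroup.le_normalizer_map _)
    haveI := psl_cyclic ho hV (hr.map e.toMonoidHom)
      (by rw [card_map_of_injective (f := e.toMonoidHom) e.injective]; exact hRodd) hVR
    exact isCyclic_of_surjective (R.equivMapOfInjective e.toMonoidHom e.injective).symm.toMonoidHom
      (MulEquiv.surjective _)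

end Cfsg.Agent.Invol.AbelTwo
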