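import Cfsg.Agent.Lib.Invol.AbelTwo.JFive
import Cfsg.Agent.Lib.Spor.J1.Structure
import Cfsg.Prelude.Def_LocalEven
import Cfsg.Prelude.Def_Sporadic

/-!
# From the centraliser shape to the predicates of Ree type and of order `175560`
-/

set_option autoImplicit false
set_option linter.unusedSectionVars false
set_option linter.style.haveILetI false

namespace Cfsg.Agent.Invol.AbelTwo

open Subgroup

universe u

variable {G : Type u} [Group G] [Finite G]

/-- An involution of an abelian Sylow 2-subgroup has a centraliser of odd index. -/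
theorem odd_index_centralizer (S : Sylow 2 G) (hS : IsMulCommutative ↥(S : Subgroup G)) {t : G}
    (ht : t ∈ (S : Subgroup G)) : Odd (centralizer ({t} : Set G)).index := by
  haveI : Fact (Nat.Prime 2) := ⟨Nat.prime_two⟩
  have hle : (S : Subgroup G) ≤ centralizer ({t} : Set G) := fun x hx => mem_centralizer_singleton_iff.2
    (congrArg Subtype.val (hS.is_comm.comm (⟨x, hx⟩ : ↥(S : Subgroup G)) ⟨t, ht⟩))
  refine Nat.not_even_iff_odd.1 fun he => ?_
  have h2 : 2 ∣ (S : Subgroup G).index := (even_iff_two_dvd.1 he).trans (index_dvd_of_le hle)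
  exact S.not_dvd_index h2

/-- The centraliser shape at an odd power of three is Ree type. -/
theorem reeType_of [IsSimpleGroup G] (hG : ¬ IsMulCommutative G) (S : Sylow 2 G)
    (hS : IsMulCommutative ↥(S : Subgroup G)) {t : G} (htS : t ∈ (S : Subgroup G)) (ht : orderOf t = 2)
    {E : Subgroup G} (hE : Cfsg.IsInternalDirectProduct (zpowers t) E (centralizer ({t} : Set G)))
    {F : Type} [Field F] [Fintype F] {m : ℕ} (hm : 1 ≤ m) (hF : Fintype.card F = 3 ^ (2 * m + 1))
    (e : ↥E ≃* Matrix.ProjectiveSpecialLinearGroup (Fin 2) F) : Cfsg.IsReeType G :=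
  ⟨inferInstance, hG, t, E, m, hm, ht, odd_index_centralizer S hS htS, hE, F, inferInstance, inferInstance,
    hF, ⟨e⟩⟩

/-- Janko's first group has the order `175560`. -/
theorem isJ1_of_iso [IsSimpleGroup G] (h : Cfsg.Spor.IsoJ1 G) : Cfsg.IsJ1 G := by
  obtain ⟨e⟩ := h
  exact ⟨inferInstance, (Nat.card_congr e.toEquiv).trans J1Cert.card_J1⟩

end Cfsg.Agent.Invol.AbelTwo
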