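import Cfsg.Agent.Lib.Invol.AbelTwo.Fixed
import Cfsg.Agent.Lib.Invol.GW.Klein.Cores
import Cfsg.Agent.Lib.Invol.BenderUniqueness

/-!
# Maximal subgroups over `C(t)` when no further involution centralises a core

Such a subgroup `M` is `O(M)C(t)`, and for some odd prime `r` no involution of `S` but `t` centralises `O_r(M)`.
-/

set_option autoImplicit false
set_option linter.unusedSectionVars false
set_option linter.style.haveILetI false

namespace Cfsg.Agent.Invol.AbelTwo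

open Subgroup Fus.Gold GW.Klein GW.ThreeClass
open scoped Pointwise

universe u

variable {G : Type u} [Group G] [Finite G] {s : Setup G}

/-- No involution of `S` centralises the core of the centraliser of another. -/
def Free (s : Setup G) : Prop :=
  ∀ t ∈ s.A, t ≠ 1 → ∀ u ∈ s.A, u ≠ 1 → u ≠ t → ∃ w ∈ coreCent t, ¬ Commute u w

/-- No involution of `S` but `t` centralises `O_r(M)`. -/
def Good (s : Setup G) (t : G) (M : Subgroup G) (r : ℕ) : Prop :=
  r.Prime ∧ ∀ u ∈ s.A, (∀ x ∈ Cfsg.pCoreOf r M, Commute u x) → u = 1 ∨ u = t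

/-- A maximal subgroup over `C(t)`. -/
structure Over (s : Setup G) (t : G) (M : Subgroup G) : Prop where
  cfg : Cfg s
  free : Free s
  tA : t ∈ s.A
  t1 : t ≠ 1
  coatom : IsCoatom M
  le : centralizer ({t} : Set G) ≤ M

namespace Over

variable {t : G} {M : Subgroup G} (o : Over s t M)
include o

theorem sylow_le : s.A ≤ M := (s.le_centralizer o.tA).trans o.le

theorem t_mem : t ∈ M := o.le (mem_centralizer_singleton_iff.2 rfl)

theorem tt : t * t = 1 := s.sq o.tA

theorem commute_mem {c : G} (hc : Commute c t) : c ∈ M := o.le (mem_centralizer_singleton_iff.2 hc.eq)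

/-- The part of `N(S)` in `M` fixes `t`. -/
theorem fix {n : G} (hn : n ∈ M) (hnA : n ∈ normalizer (s.A : Set G)) : n * t * n⁻¹ = t := by
  classical
  haveI := s.simple
  haveI : Fact (Nat.Prime 2) := ⟨Nat.prime_two⟩
  by_contra hne
  obtain ⟨a, g, T⟩ := o.cfg.exists_turn o.tA o.t1
  set N := M ⊓ normalizer (s.A : Set G) with hN
  set O : Set G := {y | ∃ m ∈ N, m * t * m⁻¹ = y} with hO
  have hOA : ∀ y ∈ O, y ∈ s.A := by
    rintro _ ⟨m, hm, rfl⟩
    exact (mem_normalizer_iff.1 hm.2 t).1 o.tA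
  have hgN : g ∈ N := ⟨o.commute_mem T.gt, T.gS⟩
  have hgO : ∀ y ∈ O, g * y * g⁻¹ ∈ O := by
    rintro _ ⟨m, hm, rfl⟩
    exact ⟨g * m, mul_mem hgN hm, by group⟩
  have htO : t ∈ O := ⟨1, one_mem _, by group⟩
  set b := g * a * g⁻¹ with hb
  have hconjt : ∀ v, g * (t * v) * g⁻¹ = t * (g * v * g⁻¹) := fun v => by
    rw [show g * (t * v) * g⁻¹ = g * t * g⁻¹ * (g * v * g⁻¹) by group, T.gt.eq, mul_inv_cancel_right]
  -- whole triples
  have htri : ∀ f : G → G, (∀ v, g * f v * g⁻¹ = f (g * v * g⁻¹)) →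
      (f a ∈ O ∨ f b ∈ O ∨ f (a * b) ∈ O) → f a ∈ O ∧ f b ∈ O ∧ f (a * b) ∈ O := by
    intro f hf h
    have hab : f a ∈ O → f b ∈ O := fun h1 => by have := hgO _ h1; rwa [hf] at this
    have hbc : f b ∈ O → f (a * b) ∈ O := fun h1 => by have := hgO _ h1; rwa [hf, T.gb] at this
    have hca : f (a * b) ∈ O → f a ∈ O := fun h1 => by have := hgO _ h1; rwa [hf, T.gab] at this
    tauto
  -- the orbit has odd size
  have hodd : Odd O.ncard := by
    letI : MulAction ↥N G := MulAction.compHom G (MulAut.conj.comp N.subtype)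
    have hact : ∀ (m : ↥N) (y : G), m • y = (m : G) * y * (m : G)⁻¹ := fun _ _ => rfl
    have horb : O = MulAction.orbit ↥N t := by
      ext y
      simp only [hO, Set.mem_setOf_eq, MulAction.mem_orbit_iff, hact]
      exact ⟨fun ⟨m, hm, e⟩ => ⟨⟨m, hm⟩, e⟩, fun ⟨⟨m, hm⟩, e⟩ => ⟨m, hm, e⟩⟩
    rw [horb, ← Nat.card_coe_set_eq, Nat.card_congr (MulAction.orbitEquivQuotientStabilizer ↥N t),
      ← Subgroup.index_eq_card]
    have hle : s.A.subgroupOf N ≤ MulAction.stabilizer ↥N t := fun m hm => by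
      rw [MulAction.mem_stabilizer_iff, hact, s.comm (mem_subgroupOf.1 hm) o.tA, mul_inv_cancel_right]
    refine Odd.of_dvd_nat ?_ (index_dvd_of_le hle)
    obtain ⟨P, hP⟩ := o.cfg.sylow_eight (H := N) (le_inf o.sylow_le le_normalizer)
    rw [← hP, ← Nat.not_even_iff_odd, even_iff_two_dvd]
    exact P.not_dvd_index
  -- the orbit is all of `S#`
  have hx : n * t * n⁻¹ ∈ O := ⟨n, ⟨hn, hnA⟩, rfl⟩
  have hU : a ∈ O ∧ b ∈ O ∧ a * b ∈ O ∨ t * a ∈ O ∧ t * b ∈ O ∧ t * (a * b) ∈ O := by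
    obtain ⟨v, hv, e | e⟩ := T.cases _ (hOA _ hx) <;> rw [e] at hx <;> rcases hv with rfl | rfl | rfl | rfl
    · exact absurd e (fun e => o.t1 (conj_eq_one_iff.1 e))
    · exact Or.inl (htri id (fun _ => rfl) (Or.inl hx))
    · exact Or.inl (htri id (fun _ => rfl) (Or.inr (Or.inl hx)))
    · exact Or.inl (htri id (fun _ => rfl) (Or.inr (Or.inr hx)))
    · exact absurd (e.trans (mul_one t)) hne
    · exact Or.inr (htri (t * ·) hconjt (Or.inl hx))
    · exact Or.inr (htri (t * ·) hconjt (Or.inr (Or.inl hx)))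
    · exact Or.inr (htri (t * ·) hconjt (Or.inr (Or.inr hx)))
  have hab : a ≠ b := fun e => T.b1 (by
    have h1 : g * b * g⁻¹ = a * b := T.gb
    rwa [← e, s.sq T.aS] at h1)
  have hac : a ≠ a * b := fun e => T.b1 (left_eq_mul.1 e)
  have hbc : b ≠ a * b := fun e => T.a1 (right_eq_mul.1 e)
  have h4 : ∀ p q r : G, p ≠ q → p ≠ r → q ≠ r → t ≠ p → t ≠ q → t ≠ r → ({t, p, q, r} : Set G).ncard = 4 := by
    intro p q r hpq hpr hqr htp htq htr
    rw [Set.ncard_insert_of_notMem (by simp [htp, htq, htr]), Set.ncard_insert_of_notMem (by simp [hpq, hpr]),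
      Set.ncard_pair hqr]
  have htv : ∀ v, v ≠ 1 → t ≠ t * v := fun v hv e => hv (left_eq_mul.1 e)
  have hall : ∀ y ∈ s.A, y ≠ 1 → y ∈ O := by
    have main : (a ∈ O ∧ b ∈ O ∧ a * b ∈ O) ∧ (t * a ∈ O ∧ t * b ∈ O ∧ t * (a * b) ∈ O) := by
      rcases hU with h1 | h1
      · refine ⟨h1, htri (t * ·) hconjt ?_⟩
        by_contra hno
        push Not at hno
        have hsub : O = {t, a, b, a * b} := by
          ext y
          refine ⟨fun hy => ?_, ?_⟩
          · obtain ⟨v, hv, e | e⟩ := T.cases y (hOA y hy) <;> rcases hv with rfl | rfl | rfl | rfl <;> subst e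
            · obtain ⟨m, -, e⟩ := hy; exact absurd (conj_eq_one_iff.1 e) o.t1
            all_goals first
              | (simp only [Set.mem_insert_iff, Set.mem_singleton_iff, mul_one]; tauto)
              | exact absurd hy hno.1
              | exact absurd hy hno.2.1
              | exact absurd hy hno.2.2
          · rintro (rfl | rfl | rfl | rfl)
            exacts [htO, h1.1, h1.2.1, h1.2.2]
        rw [hsub, h4 a b (a * b) hab hac hbc T.ne_a T.ne_b T.ne_ab] at hodd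
        exact absurd hodd (by decide)
      · refine ⟨htri id (fun _ => rfl) ?_, h1⟩
        by_contra hno
        push Not at hno
        have hsub : O = {t, t * a, t * b, t * (a * b)} := by
          ext y
          refine ⟨fun hy => ?_, ?_⟩
          · obtain ⟨v, hv, e | e⟩ := T.cases y (hOA y hy) <;> rcases hv with rfl | rfl | rfl | rfl <;> subst e
            · obtain ⟨m, -, e⟩ := hy; exact absurd (conj_eq_one_iff.1 e) o.t1
            all_goals first
              | (simp only [Set.mem_insert_iff, Set.mem_singleton_iff, mul_one]; tauto)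
              | exact absurd hy hno.1
              | exact absurd hy hno.2.1
              | exact absurd hy hno.2.2
          · rintro (rfl | rfl | rfl | rfl)
            exacts [htO, h1.1, h1.2.1, h1.2.2]
        rw [hsub, h4 (t * a) (t * b) (t * (a * b)) (fun e => hab (mul_left_cancel e))
          (fun e => hac (mul_left_cancel e)) (fun e => hbc (mul_left_cancel e))
          (htv _ T.a1) (htv _ T.b1) (htv _ T.ab1)] at hodd
        exact absurd hodd (by decide)
    intro y hy hy1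
    obtain ⟨v, hv, rfl | rfl⟩ := T.cases y hy <;> rcases hv with rfl | rfl | rfl | rfl
    exacts [absurd rfl hy1, main.1.1, main.1.2.1, main.1.2.2, (mul_one t).symm ▸ htO, main.2.1, main.2.2.1,
      main.2.2.2]
  refine o.cfg.nse (S1174.result s.S s.A s.ne_bot s.closed fun htop => o.coatom.1 (top_le_iff.1 (htop ▸ iSup_le ?_)))
  rintro ⟨y, hy, hy2⟩ c hc
  obtain ⟨m, hm, rfl⟩ := hall y hy (fun e => by rw [e, orderOf_one] at hy2; omega)
  have h1 : m⁻¹ * c * m ∈ M := o.commute_mem (by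
    have h2 := (show Commute c (m * t * m⁻¹) from mem_centralizer_singleton_iff.1 hc).map (MulAut.conj m⁻¹).toMonoidHom
    simpa [mul_assoc] using h2)
  have h2 := M.mul_mem (M.mul_mem hm.1 h1) (M.inv_mem hm.1)
  rwa [show m * (m⁻¹ * c * m) * m⁻¹ = c by group] at h2

/-- Modulo the core of `M`, `t` is central. -/
theorem central {g : G} (hg : g ∈ M) : g * t * g⁻¹ * t⁻¹ ∈ oddOf M := by
  haveI : Fact (Nat.Prime 2) := ⟨Nat.prime_two⟩
  obtain ⟨P, hP⟩ := o.cfg.sylow_eight o.sylow_le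
  obtain ⟨N, hN, hNo, hc⟩ := S0215.result P (⟨t, o.t_mem⟩ : ↥M)
    (by rw [orderOf_mk]; exact s.orderOf_eq o.tA o.t1) (hP.ge (mem_subgroupOf.2 o.tA)) fun m hm => by
      have h1 : (m : G) * t * (m : G)⁻¹ ∈ s.A := mem_subgroupOf.1 (hP.le hm)
      obtain ⟨n, hnM, hnA, hn⟩ := o.cfg.fusion_in o.sylow_le m.2 o.tA h1
      exact Subtype.ext (show (m : G) * t * (m : G)⁻¹ = t from hn.symm.trans (o.fix hnM hnA))
  have h1 : (t * g * t⁻¹ * g⁻¹)⁻¹ ∈ oddOf M := inv_mem
    ⟨_, Grp.le_pPrimeCore (p := 2) hN (Nat.coprime_two_right.2 hNo) (hc ⟨g, hg⟩), rfl⟩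
  rwa [show (t * g * t⁻¹ * g⁻¹)⁻¹ = g * t * g⁻¹ * t⁻¹ by group] at h1

/-- An element of odd order of `M` inverted by `t` lies in the core. -/
theorem mem_core_of_inverted {x : G} (hx : x ∈ M) (hxo : Odd (orderOf x)) (hinv : t * x * t⁻¹ = x⁻¹) :
    x ∈ oddOf M := by
  have h1 := o.central hx
  rw [show x * t * x⁻¹ * t⁻¹ = x * (t * x * t⁻¹)⁻¹ by group, hinv, inv_inv] at h1
  obtain ⟨k, hk⟩ := exists_sqrt hxo
  rw [← hk, ← (Commute.refl x).mul_pow]
  exact pow_mem h1 k

/-- `M` is the product of its core and `C(t)`. -/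
theorem decompose {g : G} (hg : g ∈ M) : ∃ k ∈ oddOf M, ∃ c, Commute c t ∧ g = k * c := by
  set k := g * t * g⁻¹ * t⁻¹ with hk
  have hkO := o.central hg
  obtain ⟨j, hj⟩ := exists_sqrt (odd_orderOf (odd_card_oddOf M) hkO)
  have htk : t * k * t⁻¹ = k⁻¹ := by
    rw [hk, inv_eq_self o.tt, show (g * t * g⁻¹ * t)⁻¹ = t⁻¹ * g * t⁻¹ * g⁻¹ by group, inv_eq_self o.tt]
    simp only [mul_assoc, o.tt, mul_one]
  have htr : t * k ^ j * t⁻¹ = (k ^ j)⁻¹ := by rw [← conj_pow, htk, inv_pow]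
  refine ⟨k ^ j, pow_mem hkO j, (k ^ j)⁻¹ * g, ?_, by group⟩
  refine commute_of_conj ?_
  calc (k ^ j)⁻¹ * g * t * ((k ^ j)⁻¹ * g)⁻¹ = (k ^ j)⁻¹ * k * (t * k ^ j * t⁻¹) * t := by rw [hk]; group
    _ = (k ^ j)⁻¹ * (k ^ j * k ^ j) * (k ^ j)⁻¹ * t := by rw [htr, hj]
    _ = t := by group

theorem coreCent_le : coreCent t ≤ oddOf M := by
  set W := coreCent t
  set O := oddOf M
  have hWM : W ≤ M := (oddOf_le _).trans o.le
  have hWn : W ≤ normalizer (O : Set G) := hWM.trans (le_normalizer_oddOf M)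
  have hodd : Odd (Nat.card ↥(W ⊔ O : Subgroup G)) := by
    have h1 := Grp.card_sup_mul_card_inf (H := W) (N := O) hWn
    refine ((odd_card_oddOf _).mul (odd_card_oddOf M)).of_dvd_nat ⟨_, h1.symm⟩
  refine le_sup_left.trans (le_oddOf (sup_le hWM (oddOf_le M)) (fun m hm => ?_) hodd)
  obtain ⟨k, hk, c, hc, rfl⟩ := o.decompose hm
  have h1 : k ∈ normalizer ((W ⊔ O : Subgroup G) : Set G) := le_normalizer (mem_sup_right hk)
  refine mul_mem h1 (mem_normalizer_fintype fun x hx => ?_)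
  obtain ⟨a, ha, b, hb, rfl⟩ := exists_mul_of_sup hWn (show x ∈ O ⊔ W by rwa [sup_comm])
  rw [SetLike.mem_coe, show c * (a * b) * c⁻¹ = c * a * c⁻¹ * (c * b * c⁻¹) by group]
  exact mul_mem (mem_sup_right (conj_mem_oddOf (o.commute_mem hc) ha)) (mem_sup_left (conj_mem_coreCent hc hb))

theorem exists_good : ∃ r, Good s t M r := by
  by_contra hno
  push Not at hno
  obtain ⟨a, g, T⟩ := o.cfg.exists_turn o.tA o.t1
  have hgM := o.commute_mem T.gt
  have key : ∀ p : ℕ, p.Prime → ∀ x ∈ Cfsg.pCoreOf p M, Commute a x := by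
    intro p hp
    obtain ⟨u, hu, hc, hu'⟩ : ∃ u ∈ s.A, (∀ x ∈ Cfsg.pCoreOf p M, Commute u x) ∧ u ≠ 1 ∧ u ≠ t := by
      by_contra hh
      push Not at hh
      exact hno p ⟨hp, fun u hu hc => or_iff_not_imp_left.2 (hh u hu hc)⟩
    have huC : u ∈ centralizer (Cfsg.pCoreOf p M : Set G) := mem_centralizer_iff.2 fun x hx => (hc x hx).symm.eq
    have hgn : g ∈ normalizer ((centralizer (Cfsg.pCoreOf p M : Set G) : Subgroup G) : Set G) :=
      mem_normalizer_fintype fun z hz => mem_centralizer_iff.2 fun x hx => by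
        have h2 := mem_centralizer_iff.1 hz _ (GW.ThreeClass.conj_mem' (lg_le_normalizer_pCoreOf M hgM) hx)
        calc x * (g * z * g⁻¹) = g * ((g⁻¹ * x * g) * z) * g⁻¹ := by group
          _ = g * (z * (g⁻¹ * x * g)) * g⁻¹ := by rw [h2]
          _ = g * z * g⁻¹ * x := by group
    obtain ⟨ha, -⟩ := T.key hgn hu huC hu'.1 hu'.2
    exact fun x hx => (mem_centralizer_iff.1 ha x hx).symm
  haveI := isSolvable_of_odd (odd_card_oddOf M)
  have hle := le_centralizer_of_cores (A := zpowers a) (K := oddOf M)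
    (zpowers_le.2 (le_normalizer_oddOf M (o.sylow_le T.aS)))
    (by rw [Nat.card_zpowers, s.orderOf_eq T.aS T.a1]; exact Nat.coprime_two_left.2 (odd_card_oddOf M))
    (fun p hp y hy b hb => by
      haveI := Fact.mk hp
      have hy' : y ∈ Cfsg.pCoreOf p M := le_opOf ((opOf_le p _).trans (oddOf_le M))
        ((le_normalizer_oddOf M).trans (normalizer_le_normalizer_opOf p _)) (isPGroup_opOf p _) hy
      obtain ⟨i, rfl⟩ := mem_zpowers_iff.1 hb
      exact (key p hp y hy').zpow_left i)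
  obtain ⟨w, hw, hne⟩ := o.free t o.tA o.t1 a T.aS T.a1 (Ne.symm T.ne_a)
  exact hne (mem_centralizer_iff.1 (hle (mem_zpowers a)) w (o.coreCent_le hw)).symm

/-- A 2-element of `M` centralising `O_r(M)` is `1` or `t`; so `r` is odd. -/
theorem good_ne_two {r : ℕ} (hr : Good s t M r) : r ≠ 2 := by
  rintro rfl
  haveI : Fact (Nat.Prime 2) := ⟨Nat.prime_two⟩
  obtain ⟨u, hu, hu1, hut⟩ := o.cfg.exists_ne (t := t)
  refine (hr.2 u hu fun x hx => ?_).elim hu1 hut
  obtain ⟨P, hP⟩ := o.cfg.sylow_eight o.sylow_le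
  obtain ⟨y, hy, rfl⟩ := hx
  exact s.comm hu (mem_subgroupOf.1 (hP.le (Grp.pCore_le_sylow P hy)))

theorem good_odd {r : ℕ} (hr : Good s t M r) : Odd (Nat.card ↥(Cfsg.pCoreOf r M)) := by
  haveI := Fact.mk hr.1
  obtain ⟨k, hk⟩ := IsPGroup.iff_card.1 (lg_isPGroup_pCoreOf (p := r) M)
  rw [hk]
  exact (hr.1.odd_of_ne_two (o.good_ne_two hr)).pow

theorem good_ne_bot {r : ℕ} (hr : Good s t M r) : Cfsg.pCoreOf r M ≠ ⊥ := fun e => by
  obtain ⟨u, hu, hu1, hut⟩ := o.cfg.exists_ne (t := t)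
  exact (hr.2 u hu fun x hx => by rw [e, mem_bot] at hx; exact hx ▸ Commute.one_right u).elim hu1 hut

end Over

end Cfsg.Agent.Invol.AbelTwo
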