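import Cfsg.Agent.Lib.Invol.AbelTwo.LayLemma

/-!
# Conjugates and the Fitting subgroup

Conjugating the data by `N(S)`, and the criterion for an element inverted by an involution to lie in a core.
-/

set_option autoImplicit false
set_option linter.unusedSectionVars false
set_option linter.style.haveILetI false

namespace Cfsg.Agent.Invol.AbelTwo

open Subgroup Fus.Gold GW.Klein GW.ThreeClass BenderPush
open scoped Pointwise

universe u

variable {G : Type u} [Group G] [Finite G]

theorem pCoreOf_smul (g : G) {p : ℕ} [Fact p.Prime] (X : Subgroup G) :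
    Cfsg.pCoreOf p (MulAut.conj g • X) = MulAut.conj g • Cfsg.pCoreOf p X := by
  have key : ∀ (g : G) (X : Subgroup G),
      MulAut.conj g • Cfsg.pCoreOf p X ≤ Cfsg.pCoreOf p (MulAut.conj g • X) := fun g X =>
    lg_le_pCoreOf (Subgroup.pointwise_smul_le_pointwise_smul_iff.mpr (lg_pCoreOf_le X))
      (conj_le_normalizer (lg_le_normalizer_pCoreOf X))
      ((lg_isPGroup_pCoreOf (p := p) X).map (MulAut.conj g).toMonoidHom)
  refine le_antisymm (fun x hx => ?_) (key g X)
  have := key g⁻¹ (MulAut.conj g • X) (mem_conj.2 hx)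
  rw [Grp.conj_smul_conj_smul, inv_mul_cancel, map_one, one_smul] at this
  exact Grp.mem_smul_conj.2 (by simpa using this)

/-- Conjugate subgroups have cores at the same primes. -/
theorem pCoreOf_smul_ne_bot (g : G) {p : ℕ} [Fact p.Prime] {X : Subgroup G} (h : Cfsg.pCoreOf p X ≠ ⊥) :
    Cfsg.pCoreOf p (MulAut.conj g • X) ≠ ⊥ := by
  rw [pCoreOf_smul]
  intro e
  refine h ((eq_bot_iff_forall _).2 fun x hx => ?_)
  have h1 : g * x * g⁻¹ ∈ MulAut.conj g • Cfsg.pCoreOf p X := mem_conj.2 hx
  rw [e, mem_bot] at h1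
  exact conj_eq_one_iff.1 h1

variable {s : Setup G}

theorem Over.smul {t n : G} {M : Subgroup G} (o : Over s t M) (hn : n ∈ normalizer (s.A : Set G)) :
    Over s (n * t * n⁻¹) (MulAut.conj n • M) where
  cfg := o.cfg
  free := o.free
  tA := (mem_normalizer_iff.1 hn t).1 o.tA
  t1 := fun e => o.t1 (conj_eq_one_iff.1 e)
  coatom := ((MulAut.conj n).mapSubgroup.isCoatom_iff M).2 o.coatom
  le := fun c hc => Grp.mem_smul_conj.2 (o.commute_mem (by
    have h1 := (show Commute c (n * t * n⁻¹) from mem_centralizer_singleton_iff.1 hc).map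
      (MulAut.conj n⁻¹).toMonoidHom
    simpa [mul_assoc] using h1))

theorem Good.smul {t n : G} {M : Subgroup G} {r : ℕ} (h : Good s t M r) (hn : n ∈ normalizer (s.A : Set G)) :
    Good s (n * t * n⁻¹) (MulAut.conj n • M) r := by
  haveI := Fact.mk h.1
  refine ⟨h.1, fun u hu hc => ?_⟩
  have hu' : n⁻¹ * u * n ∈ s.A := GW.ThreeClass.conj_mem' hn hu
  have hx : ∀ x ∈ Cfsg.pCoreOf r M, Commute (n⁻¹ * u * n) x := fun x hx => by
    have h1 := (hc (n * x * n⁻¹) (by rw [pCoreOf_smul]; exact mem_conj.2 hx)).map (MulAut.conj n⁻¹).toMonoidHom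
    simpa [mul_assoc] using h1
  rcases h.2 _ hu' hx with e | e
  · left; simpa [mul_assoc] using congrArg (fun y => n * y * n⁻¹) e
  · right; simpa [mul_assoc] using congrArg (fun y => n * y * n⁻¹) e

/-- An element of prime power order centralising all cores lies in a core when there is no layer. -/
theorem mem_core_of_centralizing {H : Subgroup G} (hlay : lay H = ⊥) {d : G} (hd : d ∈ H) {p k : ℕ} (hp : p.Prime)
    (ho : orderOf d = p ^ k) (hc : ∀ q : ℕ, q.Prime → ∀ y ∈ Cfsg.pCoreOf q H, Commute d y) :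
    d ∈ Cfsg.pCoreOf p H := by
  have h1 : zpowers d ≤ gf H := BenderUnique.centralizer_gf_le H (zpowers_le.2 hd)
    (le_centralizer_gf H (by rw [hlay]; exact bot_le) fun q hq => le_centralizer_iff.1 (zpowers_le.2
      (mem_centralizer_iff.2 fun y hy => (hc q hq y hy).symm.eq)))
  have h2 := h1 (mem_zpowers d)
  rw [gf, Cfsg.generalizedFittingSubgroup, Subgroup.map_sup, show (Cfsg.layer ↥H).map H.subtype = ⊥ from hlay,
    bot_sup_eq] at h2
  exact mem_core H h2 hp ho

/-- An element of prime power order inverted by an involution lies in a core when the involution centralises or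
inverts each core and there is no layer. -/
theorem mem_core_of_inverted {H : Subgroup G} (hlay : lay H = ⊥) {z d : G}
    (hd : d ∈ H) (hdo : Odd (orderOf d)) (hzd : z * d * z⁻¹ = d⁻¹) {p k : ℕ} (hp : p.Prime)
    (ho : orderOf d = p ^ k)
    (hc : ∀ q : ℕ, q.Prime → (∀ y ∈ Cfsg.pCoreOf q H, Commute z y) ∨
      (∀ y ∈ Cfsg.pCoreOf q H, z * y * z⁻¹ = y⁻¹)) :
    d ∈ Cfsg.pCoreOf p H := by
  refine mem_core_of_centralizing hlay hd hp ho fun q hq y hy => ?_
  have hy' : d * y * d⁻¹ ∈ Cfsg.pCoreOf q H := (mem_normalizer_iff.1 (lg_le_normalizer_pCoreOf H hd) y).1 hy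
  rcases hc q hq with h | h
  · exact commute_fixed hdo hzd (h y hy) (h _ hy')
  · exact commute_inverted hdo hzd (h y hy) (h _ hy')

/-- An involution without fixed points on a core of odd order inverts it. -/
theorem inverts_core {H : Subgroup G} {z : G} (hz : z * z = 1) (hzH : z ∈ H) {q : ℕ} (hq : q.Prime) (hq2 : q ≠ 2)
    (hfix : ∀ y ∈ Cfsg.pCoreOf q H, Commute z y → y = 1) :
    ∀ y ∈ Cfsg.pCoreOf q H, z * y * z⁻¹ = y⁻¹ := by
  haveI := Fact.mk hq
  refine fun y hy => inverted_of_fixed_free hz ?_ (lg_le_normalizer_pCoreOf H hzH) hfix hy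
  obtain ⟨k, hk⟩ := IsPGroup.iff_card.1 (lg_isPGroup_pCoreOf (p := q) H)
  rw [hk]
  exact (hq.odd_of_ne_two hq2).pow

namespace Over

variable {t : G} {M : Subgroup G} (o : Over s t M)
include o

theorem isOwn : BenderUnique.IsOwn M :=
  haveI := s.simple
  BenderUnique.isOwn_of_coatom o.coatom

/-- A subgroup of `F(M)` and a maximal subgroup over its normaliser give `M ⇝ H`. -/
theorem leads {H Q : Subgroup G} {r : ℕ} (hr : r.Prime) (hQ : Q ≠ ⊥) (hQM : Q ≤ Cfsg.pCoreOf r M)
    (hH : gf M ⊓ normalizer (Q : Set G) ≤ H) : BenderUnique.Leads M H :=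
  BenderUnique.Leads.of o.isOwn ⟨Q, hQ, hQM.trans (core_le_fitting M hr), hH⟩

end Over

end Cfsg.Agent.Invol.AbelTwo
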