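import Cfsg.Agent.Lib.Invol.AbelTwo.CaseTwo
import Cfsg.Agent.Lib.Fus.Goldschmidt.Bender
import Cfsg.Agent.Lib.Recog.SuzukiMaxOrders
import Cfsg.Agent.Lib.Classical.DicksonSL

/-!
# Simple groups with abelian Sylow 2-subgroups

`walter`: a strongly embedded subgroup, `L2(q)` with `q ≡ 3, 5` mod 8, or order eight and each centraliser of an
involution is maximal and `⟨t⟩ × E` with `E` having a normal `L2(q)` of trivial centraliser.
-/

set_option autoImplicit false
set_option linter.unusedSectionVars false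
set_option linter.style.haveILetI false

namespace Cfsg.Agent.Invol.AbelTwo

open Subgroup Fus.Gold GW.Klein GW.ThreeClass

universe u

/-- The shape of the centraliser of `t` in a group of `JR` kind. -/
def JRShape {G : Type u} [Group G] (t : G) : Prop :=
  IsCoatom (centralizer ({t} : Set G)) ∧
    ∃ E : Subgroup G, Cfsg.IsInternalDirectProduct (zpowers t) E (centralizer ({t} : Set G)) ∧
      ∃ (F : Type) (_ : Field F) (_ : Fintype F), Odd (Fintype.card F) ∧ 3 < Fintype.card F ∧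
        ∃ N : Subgroup ↥E, N.Normal ∧ Nonempty (↥N ≃* Matrix.ProjectiveSpecialLinearGroup (Fin 2) F) ∧
          centralizer (N : Set ↥E) = ⊥

variable {L : Type u} [Group L] [Finite L]

/-- A Bender group with Sylow 2-subgroups of order eight is tame. -/
theorem se_tame [IsSimpleGroup L] (hna : ¬ IsMulCommutative L) {H : Subgroup L} (hH : Cfsg.IsStronglyEmbedded H)
    (P : Sylow 2 L) (hP : Nat.card ↥(P : Subgroup L) = 8) (hPc : IsMulCommutative ↥(P : Subgroup L)) :
    Tame L := by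
  haveI : Fact (Nat.Prime 2) := ⟨Nat.prime_two⟩
  have hpow : ∀ n : ℕ, 2 ^ n ∣ Nat.card L → 2 ^ n ≤ 8 := fun n hn => by
    refine le_trans ?_ hP.le
    rw [Sylow.card_eq_multiplicity]
    exact Nat.pow_le_pow_right two_pos ((Nat.prime_two.pow_dvd_iff_le_factorization Nat.card_pos.ne').1 hn)
  rcases (bender_of_se hna hH).1 with ⟨F, i1, i2, hc, -, ⟨e₀⟩⟩ | ⟨K, i1, i2, q, hq, h4, hK, ⟨e⟩⟩ |
    ⟨F, i1, i2, m, hm, hF, ⟨e⟩⟩
  · classical
    haveI := hc
    let e := e₀.trans (Invol.GW.SLTwoEquivPSL (F := F))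
    let D := Dickson.pslData (F := F) 2
    intro v hv R hR hn
    have hv1 : e v ≠ 1 := fun h => by
      rw [e.map_eq_one_iff] at h
      rw [h, orderOf_one] at hv
      omega
    have hvp : (e v) ^ 2 = 1 := by rw [← map_pow, orderOf_dvd_iff_pow_eq_one.1 (dvd_of_eq hv), map_one]
    -- all fixed points of an involution on `R` are trivial
    have hfix : ∀ w : L, w ≠ 1 → w * w = 1 → ∀ x ∈ R, Commute x w → x = 1 := by
      intro w hw1 hw2 x hx hxw
      have hwp : (e w) ^ 2 = 1 := by rw [← map_pow, pow_two, hw2, map_one]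
      have hw1' : e w ≠ 1 := fun h => hw1 (e.map_eq_one_iff.1 h)
      have h1 := D.uni_exp hw1' hwp (D.uni_cent hw1' hwp (hxw.map e))
      rw [← map_pow, e.map_eq_one_iff, pow_two] at h1
      exact GW.Klein.eq_one_of_odd hR hx h1
    -- three involutions commuting with `v`
    obtain ⟨g, hg⟩ := Invol.exists_conj_mem_sylow (n := 1) (x := v) (by rw [hv, pow_one]) P
    obtain ⟨w, hw, hw1, hwv⟩ : ∃ w : L, Commute w v ∧ w ≠ 1 ∧ w ≠ v := by
      by_contra hno
      push Not at hno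
      have hle : Nat.card ↥(P : Subgroup L) ≤ 2 := by
        rw [show Nat.card ↥(P : Subgroup L) = ((P : Subgroup L) : Set L).ncard from Nat.card_coe_set_eq _]
        refine le_trans (((P : Subgroup L) : Set L).ncard_le_ncard (t := {1, g * v * g⁻¹}) (fun x hx => ?_)
          (Set.toFinite _)) ((Set.ncard_insert_le _ _).trans (by rw [Set.ncard_singleton]))
        by_cases hx1 : x = 1
        · exact Or.inl hx1
        refine Or.inr ?_
        have h1 : Commute (g⁻¹ * x * g) v := by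
          have h2 := (show Commute x (g * v * g⁻¹) from congrArg Subtype.val
            (hPc.is_comm.comm (⟨x, hx⟩ : ↥(P : Subgroup L)) ⟨_, hg⟩)).map (MulAut.conj g⁻¹).toMonoidHom
          simpa [mul_assoc] using h2
        have h2 := hno _ h1 (fun e => hx1 (by simpa [mul_assoc] using congrArg (fun y => g * y * g⁻¹) e))
        rw [Set.mem_singleton_iff, ← h2]
        group
      omega
    have hww : w * w = 1 := by
      have h1 := D.uni_exp hv1 hvp (D.uni_cent hv1 hvp (hw.map e))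
      rwa [← map_pow, e.map_eq_one_iff, pow_two] at h1
    have hvv : v * v = 1 := (pow_two v).symm.trans (orderOf_dvd_iff_pow_eq_one.1 (dvd_of_eq hv))
    have hnC : ∀ c, Commute c v → c ∈ normalizer (R : Set L) := fun c hc =>
      hn (mem_centralizer_singleton_iff.2 hc.eq)
    have hvw1 : v * w ≠ 1 := fun h => hwv (by
      have h1 := congrArg (v * ·) h
      rwa [← mul_assoc, hvv, one_mul, mul_one] at h1)
    have hvwsq : v * w * (v * w) = 1 := by
      rw [hw.mul_mul_mul_comm, hvv, hww, one_mul]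
    have hinv : ∀ z : L, z ≠ 1 → z * z = 1 → Commute z v → ∀ x ∈ R, z * x * z⁻¹ = x⁻¹ := fun z hz1 hz2 hzv x hx =>
      inverted_of_fixed_free hz2 hR (hnC z hzv) (fun c hc hzc => hfix z hz1 hz2 c hc hzc.symm) hx
    have hv1' : v ≠ 1 := fun h => hv1 (by rw [h, map_one])
    refine (eq_bot_iff_forall _).2 fun x hx => hfix (v * w) hvw1 hvwsq x hx (Commute.symm (commute_of_conj ?_))
    rw [show v * w * x * (v * w)⁻¹ = v * (w * x * w⁻¹) * v⁻¹ by group, hinv w hw1 hww hw x hx,
      show v * x⁻¹ * v⁻¹ = (v * x * v⁻¹)⁻¹ by group, hinv v hv1' hvv (Commute.refl v) x hx, inv_inv]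
  · exfalso
    obtain ⟨p, hc⟩ := CharP.exists K
    haveI : Fact p.Prime := ⟨CharP.char_is_prime K p⟩
    obtain rfl : p = 2 := Dickson.p_eq_two p (by rw [hK]; exact hq.pow_of_ne_zero two_ne_zero)
    obtain ⟨k, hk⟩ := FiniteField.card K 2
    obtain ⟨j, -, hj⟩ := (Nat.dvd_prime_pow Nat.prime_two).1
      (show q ∣ 2 ^ (k : ℕ) from hk.2 ▸ hK ▸ dvd_pow_self q two_ne_zero)
    have hdvd : q ^ 3 ∣ Nat.card L := by
      rw [Nat.card_congr e.toEquiv]
      have hSU : q ^ 3 ∣ Nat.card (Cfsg.SU 3 K q) := by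
        rw [Classical.UnitMult.natCard_SU3 hK, mul_assoc]
        exact dvd_mul_right _ _
      rw [Subgroup.card_eq_card_quotient_mul_card_subgroup (Subgroup.center (Cfsg.SU 3 K q))] at hSU
      refine Nat.Coprime.dvd_of_dvd_mul_right ?_ hSU
      rw [Classical.natCard_center_SU hK (by norm_num)]
      refine Nat.Coprime.coprime_dvd_right (Nat.gcd_dvd_right _ _) ?_
      exact (Nat.coprime_self_add_right.2 (Nat.coprime_one_right q)).pow_left 3
    rw [hj, ← pow_mul] at hdvd
    have h := hpow _ hdvd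
    have : 2 ^ 6 ≤ 2 ^ (j * 3) := by
      refine Nat.pow_le_pow_right two_pos ?_
      rcases j with _ | _ | j
      · simp [hj] at h4
      · simp [hj] at h4
      · omega
    omega
  · exfalso
    have h := hpow (2 * (2 * m + 1)) (by
      rw [Nat.card_congr e.toEquiv, Recog.SuzMax.card_lie ⟨hm, hF⟩, Recog.SuzMax.szOrd, mul_assoc, ← pow_mul,
        mul_comm 2 (2 * m + 1)]
      exact dvd_mul_right _ _)
    have : 2 ^ 6 ≤ 2 ^ (2 * (2 * m + 1)) := Nat.pow_le_pow_right two_pos (by omega)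
    omega

/-- With abelian Sylow 2-subgroups and no strongly embedded subgroup `S` is elementary. -/
theorem exists_setup [IsSimpleGroup L] (hna : ¬ IsMulCommutative L) (h2 : 2 ∣ Nat.card L) (S : Sylow 2 L)
    (hS : IsMulCommutative ↥(S : Subgroup L)) (hse : ¬ ∃ H : Subgroup L, Cfsg.IsStronglyEmbedded H) :
    ∃ s : Setup L, (s.S : Subgroup L) = s.A ∧ s.S = S := by
  haveI : Fact (Nat.Prime 2) := ⟨Nat.prime_two⟩
  have hc : ∀ x ∈ (S : Subgroup L), ∀ y ∈ (S : Subgroup L), Commute x y := fun x hx y hy =>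
    congrArg Subtype.val (hS.is_comm.comm (⟨x, hx⟩ : ↥(S : Subgroup L)) ⟨y, hy⟩)
  let A : Subgroup L :=
    { carrier := {x | x ∈ (S : Subgroup L) ∧ x * x = 1}
      one_mem' := ⟨one_mem _, one_mul 1⟩
      mul_mem' := fun {x y} hx hy => ⟨mul_mem hx.1 hy.1, by
        rw [(hc x hx.1 y hy.1).symm.mul_mul_mul_comm, hx.2, hy.2, one_mul]⟩
      inv_mem' := fun {x} hx => ⟨inv_mem hx.1, by rw [← mul_inv_rev, hx.2, inv_one]⟩ }
  have hAS : A ≤ (S : Subgroup L) := fun x hx => hx.1
  have hA : Cfsg.IsElementaryAbelian 2 A :=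
    ⟨⟨⟨fun a b => Subtype.ext (hc a (hAS a.2) b (hAS b.2)).eq⟩⟩, fun x hx => (pow_two x).trans hx.2⟩
  have hne : A ≠ ⊥ := by
    obtain ⟨x, hx⟩ := exists_prime_orderOf_dvd_card' (G := ↥(S : Subgroup L)) 2 (S.dvd_card_of_dvd_card h2)
    intro e
    have h1 : (x : L) ∈ A := ⟨x.2, by
      rw [← pow_two, ← Subgroup.coe_pow, orderOf_dvd_iff_pow_eq_one.1 (dvd_of_eq hx), Subgroup.coe_one]⟩
    rw [e, mem_bot] at h1
    rw [show x = 1 from Subtype.ext h1, orderOf_one] at hx
    omega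
  have hsc : Cfsg.IsStronglyClosed A (S : Subgroup L) := ⟨hAS, fun x hx g hg => ⟨hg, by
    rw [show g * x * g⁻¹ * (g * x * g⁻¹) = g * (x * x) * g⁻¹ by group, hx.2]; group⟩⟩
  obtain ⟨h1, -, -, htr⟩ := conclusion_all L inferInstance hna S A hne hA hsc
  have heq := h1.resolve_right hse
  have hirr : ∀ B : Subgroup L, B ≤ A → (∀ g ∈ normalizer (A : Set L), ∀ b ∈ B, g * b * g⁻¹ ∈ B) → B = ⊥ ∨ B = A := by
    intro B hBA hinv
    refine or_iff_not_imp_left.2 fun hB => le_antisymm hBA fun x hx => ?_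
    obtain ⟨b, hb, hb1⟩ := (bot_or_exists_ne_one B).resolve_left hB
    by_cases hx1 : x = 1
    · exact hx1 ▸ one_mem B
    obtain ⟨g, hg, rfl⟩ := htr b (hBA hb) x hx hb1 hx1
    exact hinv g hg b hb
  exact ⟨⟨S, A, inferInstance, hna, hne, hA, hsc, hirr, fun M _ _ _ hs hM => conclusion_all M hs hM⟩, heq, rfl⟩

/-- Induction: simple groups with abelian Sylow 2-subgroups of order eight are tame. -/
theorem tame_all (L : Type u) [Group L] [Finite L] (hsimp : IsSimpleGroup L) (hL : ¬ IsMulCommutative L)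
    (P : Sylow 2 L) (hP : Nat.card ↥(P : Subgroup L) = 8) (hPc : IsMulCommutative ↥(P : Subgroup L)) : Tame L := by
  suffices h : ∀ (n : ℕ) (L : Type u) [Group L] [Finite L], Nat.card L < n → IsSimpleGroup L →
      ¬ IsMulCommutative L → ∀ P : Sylow 2 L, Nat.card ↥(P : Subgroup L) = 8 →
      IsMulCommutative ↥(P : Subgroup L) → Tame L from h _ L (Nat.lt_succ_self _) hsimp hL P hP hPc
  intro n
  induction n with
  | zero => intro L _ _ h; exact absurd h (Nat.not_lt_zero _)
  | succ n ih =>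
    intro L _ _ hlt hs hL P hP hPc
    haveI := hs
    by_cases hse : ∃ H : Subgroup L, Cfsg.IsStronglyEmbedded H
    · obtain ⟨H, hH⟩ := hse
      exact se_tame hL hH P hP hPc
    obtain ⟨s, hsA, rfl⟩ := exists_setup hL ((show 2 ∣ 8 by norm_num).trans (hP ▸ card_subgroup_dvd_card _)) P hPc hse
    have h8 : 8 ≤ Nat.card s.A := by rw [← hsA, hP]
    have h : Cfg s := ⟨hsA, hse, (se_or_eight s h8).resolve_left hse,
      fun M _ _ hM => ih M (lt_of_lt_of_le hM (Nat.le_of_lt_succ hlt))⟩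
    exact h.tame_of_core fun t ht ht1 => coreCent_eq_bot h ht ht1

/-- Simple groups with abelian Sylow 2-subgroups. -/
theorem walter (G : Type u) [Group G] [Finite G] [IsSimpleGroup G] (hG : ¬ IsMulCommutative G)
    (h2 : 2 ∣ Nat.card G) (S : Sylow 2 G) (hS : IsMulCommutative ↥(S : Subgroup G)) :
    (∃ H : Subgroup G, Cfsg.IsStronglyEmbedded H) ∨
    (∃ (F : Type) (_ : Field F) (_ : Fintype F), Odd (Fintype.card F) ∧ 5 ≤ Fintype.card F ∧
      (Fintype.card F % 8 = 3 ∨ Fintype.card F % 8 = 5) ∧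
      Nonempty (G ≃* Matrix.ProjectiveSpecialLinearGroup (Fin 2) F)) ∨
    (Nat.card ↥(S : Subgroup G) = 8 ∧ (∀ x ∈ (S : Subgroup G), x * x = 1) ∧
      ∀ t ∈ (S : Subgroup G), t ≠ 1 → JRShape t) := by
  by_cases hse : ∃ H : Subgroup G, Cfsg.IsStronglyEmbedded H
  · exact Or.inl hse
  obtain ⟨s, hsA, rfl⟩ := exists_setup hG h2 S hS hse
  refine Or.inr ?_
  rcases Nat.lt_or_ge (Nat.card s.A) 8 with hlt | h8
  · left
    obtain ⟨k, hk⟩ := IsPGroup.iff_card.1 (Grp.elemAb_isPGroup s.elem)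
    have h4 := s.four_le
    have hk' : k < 3 := (Nat.pow_lt_pow_iff_right (le_refl 2)).1 (by rw [← hk]; exact hlt)
    have hc4 : Nat.card ↥s.A = 4 := by interval_cases k <;> simp_all
    refine exists_psl hG s.S ?_
    rw [hsA]
    refine ⟨hc4, Nat.dvd_antisymm (Monoid.exponent_dvd_of_forall_pow_eq_one fun x =>
      Subtype.ext (s.pow_two_eq x.2)) ?_⟩
    obtain ⟨a, ha, ha1⟩ := (bot_or_exists_ne_one s.A).resolve_left s.ne_bot
    have ho : orderOf (⟨a, ha⟩ : ↥s.A) = 2 := by rw [orderOf_mk]; exact s.orderOf_eq ha ha1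
    exact ho ▸ Monoid.order_dvd_exponent _
  · right
    have h : Cfg s := ⟨hsA, hse, (se_or_eight s h8).resolve_left hse, fun M _ _ _ hs hM => tame_all M hs hM⟩
    refine ⟨by rw [hsA]; exact h.eight.card, fun x hx => s.sq (hsA.le hx), fun t ht ht1 => ?_⟩
    have htA := hsA.le ht
    exact h.centralizer_shape htA ht1 (coreCent_eq_bot h htA ht1)

end Cfsg.Agent.Invol.AbelTwo
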